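import Cfsg.Agent.ZN.ChoiceBase
import Cfsg.Agent.MinSimple.Basic

/-!
# Natural `O₄⁻(2)`-modules (`S₅` on `F₂⁵ / ⟨1⟩`) as subgroups of a group

`FiveMod V L`: the subgroup `V` of `G` is identified with `F₂⁵ / ⟨(1,1,1,1,1)⟩` (= the even subsets of
`{0,..,4}`) in such a way that `L` induces exactly `S₅` on `V`.

* `M.e x`, `x : Fin 5 → ZMod 2`; `M.e x = M.e y ↔ x = y ∨ x = y + 1`; the singular vectors are the
  `M.e (Pi.single i 1)`;
* `M.Ind g p` : `g` acts as the permutation `p`; `M.pi : L →* Perm (Fin 5)`, surjective;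
* `M.cj g : FiveMod (cj g V) (cj g L)`, `M.relabel σ : FiveMod V L`;
* `le_o2_of_comm` : `x ∈ C = C_G(z)`, `[x, O₂(C)] ≤ ⟨z⟩` ⟹ `x ∈ O₂(C)` (characteristic 2).
-/

set_option autoImplicit false

namespace Cfsg.Agent.Omega.S5.Mod

open Subgroup Cfsg Cfsg.Agent.ZN Cfsg.Agent.ZN.ChoiceBase

universe u

variable {G : Type u} [Group G]

/-- `F₂⁵` -/
abbrev Vec := Fin 5 → ZMod 2

/-- `V` is the module `F₂⁵ / ⟨1⟩` for `L`, which induces `S₅` on it. -/
structure FiveMod (V L : Subgroup G) where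
  e : Vec → G
  e_add : ∀ x y, e (x + y) = e x * e y
  ker : ∀ x, e x = 1 ↔ x = 0 ∨ x = 1
  mem_iff : ∀ g, g ∈ V ↔ ∃ x, e x = g
  act : ∀ g ∈ L, ∃ p : Equiv.Perm (Fin 5), ∀ x, g * e x * g⁻¹ = e (x ∘ p.symm)
  lift : ∀ p : Equiv.Perm (Fin 5), ∃ g ∈ L, ∀ x, g * e x * g⁻¹ = e (x ∘ p.symm)

theorem add_self (x : Vec) : x + x = 0 := funext fun i => CharTwo.add_self_eq_zero (x i)

theorem sub_eq (x y : Vec) : x - y = x + y := by
  funext i
  exact CharTwo.sub_eq_add (x i) (y i)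

theorem add_add_cancel' (x y : Vec) : x + y + y = x := by rw [add_assoc, add_self, add_zero]

namespace FiveMod

variable {V L : Subgroup G} (M : FiveMod V L)

theorem e_zero : M.e 0 = 1 := (M.ker 0).2 (Or.inl rfl)

theorem e_one : M.e 1 = 1 := (M.ker 1).2 (Or.inr rfl)

theorem e_mem (x : Vec) : M.e x ∈ V := (M.mem_iff _).2 ⟨x, rfl⟩

theorem e_sq (x : Vec) : M.e x * M.e x = 1 := by rw [← M.e_add, add_self, M.e_zero]

theorem e_inv (x : Vec) : (M.e x)⁻¹ = M.e x := inv_eq_of_mul_eq_one_left (M.e_sq x)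

theorem e_comm (x y : Vec) : M.e x * M.e y = M.e y * M.e x := by
  rw [← M.e_add, ← M.e_add, add_comm]

theorem e_eq_iff {x y : Vec} : M.e x = M.e y ↔ x = y ∨ x = y + 1 := by
  have h : M.e x = M.e y ↔ M.e (x + y) = 1 := by
    rw [M.e_add]
    constructor
    · intro h; rw [h, M.e_sq]
    · intro h
      have := congrArg (· * M.e y) h
      simpa [mul_assoc, M.e_sq] using this
  rw [h, M.ker]
  constructor
  · rintro (h1 | h1)
    · left
      rw [← add_add_cancel' x y, h1, zero_add]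
    · right
      rw [← add_add_cancel' x y, h1, add_comm]
  · rintro (h1 | h1)
    · left; rw [h1, add_self]
    · right
      rw [h1, add_assoc, add_comm 1 y, ← add_assoc, add_self, zero_add]

include M in
theorem comm {v w : G} (hv : v ∈ V) (hw : w ∈ V) : v * w = w * v := by
  obtain ⟨x, rfl⟩ := (M.mem_iff v).1 hv
  obtain ⟨y, rfl⟩ := (M.mem_iff w).1 hw
  exact M.e_comm x y

include M in
theorem sq {v : G} (hv : v ∈ V) : v * v = 1 := by
  obtain ⟨x, rfl⟩ := (M.mem_iff v).1 hv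
  exact M.e_sq x

include M in
theorem isPGroup : IsPGroup 2 V := by
  rintro ⟨v, hv⟩
  refine ⟨1, Subtype.ext ?_⟩
  change v ^ (2 ^ 1) = 1
  rw [pow_one, pow_two]
  exact M.sq hv

/-- `g` acts on `V` as the permutation `p` -/
def Ind (g : G) (p : Equiv.Perm (Fin 5)) : Prop := ∀ x, g * M.e x * g⁻¹ = M.e (x ∘ p.symm)

variable {M}

theorem Ind.mul {g h : G} {p q : Equiv.Perm (Fin 5)} (hg : M.Ind g p) (hh : M.Ind h q) :
    M.Ind (g * h) (p * q) := by
  intro x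
  have h1 : g * h * M.e x * (g * h)⁻¹ = g * (h * M.e x * h⁻¹) * g⁻¹ := by group
  rw [h1, hh, hg]
  rfl

theorem Ind.inv {g : G} {p : Equiv.Perm (Fin 5)} (hg : M.Ind g p) : M.Ind g⁻¹ p⁻¹ := by
  intro x
  have h1 := hg (x ∘ p)
  have h2 : (x ∘ p) ∘ p.symm = x := by
    funext i; simp
  rw [h2] at h1
  rw [← h1, inv_inv]
  have h3 : g⁻¹ * (g * M.e (x ∘ p) * g⁻¹) * g = M.e (x ∘ p) := by group
  rw [h3]
  rfl

theorem Ind.mem_normalizer {g : G} {p : Equiv.Perm (Fin 5)} (hg : M.Ind g p) :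
    g ∈ normalizer (V : Set G) := by
  rw [mem_normalizer_iff]
  intro v
  constructor
  · intro hv
    obtain ⟨x, rfl⟩ := (M.mem_iff v).1 hv
    rw [hg]
    exact M.e_mem _
  · intro hv
    obtain ⟨x, hx⟩ := (M.mem_iff _).1 hv
    refine (M.mem_iff _).2 ⟨x ∘ p, ?_⟩
    have h1 := hg.inv x
    rw [hx] at h1
    have h2 : g⁻¹ * (g * v * g⁻¹) * g⁻¹⁻¹ = v := by group
    rw [h2] at h1
    rw [h1]
    rfl

theorem single_inj : ∀ j k : Fin 5, (Pi.single j 1 : Vec) = Pi.single k 1 ∨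
    (Pi.single j 1 : Vec) = Pi.single k 1 + 1 → j = k := by decide

theorem single_comp (p : Equiv.Perm (Fin 5)) (i : Fin 5) :
    (Pi.single i 1 : Vec) ∘ p.symm = Pi.single (p i) 1 := by
  funext j
  simp only [Function.comp_apply, Pi.single_apply, Equiv.symm_apply_eq]

theorem Ind.unique {g : G} {p q : Equiv.Perm (Fin 5)} (h1 : M.Ind g p) (h2 : M.Ind g q) :
    p = q := by
  ext i
  have h3 := (h1 (Pi.single i 1)).symm.trans (h2 (Pi.single i 1))
  rw [single_comp, single_comp, M.e_eq_iff] at h3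
  exact congrArg _ (single_inj _ _ h3)

theorem ind_one_iff {g : G} : M.Ind g 1 ↔ g ∈ centralizer (V : Set G) := by
  rw [mem_centralizer_iff]
  constructor
  · intro h v hv
    obtain ⟨x, rfl⟩ := (M.mem_iff v).1 hv
    have h1 := h x
    rw [mul_inv_eq_iff_eq_mul] at h1
    exact h1.symm
  · intro h x
    rw [mul_inv_eq_iff_eq_mul]
    exact (h _ (M.e_mem x)).symm

/-- `e x` is fixed by `g` iff `x` is fixed by `p` modulo `⟨1⟩`. -/
theorem Ind.commute_iff {g : G} {p : Equiv.Perm (Fin 5)} (h : M.Ind g p) (x : Vec) :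
    g * M.e x = M.e x * g ↔ x ∘ p.symm = x ∨ x ∘ p.symm = x + 1 := by
  rw [← M.e_eq_iff, ← h, mul_inv_eq_iff_eq_mul]

theorem Ind.comm_eq {g : G} {p : Equiv.Perm (Fin 5)} (h : M.Ind g p) (x : Vec) :
    g * M.e x * g⁻¹ * (M.e x)⁻¹ = M.e (x ∘ p.symm + x) := by
  rw [h, M.e_inv, M.e_add]

variable (M)

theorem ind_one : M.Ind 1 1 := ind_one_iff.2 (one_mem _)

/-- The permutation induced by an element of `L`. -/
noncomputable def pi : L →* Equiv.Perm (Fin 5) where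
  toFun g := (M.act g g.2).choose
  map_one' := Ind.unique (M := M) (g := 1) (M.act ((1 : L) : G) (1 : L).2).choose_spec M.ind_one
  map_mul' g h := Ind.unique (M := M) (g := (g : G) * h)
    (M.act ((g * h : L) : G) (g * h : L).2).choose_spec
    (Ind.mul (M := M) (M.act g g.2).choose_spec (M.act h h.2).choose_spec)

theorem pi_spec (g : L) : M.Ind (g : G) (M.pi g) := by
  intro x
  exact (M.act g g.2).choose_spec x

theorem pi_eq {g : L} {p : Equiv.Perm (Fin 5)} (h : M.Ind (g : G) p) :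
    M.pi g = p := Ind.unique (M.pi_spec g) h

theorem exists_ind {g : G} (hg : g ∈ L) : ∃ p, M.Ind g p := M.act g hg

theorem exists_lift (p : Equiv.Perm (Fin 5)) : ∃ g ∈ L, M.Ind g p := M.lift p

include M in
theorem le_normalizer : L ≤ normalizer (V : Set G) := fun _ hg =>
  (M.exists_ind hg).choose_spec.mem_normalizer

theorem pi_surjective : Function.Surjective M.pi := by
  intro p
  obtain ⟨g, hg, hi⟩ := M.exists_lift p
  exact ⟨⟨g, hg⟩, M.pi_eq hi⟩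

/-- The conjugate module. -/
def cj (g : G) : FiveMod (ChoiceBase.cj g V) (ChoiceBase.cj g L) where
  e x := g * M.e x * g⁻¹
  e_add x y := by rw [M.e_add]; group
  ker x := by
    rw [← M.ker, mul_inv_eq_iff_eq_mul, one_mul, mul_eq_left]
  mem_iff v := by
    rw [mem_cj, M.mem_iff]
    constructor
    · rintro ⟨x, hx⟩
      exact ⟨x, by rw [hx]; group⟩
    · rintro ⟨x, hx⟩
      exact ⟨x, by rw [← hx]; group⟩
  act h hh := by
    rw [mem_cj] at hh
    obtain ⟨p, hp⟩ := M.act _ hh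
    refine ⟨p, fun x => ?_⟩
    rw [← hp]; group
  lift p := by
    obtain ⟨h, hL, hh⟩ := M.lift p
    refine ⟨g * h * g⁻¹, ⟨h, hL, rfl⟩, fun x => ?_⟩
    rw [← hh]; group

theorem cj_e (g : G) (x : Vec) : (M.cj g).e x = g * M.e x * g⁻¹ := rfl

theorem cj_ind {g h : G} {p : Equiv.Perm (Fin 5)} (hh : M.Ind h p) :
    (M.cj g).Ind (g * h * g⁻¹) p := by
  intro x
  rw [cj_e, cj_e, ← hh]; group

theorem ind_of_cj {g h : G} {p : Equiv.Perm (Fin 5)} (hh : (M.cj g).Ind h p) :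
    M.Ind (g⁻¹ * h * g) p := by
  intro x
  have h1 := hh x
  rw [cj_e, cj_e] at h1
  calc g⁻¹ * h * g * M.e x * (g⁻¹ * h * g)⁻¹ = g⁻¹ * (h * (g * M.e x * g⁻¹) * h⁻¹) * g := by group
    _ = M.e (x ∘ p.symm) := by rw [h1]; group

/-- Changing the labels. -/
def relabel (σ : Equiv.Perm (Fin 5)) : FiveMod V L where
  e x := M.e (x ∘ σ.symm)
  e_add x y := by rw [← M.e_add]; rfl
  ker x := by
    rw [M.ker]
    constructor
    · rintro (h | h)
      · left
        funext i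
        have := congrFun h (σ i)
        simpa using this
      · right
        funext i
        have := congrFun h (σ i)
        simpa using this
    · rintro (rfl | rfl)
      · left; rfl
      · right; rfl
  mem_iff v := by
    rw [M.mem_iff]
    constructor
    · rintro ⟨x, rfl⟩
      refine ⟨x ∘ σ, ?_⟩
      congr 1
      funext i; simp
    · rintro ⟨x, rfl⟩
      exact ⟨_, rfl⟩
  act g hg := by
    obtain ⟨p, hp⟩ := M.act g hg
    refine ⟨σ⁻¹ * p * σ, fun x => ?_⟩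
    rw [hp]
    congr 1
    funext i
    change x (σ⁻¹ (p⁻¹ i)) = x ((σ⁻¹ * p * σ)⁻¹ (σ⁻¹ i))
    rw [← Equiv.Perm.mul_apply, ← Equiv.Perm.mul_apply]
    congr 2
    group
  lift p := by
    obtain ⟨g, hL, hg⟩ := M.lift (σ * p * σ⁻¹)
    refine ⟨g, hL, fun x => ?_⟩
    rw [hg]
    congr 1
    funext i
    change x (σ⁻¹ ((σ * p * σ⁻¹)⁻¹ i)) = x (p⁻¹ (σ⁻¹ i))
    rw [← Equiv.Perm.mul_apply, ← Equiv.Perm.mul_apply]
    congr 2
    group

theorem relabel_e (σ : Equiv.Perm (Fin 5)) (x : Vec) : (M.relabel σ).e x = M.e (x ∘ σ.symm) := rfl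

variable {M} in
theorem relabel_ind (σ : Equiv.Perm (Fin 5)) {g : G} {p : Equiv.Perm (Fin 5)} (h : M.Ind g p) :
    (M.relabel σ).Ind g (σ⁻¹ * p * σ) := by
  intro x
  rw [relabel_e, relabel_e, h]
  congr 1
  funext i
  change x (σ⁻¹ (p⁻¹ i)) = x ((σ⁻¹ * p * σ)⁻¹ (σ⁻¹ i))
  rw [← Equiv.Perm.mul_apply, ← Equiv.Perm.mul_apply]
  congr 2
  group

variable {M} in
theorem ind_of_relabel (σ : Equiv.Perm (Fin 5)) {g : G} {p : Equiv.Perm (Fin 5)}
    (h : (M.relabel σ).Ind g p) : M.Ind g (σ * p * σ⁻¹) := by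
  intro x
  have h1 := h (x ∘ σ)
  rw [relabel_e, relabel_e] at h1
  have e1 : (x ∘ σ) ∘ σ.symm = x := by funext i; simp
  rw [e1] at h1
  rw [h1]
  rfl

variable {M} in
/-- `x` acts on `V ^ (g l)` as on `V ^ g`, up to the permutation induced by `l`. -/
theorem cj_mul_ind {g l : G} {σ : Equiv.Perm (Fin 5)} (hl : M.Ind l σ) {x : G}
    {p : Equiv.Perm (Fin 5)} (hx : (M.cj g).Ind x p) : (M.cj (g * l)).Ind x (σ⁻¹ * p * σ) := by
  intro y
  have e : ∀ z, (M.cj (g * l)).e z = (M.cj g).e (z ∘ σ.symm) := by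
    intro z
    rw [M.cj_e, M.cj_e, ← hl]
    group
  rw [e, e, hx]
  congr 1
  funext i
  change y (σ⁻¹ (p⁻¹ i)) = y ((σ⁻¹ * p * σ)⁻¹ (σ⁻¹ i))
  rw [← Equiv.Perm.mul_apply, ← Equiv.Perm.mul_apply]
  congr 2
  group

end FiveMod

/-! ### Characteristic 2 -/

/-- In a group of characteristic 2 type: `x ∈ C = C_G(z)`, `z` an involution, `[x, O₂(C)] ≤ ⟨z⟩`
imply `x ∈ O₂(C)`. -/
theorem le_o2_of_comm [Finite G] (hG : IsCharacteristicTwoType G) {z : G} (hz : z ^ 2 = 1)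
    (hz1 : z ≠ 1) {x : G} (hx : x * z = z * x)
    (h : ∀ q ∈ o2 (centralizer ({z} : Set G)), x * q * x⁻¹ * q⁻¹ = 1 ∨ x * q * x⁻¹ * q⁻¹ = z) :
    x ∈ o2 (centralizer ({z} : Set G)) := by
  set C := centralizer ({z} : Set G) with hC
  set Q := o2 C with hQ
  have hzz : z * z = 1 := by rw [← pow_two]; exact hz
  have hmC : ∀ {y : G}, y ∈ C ↔ y * z = z * y := by
    intro y; rw [hC, mem_centralizer_singleton_iff]
  have hQC : Q ≤ C := MinSimple.VModule.o2_le C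
  have hn : ∀ {c q : G}, c ∈ C → q ∈ Q → c * q * c⁻¹ ∈ Q := fun hc hq =>
    (mem_normalizer_iff.1 (MinSimple.VModule.le_normalizer_o2 C hc) _).1 hq
  let D : Subgroup G :=
    { carrier := {y | y ∈ C ∧ ∀ q ∈ Q, y * q * y⁻¹ * q⁻¹ = 1 ∨ y * q * y⁻¹ * q⁻¹ = z}
      one_mem' := ⟨one_mem _, fun q _ => Or.inl (by group)⟩
      mul_mem' := by
        rintro a b ⟨ha, ha'⟩ ⟨hb, hb'⟩
        refine ⟨mul_mem ha hb, fun q hq => ?_⟩
        have h1 : a * b * q * (a * b)⁻¹ * q⁻¹ =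
            (a * (b * q * b⁻¹) * a⁻¹ * (b * q * b⁻¹)⁻¹) * (b * q * b⁻¹ * q⁻¹) := by group
        rw [h1]
        rcases ha' _ (hn hb hq) with h2 | h2 <;> rcases hb' q hq with h3 | h3 <;>
          rw [h2, h3] <;> simp [hzz]
      inv_mem' := by
        rintro a ⟨ha, ha'⟩
        refine ⟨inv_mem ha, fun q hq => ?_⟩
        have h1 : a⁻¹ * q * a⁻¹⁻¹ * q⁻¹ = (a * (a⁻¹ * q * a⁻¹⁻¹) * a⁻¹ * (a⁻¹ * q * a⁻¹⁻¹)⁻¹)⁻¹ := by
          group
        rw [h1]
        rcases ha' _ (hn (inv_mem ha) hq) with h2 | h2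
        · left; rw [h2, inv_one]
        · right; rw [h2]; exact inv_eq_of_mul_eq_one_left hzz }
  have hD : D ≤ C := fun y hy => hy.1
  -- `D` is a 2-group
  have hcent : ∀ y ∈ D, y * y ∈ Q := by
    rintro y ⟨hy, hy'⟩
    refine MinSimple.Basic.char2_centralizer hG hz hz1
      (mem_inf.2 ⟨mul_mem hy hy, mem_centralizer_iff.2 ?_⟩)
    intro q hq
    have h1 : y * y * q * (y * y)⁻¹ * q⁻¹ = y * (y * q * y⁻¹ * q⁻¹) * y⁻¹ * (y * q * y⁻¹ * q⁻¹) := by
      group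
    have h2 : y * y * q * (y * y)⁻¹ * q⁻¹ = 1 := by
      rw [h1]
      rcases hy' q hq with h3 | h3
      · rw [h3]; group
      · rw [h3, hmC.1 hy]
        have : z * y * y⁻¹ * z = z * z := by group
        rw [this, hzz]
    have h4 : y * y * q = (y * y * q * (y * y)⁻¹ * q⁻¹) * (q * (y * y)) := by
      simp only [mul_assoc, mul_inv_rev, inv_mul_cancel_left, inv_mul_cancel, mul_one]
    rw [h4, h2, one_mul]
  have hDp : IsPGroup 2 D := by
    rintro ⟨y, hy⟩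
    obtain ⟨k, hk⟩ := MinSimple.VModule.o2_isPGroup C ⟨y * y, hcent y hy⟩
    refine ⟨k + 1, Subtype.ext ?_⟩
    have h1 := congrArg Subtype.val hk
    change (y * y) ^ 2 ^ k = 1 at h1
    change y ^ 2 ^ (k + 1) = 1
    rw [pow_succ', pow_mul, pow_two]
    exact h1
  have hDn : C ≤ normalizer (D : Set G) := by
    intro c hc
    refine mem_normalizer_of_cj_le ?_
    rintro _ ⟨y, ⟨hy, hy'⟩, rfl⟩
    refine ⟨mul_mem (mul_mem hc hy) (inv_mem hc), fun q hq => ?_⟩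
    have h1 := hn (inv_mem hc) hq
    have h2 : c * y * c⁻¹ * q * (c * y * c⁻¹)⁻¹ * q⁻¹ =
        c * (y * (c⁻¹ * q * c⁻¹⁻¹) * y⁻¹ * (c⁻¹ * q * c⁻¹⁻¹)⁻¹) * c⁻¹ := by group
    change c * y * c⁻¹ * q * (c * y * c⁻¹)⁻¹ * q⁻¹ = 1 ∨ c * y * c⁻¹ * q * (c * y * c⁻¹)⁻¹ * q⁻¹ = z
    rw [h2]
    rcases hy' _ h1 with h3 | h3
    · left; rw [h3]; group
    · right; rw [h3, hmC.1 hc]; group
  exact MinSimple.VModule.le_o2 hD hDp hDn ⟨hmC.2 hx, h⟩

end Cfsg.Agent.Omega.S5.Mod
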