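import Cfsg.Agent.Omega.S5.Def
import Cfsg.Agent.Omega.VP

/-!
# II.c: a Sylow 2-subgroup on the even-subset module, `n = 2^m + 1`

`Fix0 ε S`: every element of `S` fixes the coordinate 0.  `EvenSet.exists_fix0`: such a labelling exists;
`EvenSet.trans`: a Sylow 2-subgroup is transitive on the other coordinates; `EvenSet.fixed`: its fixed points on `V`
are `1` and `z_0`.
-/

set_option autoImplicit false

namespace Cfsg.Agent.Omega.S5.Syl

open Subgroup Pointwise Cfsg.Agent.Omega.S5.Def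

universe u

variable {G : Type u} [Group G]

/-- `S` fixes the coordinate 0. -/
def Fix0 {n : ℕ} [NeZero n] (ε : (Fin n → ZMod 2) → G) (S : Subgroup G) : Prop :=
  ∀ s ∈ S, ∀ σ : Equiv.Perm (Fin n), Acts ε s σ → σ 0 = 0

variable {V L S : Subgroup G}

theorem three_le {m : ℕ} (hm : 1 ≤ m) : 3 ≤ 2 ^ m + 1 := by
  have : 2 ^ 1 ≤ 2 ^ m := Nat.pow_le_pow_right (by norm_num) hm
  omega

theorem five_le {m : ℕ} (hm : 2 ≤ m) : 5 ≤ 2 ^ m + 1 := by
  have : 2 ^ 2 ≤ 2 ^ m := Nat.pow_le_pow_right (by norm_num) hm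
  omega

/-- A 2-subgroup fixes a coordinate; a labelling with this coordinate called 0. -/
theorem exists_fix0 {m : ℕ} (hm : 1 ≤ m) {ε : (Fin (2 ^ m + 1) → ZMod 2) → G} (h : EvenSet (2 ^ m + 1) V L ε)
    (hS : IsPGroup 2 S) (hSL : S ≤ L) :
    ∃ ε' : (Fin (2 ^ m + 1) → ZMod 2) → G, EvenSet (2 ^ m + 1) V L ε' ∧ Fix0 ε' S := by
  have h2 : Fact (Nat.Prime 2) := ⟨Nat.prime_two⟩
  have hn := three_le hm
  let f : S →* Equiv.Perm (Fin (2 ^ m + 1)) := (h.hom hn).comp (Subgroup.inclusion hSL)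
  let act : MulAction S (Fin (2 ^ m + 1)) := MulAction.compHom _ f
  have hcard : ¬ 2 ∣ Nat.card (Fin (2 ^ m + 1)) := by
    rw [Nat.card_fin]
    intro h0
    have h1 : 2 ∣ 2 ^ m := dvd_pow_self 2 (by omega)
    omega
  obtain ⟨i, hi⟩ := hS.nonempty_fixed_point_of_prime_not_dvd_card (Fin (2 ^ m + 1)) hcard
  refine ⟨_, h.relabel (Equiv.swap i 0), ?_⟩
  intro s hs σ hσ
  have h1 : f ⟨s, hs⟩ i = i := hi ⟨s, hs⟩
  have h3 : Acts ε s (f ⟨s, hs⟩) := h.acts_hom hn ⟨s, hSL hs⟩
  have h4 := h3.relabel (Equiv.swap i 0)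
  have h5 := (h.relabel (Equiv.swap i 0)).acts_unique hn hσ h4
  rw [h5]
  simp [h1]

variable {m : ℕ} {ε : (Fin (2 ^ m + 1) → ZMod 2) → G}

/-- A Sylow 2-subgroup fixing the coordinate 0 is transitive on the others. -/
theorem trans [Finite G] (hm : 1 ≤ m) (h : EvenSet (2 ^ m + 1) V L ε) (hSL : S ≤ L)
    (hS2 : ¬ 2 ∣ S.relIndex L) (h0 : Fix0 ε S) {i j : Fin (2 ^ m + 1)} (hi : i ≠ 0) (hj : j ≠ 0) :
    ∃ s ∈ S, ∃ σ : Equiv.Perm (Fin (2 ^ m + 1)), Acts ε s σ ∧ σ i = j := by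
  have h2 : Fact (Nat.Prime 2) := ⟨Nat.prime_two⟩
  have hn := three_le hm
  let π := h.hom hn
  let actL : MulAction L (Fin (2 ^ m + 1)) := MulAction.compHom _ π
  have hact : ∀ (g : L) (k : Fin (2 ^ m + 1)), g • k = π g k := fun g k => rfl
  let H : Subgroup L := MulAction.stabilizer L (0 : Fin (2 ^ m + 1))
  let S' : Subgroup L := S.subgroupOf L
  have hS'H : S' ≤ H := by
    intro s hs
    rw [MulAction.mem_stabilizer_iff, hact]
    exact h0 s hs _ (h.acts_hom hn s)
  -- the orbit of `i` under `H`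
  let Hi : Subgroup L := H ⊓ MulAction.stabilizer L i
  let Si : Subgroup L := S' ⊓ MulAction.stabilizer L i
  have e1 : Si.relIndex S' * S'.relIndex H = Si.relIndex H :=
    relIndex_mul_relIndex _ _ _ inf_le_left hS'H
  have e2 : Si.relIndex Hi * Hi.relIndex H = Si.relIndex H :=
    relIndex_mul_relIndex _ _ _ (inf_le_inf_right _ hS'H) inf_le_left
  have horb : ∀ (K : Subgroup L), (K ⊓ MulAction.stabilizer L i).relIndex K =
      (MulAction.orbit K i).ncard := by
    intro K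
    rw [inf_relIndex_left, ← MulAction.index_stabilizer (G := K) (x := i), relIndex]
    rfl
  have hH : Hi.relIndex H = 2 ^ m := by
    rw [horb H]
    have h1 : MulAction.orbit H i = {0}ᶜ := by
      ext k
      rw [Set.mem_compl_iff, Set.mem_singleton_iff]
      constructor
      · rintro ⟨⟨g, hg⟩, rfl⟩ hk
        have h3 : π g 0 = 0 := hg
        have h4 : π g i = 0 := hk
        exact hi ((π g).injective (h4.trans h3.symm))
      · intro hk
        obtain ⟨g, hg⟩ := h.hom_surjective hn (Equiv.swap i k)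
        refine ⟨⟨g, ?_⟩, ?_⟩
        · rw [MulAction.mem_stabilizer_iff, hact]
          change h.hom hn g 0 = 0
          rw [hg, Equiv.swap_apply_of_ne_of_ne (Ne.symm hi) (Ne.symm hk)]
        · change h.hom hn g i = k
          rw [hg, Equiv.swap_apply_left]
    rw [h1, Set.ncard_compl, Set.ncard_singleton, Nat.card_fin]
    simp
  have hodd : ¬ 2 ∣ S'.relIndex H := by
    intro h3
    apply hS2
    have h4 : S'.relIndex H * H.relIndex ⊤ = S'.relIndex ⊤ := relIndex_mul_relIndex _ _ _ hS'H le_top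
    rw [relIndex_top_right (H := S')] at h4
    have h5 : S'.index = S.relIndex L := rfl
    rw [← h5, ← h4]
    exact dvd_mul_of_dvd_left h3 _
  have hdvd : 2 ^ m ∣ Si.relIndex S' := by
    have h3 : 2 ^ m ∣ Si.relIndex S' * S'.relIndex H := by
      rw [e1, ← e2, hH]
      exact dvd_mul_left _ _
    have h4 : (2 ^ m).Coprime (S'.relIndex H) :=
      Nat.Coprime.pow_left m ((Nat.Prime.coprime_iff_not_dvd Nat.prime_two).mpr hodd)
    exact h4.dvd_of_dvd_mul_right h3
  have hle : 2 ^ m ≤ (MulAction.orbit S' i).ncard := by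
    rw [← horb S']
    refine Nat.le_of_dvd (Nat.pos_of_ne_zero ?_) hdvd
    exact FiniteIndex.index_ne_zero
  have hsub : MulAction.orbit S' i ⊆ {0}ᶜ := by
    rintro k ⟨⟨g, hg⟩, rfl⟩ hk
    have h3 : π g 0 = 0 := hS'H hg
    have h4 : π g i = 0 := hk
    exact hi ((π g).injective (h4.trans h3.symm))
  have heq : MulAction.orbit S' i = {0}ᶜ := by
    refine Set.eq_of_subset_of_ncard_le hsub ?_ (Set.toFinite _)
    rw [Set.ncard_compl, Set.ncard_singleton, Nat.card_fin]
    simpa using hle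
  have hj' : j ∈ MulAction.orbit S' i := by
    rw [heq]
    exact hj
  obtain ⟨⟨g, hg⟩, hgj⟩ := hj'
  exact ⟨g, hg, π g, h.acts_hom hn g, hgj⟩

/-- The fixed points of a Sylow 2-subgroup on `V` are `1` and `z_0`. -/
theorem fixed [Finite G] (hm : 1 ≤ m) (h : EvenSet (2 ^ m + 1) V L ε) (hSL : S ≤ L)
    (hS2 : ¬ 2 ∣ S.relIndex L) (h0 : Fix0 ε S) {v : G} (hv : v ∈ V) (hfix : ∀ s ∈ S, s * v = v * s) :
    v = 1 ∨ v = ε (Pi.single 0 1) := by
  have hn := three_le hm
  obtain ⟨x, rfl⟩ := h.surj v hv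
  have hx : ∀ s ∈ S, ∀ σ, Acts ε s σ → x ∘ σ.symm = x := by
    intro s hs σ hσ
    have h1 := hσ x
    rw [hfix s hs, mul_inv_cancel_right] at h1
    rcases h.eq_iff.mp h1 with h3 | h3
    · exact h3.symm
    · exfalso
      have h4 := congrFun h3 0
      have h5 : σ.symm 0 = 0 := by rw [Equiv.symm_apply_eq]; exact (h0 s hs σ hσ).symm
      rw [Pi.add_apply, Function.comp_apply, h5, Pi.one_apply] at h4
      have h6 : (0 : ZMod 2) = 1 := by
        calc (0 : ZMod 2) = x 0 + x 0 := (CharTwo.add_self_eq_zero _).symm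
          _ = x 0 + (x 0 + 1) := by rw [← h4]
          _ = x 0 + x 0 + 1 := (add_assoc _ _ _).symm
          _ = 1 := by rw [CharTwo.add_self_eq_zero, zero_add]
      exact zero_ne_one h6
  have hconst : ∀ i j, i ≠ 0 → j ≠ 0 → x i = x j := by
    intro i j hi hj
    obtain ⟨s, hs, σ, hσ, hij⟩ := trans hm h hSL hS2 h0 hi hj
    have h1 := congrFun (hx s hs σ hσ) j
    rw [Function.comp_apply] at h1
    rw [← h1, ← hij, Equiv.symm_apply_apply]
  have h1 : (1 : Fin (2 ^ m + 1)) ≠ 0 := by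
    intro h3
    have h4 := congrArg Fin.val h3
    rw [Fin.val_one', Fin.val_zero, Nat.mod_eq_of_lt (by omega)] at h4
    exact one_ne_zero h4
  have h01 : ∀ a : ZMod 2, a = 0 ∨ a = 1 := by decide
  have hx' : x = x 1 • (1 : Fin (2 ^ m + 1) → ZMod 2) + (x 0 + x 1) • Pi.single 0 1 := by
    funext i
    by_cases hi : i = 0
    · subst hi
      simp only [Pi.add_apply, Pi.smul_apply, Pi.one_apply, smul_eq_mul, mul_one, Pi.single_eq_same]
      rw [add_comm (x 0), ← add_assoc, CharTwo.add_self_eq_zero, zero_add]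
    · simp only [Pi.add_apply, Pi.smul_apply, Pi.one_apply, smul_eq_mul, mul_one]
      rw [Pi.single_eq_of_ne hi, mul_zero, add_zero]
      exact hconst _ _ hi h1
  rw [hx', h.add]
  rcases h01 (x 1) with h3 | h3 <;> rcases h01 (x 0 + x 1) with h4 | h4
  · left; rw [h4, h3, zero_smul, zero_smul, h.zero, mul_one]
  · right; rw [h4, h3, zero_smul, one_smul, h.zero, one_mul]
  · left; rw [h4, h3, one_smul, zero_smul, h.one, h.zero, mul_one]
  · right; rw [h4, h3, one_smul, one_smul, h.one, one_mul]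

end Cfsg.Agent.Omega.S5.Syl
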