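import Cfsg.Agent.Omega.S5.Of
import Cfsg.Agent.Omega.FrameMulti
import Cfsg.Agent.Omega.FFMutual

/-!
# II.c: normal position of a mutual pair; pairs with members of type `S_{2^m+1}`

* `exists_pos` : `V' = (V_{P₂})^y ≤ S` and `V_{P₁} ≤ S^y` after a change of `x`;
* `Side V A ε` : `A` acts on the labelled module `V` by products of disjoint transpositions, all of which are induced
  by `A`;
* `Side.comm_eq`, `match_swap` : a transposition induced by `V'` on `V` has the same commutator `⟨n⟩` as a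
  transposition induced by `V` on `V'`.
-/

set_option autoImplicit false

namespace Cfsg.Agent.Omega.S5.Pair

open Subgroup Pointwise Cfsg Cfsg.Agent.ZN Cfsg.Agent.ZN.ChoiceBase
open Cfsg.Agent.Omega.MinPar Cfsg.Agent.Omega.FFThm
open Cfsg.Agent.Omega.FrameFF (cv Free)
open Cfsg.Agent.Omega.FrameMulti (IsSym IsNat Typed AllTyped)
open Cfsg.Agent.Omega.S5.Def Cfsg.Agent.Omega.S5.Syl
open Cfsg.Agent.MinSimple.VModule (le_normalizer_zl)

universe u

variable {G : Type u} [Group G]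

/-! ### Normal position -/

theorem Mutual.change {S P₁ P₂ : Subgroup G} {x y : G} (h : Mutual S P₁ P₂ x)
    (hxy : cj y (zl S P₂) = cj x (zl S P₂)) : Mutual S P₁ P₂ y := by
  have e : (MulAut.conj y • zl S P₂ : Subgroup G) = MulAut.conj x • zl S P₂ := hxy
  refine ⟨h.star₁, h.star₂, ?_, ?_, ?_⟩
  · rw [e]; exact h.le₁
  · rw [e]; exact h.le₂
  · rw [e]; exact h.ne

theorem Mutual.conj_left {S P₁ P₂ : Subgroup G} {x n : G} (h : Mutual S P₁ P₂ x)
    (hn : n ∈ normalizer (zl S P₁ : Set G)) : Mutual S P₁ P₂ (n * x) := by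
  have e : (MulAut.conj (n * x) • zl S P₂ : Subgroup G) = MulAut.conj n • MulAut.conj x • zl S P₂ :=
    (cj_cj n x _).symm
  have e1 : (MulAut.conj n • zl S P₁ : Subgroup G) = zl S P₁ := cj_eq_of_mem_normalizer hn
  refine ⟨h.star₁, h.star₂, ?_, ?_, ?_⟩
  · rw [e, MinSimple.CosetFam.normalizer_conj, ← e1]
    exact conj_smul_mono_iff.mpr h.le₁
  · have h1 := conj_smul_mono_iff (g := n) |>.mpr h.le₂
    rw [← MinSimple.CosetFam.normalizer_conj, e1] at h1
    rw [e]
    exact h1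
  · intro h0
    apply h.ne
    have h2 : (⁅zl S P₁, MulAut.conj (n * x) • zl S P₂⁆ : Subgroup G) =
        MulAut.conj n • ⁅zl S P₁, MulAut.conj x • zl S P₂⁆ := by
      rw [conj_smul_commutator, e1, e]
    have h3 : MulAut.conj n⁻¹ • ⁅zl S P₁, MulAut.conj (n * x) • zl S P₂⁆ =
        ⁅zl S P₁, MulAut.conj x • zl S P₂⁆ := by
      rw [h2, conj_inv_smul]
    rw [← h3, h0]
    exact smul_bot _

/-- **Normal position.** -/
theorem exists_pos [Finite G] (hc : IsCharacteristicTwoType G) (S : Sylow 2 G) {P₁ P₂ : Subgroup G} {x : G}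
    (h : Mutual (S : Subgroup G) P₁ P₂ x) : ∃ y : G, Mutual (S : Subgroup G) P₁ P₂ y ∧
      cj y (zl (S : Subgroup G) P₂) ≤ (S : Subgroup G) ∧ zl (S : Subgroup G) P₁ ≤ cj y (S : Subgroup G) := by
  have e1 := elem_zl hc S h.star₁.isLoc
  have e2 := elem_zl hc S h.star₂.isLoc
  obtain ⟨n, hn, h1⟩ := exists_conj_le S (h.star₁.le.trans (le_normalizer_zl _ _))
    (isPGroup_of_elem (isElementaryAbelian_cj x e2)) h.le₂
  have hm1 := Mutual.conj_left h hn
  rw [cj_cj] at h1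
  have h2 : cj (n * x)⁻¹ (zl (S : Subgroup G) P₁) ≤ normalizer (zl (S : Subgroup G) P₂ : Set G) := by
    rw [cj_le_iff, inv_inv, cj_normalizer]
    exact hm1.le₁
  obtain ⟨k, hk, h3⟩ := exists_conj_le S (h.star₂.le.trans (le_normalizer_zl _ _))
    (isPGroup_of_elem (isElementaryAbelian_cj (n * x)⁻¹ e1)) h2
  have h4 : cj (n * x * k⁻¹) (zl (S : Subgroup G) P₂) = cj (n * x) (zl (S : Subgroup G) P₂) := by
    rw [← cj_cj, cj_eq_of_mem_normalizer (Subgroup.inv_mem _ hk)]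
  refine ⟨n * x * k⁻¹, Mutual.change hm1 h4, ?_, ?_⟩
  · rw [h4]
    exact h1
  · rw [cj_cj, cj_le_iff] at h3
    have h5 : (k * (n * x)⁻¹)⁻¹ = n * x * k⁻¹ := by group
    rwa [h5] at h3

/-! ### One side -/

/-- `A` acts on the labelled module by products of disjoint transpositions induced by `A`. -/
def Side {n : ℕ} (A : Subgroup G) (ε : (Fin n → ZMod 2) → G) : Prop :=
  ∀ a ∈ A, ∃ τ : Equiv.Perm (Fin n), Acts ε a τ ∧ ∀ i, τ i ≠ i → τ (τ i) = i ∧
    ∃ b ∈ A, Acts ε b (Equiv.swap i (τ i))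

theorem Side.conj {n : ℕ} {A : Subgroup G} {ε : (Fin n → ZMod 2) → G} (h : Side A ε) (c : G) :
    Side (cj c A) (fun x => c * ε x * c⁻¹) := by
  intro a ha
  rw [mem_cj] at ha
  obtain ⟨τ, h1, h2⟩ := h _ ha
  have e : c * (c⁻¹ * a * c) * c⁻¹ = a := by group
  refine ⟨τ, ?_, fun i hi => ⟨(h2 i hi).1, ?_⟩⟩
  · have h3 := h1.conj_label c
    rwa [e] at h3
  · obtain ⟨b, hb, h3⟩ := (h2 i hi).2
    refine ⟨c * b * c⁻¹, ?_, h3.conj_label c⟩
    rw [mem_cj]
    have e' : c⁻¹ * (c * b * c⁻¹) * c = b := by group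
    rwa [e']

/-- The members of type `S_{2^m+1}` with `C_V(O²(P)) = 1` are labelled. -/
theorem exists_lab (S : Subgroup G) {P : Subgroup G} {m : ℕ} (hm : 2 ≤ m) (hSP : S ≤ P)
    (h : IsSym S P 1 m) (hF : Free S P) :
    ∃ ε : (Fin (2 ^ m + 1) → ZMod 2) → G, EvenSet (2 ^ m + 1) (zl S P) P ε ∧ Fix0 ε S ∧
      ∀ A : Subgroup G, A ≤ S → Off (zl S P) A → Side A ε := by
  obtain ⟨N⟩ := h
  have hm1 : 1 ≤ m := by omega
  exact ⟨_, Of.evenSet N hF hm1 (le_normalizer_zl _ _), Of.fix0 N hF hm1 (le_normalizer_zl _ _) hSP,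
    fun A hA hoff a ha => Of.off N hF hm1 (le_normalizer_zl _ _) hSP hA hoff ha⟩

/-! ### Transpositions -/

section swap

variable {n : ℕ} {V L : Subgroup G} {ε : (Fin n → ZMod 2) → G}

theorem comp_swap (u : Fin n → ZMod 2) (i j : Fin n) :
    u ∘ (Equiv.swap i j).symm = u + (u i + u j) • (Pi.single i 1 + Pi.single j 1) := by
  have h01 : ∀ a b : ZMod 2, b = a + (a + b) * 1 := by decide
  funext k
  simp only [Function.comp_apply, Equiv.symm_swap, Pi.add_apply, Pi.smul_apply, smul_eq_mul]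
  by_cases hij : i = j
  · subst hij
    rw [CharTwo.add_self_eq_zero, zero_mul, add_zero]
    simp
  · by_cases hi : k = i
    · subst hi
      rw [Equiv.swap_apply_left, Pi.single_eq_same, Pi.single_eq_of_ne hij, add_zero]
      exact h01 _ _
    · by_cases hj : k = j
      · subst hj
        rw [Equiv.swap_apply_right, Pi.single_eq_same, Pi.single_eq_of_ne hi, zero_add, add_comm (u i)]
        exact h01 _ _
      · rw [Equiv.swap_apply_of_ne_of_ne hi hj, Pi.single_eq_of_ne hi, Pi.single_eq_of_ne hj, add_zero,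
          mul_zero, add_zero]

/-- A transposition acts as a transvection. -/
theorem acts_swap (h : EvenSet n V L ε) {b : G} {i j : Fin n} (hb : Acts ε b (Equiv.swap i j))
    (u : Fin n → ZMod 2) :
    (u i = u j → b * ε u = ε u * b) ∧
      (u i ≠ u j → b * ε u * b⁻¹ = ε u * ε (Pi.single i 1 + Pi.single j 1)) := by
  have h01 : ∀ a b : ZMod 2, a ≠ b → a + b = 1 := by decide
  have h1 := hb u
  rw [comp_swap] at h1
  constructor
  · intro hu
    rw [hu, CharTwo.add_self_eq_zero, zero_smul, add_zero] at h1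
    calc b * ε u = b * ε u * b⁻¹ * b := by group
      _ = ε u * b := by rw [h1]
  · intro hu
    rw [h01 _ _ hu, one_smul, h.add] at h1
    exact h1

theorem pair_ne_one (h : EvenSet n V L ε) (hn : 3 ≤ n) {i j : Fin n} (hij : i ≠ j) :
    ε (Pi.single i 1 + Pi.single j 1) ≠ 1 := by
  intro h0
  rw [h.add] at h0
  refine hij (h.single_inj hn ?_)
  rw [← h.inv (Pi.single j 1)]
  exact eq_inv_of_mul_eq_one_left h0

/-- `b` acting as `(i j)` commutes with `ε u` iff `u i = u j`. -/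
theorem swap_comm_iff (h : EvenSet n V L ε) (hn : 3 ≤ n) {b : G} {i j : Fin n} (hij : i ≠ j)
    (hb : Acts ε b (Equiv.swap i j)) (u : Fin n → ZMod 2) : b * ε u = ε u * b ↔ u i = u j := by
  refine ⟨fun h1 => ?_, (acts_swap h hb u).1⟩
  by_contra hu
  have h2 := (acts_swap h hb u).2 hu
  rw [h1, mul_inv_cancel_right, left_eq_mul] at h2
  exact pair_ne_one h hn hij h2

end swap

/-- **Matching.** A transposition induced by `V'` on `V` and a transposition induced by `V` on `V'` with the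
same commutator. -/
theorem match_swap {n n' : ℕ} {V V' L L' : Subgroup G} {ε : (Fin n → ZMod 2) → G}
    {ε' : (Fin n' → ZMod 2) → G} (h : EvenSet n V L ε) (h' : EvenSet n' V' L' ε') (hn : 3 ≤ n) (hn' : 3 ≤ n')
    (hs : Side V ε') {b : G} (hb : b ∈ V') {i j : Fin n} (hij : i ≠ j) (hbs : Acts ε b (Equiv.swap i j)) :
    ∃ k l : Fin n', k ≠ l ∧ ε (Pi.single i 1 + Pi.single j 1) = ε' (Pi.single k 1 + Pi.single l 1) ∧
      ∃ c ∈ V, Acts ε' c (Equiv.swap k l) ∧ b * c ≠ c * b := by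
  obtain ⟨w, rfl⟩ := h'.surj b hb
  -- `v = ε (single i)` does not commute with `b`
  have hv : ε' w * ε (Pi.single i 1) ≠ ε (Pi.single i 1) * ε' w := by
    intro h1
    have h2 := (swap_comm_iff h hn hij hbs _).mp h1
    rw [Pi.single_eq_same, Pi.single_eq_of_ne hij.symm] at h2
    exact one_ne_zero h2
  obtain ⟨τ, hτ, hτ2⟩ := hs _ (h.mem (Pi.single i 1))
  have hk : ∃ k, w (τ.symm k) ≠ w k := by
    by_contra hc
    push Not at hc
    have h1 := hτ w
    have h2 : w ∘ τ.symm = w := funext hc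
    rw [h2] at h1
    apply hv
    calc ε' w * ε (Pi.single i 1) = ε (Pi.single i 1) * ε' w * (ε (Pi.single i 1))⁻¹ * ε (Pi.single i 1) := by
          rw [h1]
      _ = ε (Pi.single i 1) * ε' w := by group
  obtain ⟨k, hk⟩ := hk
  have hkk : τ k ≠ k := by
    intro h0
    have h1 : τ.symm k = k := by rw [Equiv.symm_apply_eq]; exact h0.symm
    rw [h1] at hk
    exact hk rfl
  obtain ⟨h2, c, hc, hcs⟩ := hτ2 k hkk
  have hτk : τ.symm k = τ k := by rw [Equiv.symm_apply_eq]; exact h2.symm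
  rw [hτk] at hk
  obtain ⟨u, rfl⟩ := h.surj c hc
  have e1 := (acts_swap h' hcs w).2 (Ne.symm hk)
  have hne : ε' w * ε u ≠ ε u * ε' w := by
    intro h0
    rw [← h0, mul_inv_cancel_right, left_eq_mul] at e1
    exact pair_ne_one h' hn' hkk.symm e1
  refine ⟨k, τ k, hkk.symm, ?_, ε u, hc, hcs, hne⟩
  have hu : u i ≠ u j := fun h0 => hne ((acts_swap h hbs u).1 h0)
  have e2 := (acts_swap h hbs u).2 hu
  -- both are the commutator
  have e3 : ε u * ε' w * (ε u)⁻¹ = ε' (Pi.single k 1 + Pi.single (τ k) 1) * ε' w := by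
    rw [e1, h'.comm]
  have e4 : ε' w * ε u * (ε' w)⁻¹ = ε u * ε (Pi.single i 1 + Pi.single j 1) := e2
  have e5 : ε' (Pi.single k 1 + Pi.single (τ k) 1) = ε u * ε' w * (ε u)⁻¹ * (ε' w)⁻¹ := by
    rw [e3, mul_inv_cancel_right]
  have e6 : ε (Pi.single i 1 + Pi.single j 1) = (ε u)⁻¹ * (ε' w * ε u * (ε' w)⁻¹) := by
    rw [e4, inv_mul_cancel_left]
  rw [e5, e6, h.inv u]
  have e7 : ε u * ε' w * ε u * (ε' w)⁻¹ = ε u * (ε' w * ε u * (ε' w)⁻¹) := by group
  rw [e7]

end Cfsg.Agent.Omega.S5.Pair
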