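import Cfsg.Agent.Omega.S5.Mod

/-!
# OMEGA II.c: there is no mutual pair of type TT-TT (helper615, #12314), the core

`Pos S M M₂ h`: `V`, `V₂` are natural `O₄⁻(2)`-modules (of `L`, `L₂ ≥ S`) normalised by the Sylow
2-subgroup `S`, `Ω₁(Z(S)) ≤ V`, `V' = V₂ ^ h` and `V` act on each other as `⟨(0 1), (2 3)⟩`, where
`V` and `V₂` have the same `R = {1, n, a, s}`, `n = {0 1}`, `a = {2 3}`, `s = n a` and `h` centralises
`R`. In a group of characteristic 2 type this is impossible (`Pos.false`).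
-/

set_option autoImplicit false

namespace Cfsg.Agent.Omega.S5.TT

open Subgroup Cfsg Cfsg.Agent.ZN Cfsg.Agent.ZN.ChoiceBase
open Cfsg.Agent.Omega.S5.Mod
open Cfsg.Agent.MinSimple.VModule (o2_isPGroup le_o2 o2_le le_normalizer_o2 o2_le_of_sylow
  normalizer_le_normalizer_zc)

universe u

variable {G : Type u} [Group G]

def nn : Vec := ![1, 1, 0, 0, 0]
def aa : Vec := ![0, 0, 1, 1, 0]
def ss : Vec := ![0, 0, 0, 0, 1]
/-- `(0 1)(2 3)` -/
def dd : Equiv.Perm (Fin 5) := Equiv.swap 0 1 * Equiv.swap 2 3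
/-- `(0 2)(1 3)` -/
def tt : Equiv.Perm (Fin 5) := Equiv.swap 0 2 * Equiv.swap 1 3

/-- `p ∈ ⟨(0 1), (2 3)⟩` -/
def TTp (p : Equiv.Perm (Fin 5)) : Prop :=
  p = 1 ∨ p = Equiv.swap 0 1 ∨ p = Equiv.swap 2 3 ∨ p = dd

/-- `p ∈ V₄` -/
def V4p (p : Equiv.Perm (Fin 5)) : Prop :=
  p = 1 ∨ p = dd ∨ p = tt ∨ p = dd * tt

/-- the even subsets of `{0, 1, 2, 3}` -/
def InE (x : Vec) : Prop := x 4 = 0 ∧ x 0 + x 1 + x 2 + x 3 = 0

instance : DecidablePred TTp := fun _ => by unfold TTp; infer_instance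
instance : DecidablePred V4p := fun _ => by unfold V4p; infer_instance
instance : DecidablePred InE := fun _ => by unfold InE; infer_instance

theorem fix_ss : ∀ p : Equiv.Perm (Fin 5), p * dd = dd * p → ss ∘ p.symm = ss := by
  decide +kernel

theorem ttp_of : ∀ p : Equiv.Perm (Fin 5), p * dd = dd * p →
    (nn ∘ p.symm = nn ∨ nn ∘ p.symm = nn + 1) → TTp p := by
  decide +kernel

theorem ttp_or : ∀ p : Equiv.Perm (Fin 5), p * dd = dd * p → TTp p ∨ TTp (p * tt) := by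
  decide +kernel

theorem v4_of : ∀ p : Equiv.Perm (Fin 5), p * dd = dd * p →
    Equiv.swap 1 2 * p * (Equiv.swap 1 2)⁻¹ * dd = dd * (Equiv.swap 1 2 * p * (Equiv.swap 1 2)⁻¹) →
    V4p p := by
  decide +kernel

theorem v4_comm : ∀ p : Equiv.Perm (Fin 5), V4p p → ∀ x : Vec, InE x →
    (x ∘ p.symm + x = 0 ∨ x ∘ p.symm + x = 1) ∨ (x ∘ p.symm + x = ss ∨ x ∘ p.symm + x = ss + 1) := by
  intro p hp
  rcases hp with rfl | rfl | rfl | rfl <;> decide +kernel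

theorem v4_tt : ∀ p : Equiv.Perm (Fin 5), V4p p → TTp p → p = 1 ∨ p = dd := by
  intro p h1 h2
  rcases h1 with rfl | rfl | rfl | rfl
  · exact Or.inl rfl
  · exact Or.inr rfl
  · revert h2; decide
  · revert h2; decide

theorem ttp_dd : ∀ p : Equiv.Perm (Fin 5), TTp p → p * dd = dd * p := by
  intro p hp
  rcases hp with rfl | rfl | rfl | rfl <;> decide

theorem ttp_nn : ∀ p : Equiv.Perm (Fin 5), TTp p → nn ∘ p.symm = nn := by
  intro p hp
  rcases hp with rfl | rfl | rfl | rfl <;> decide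

theorem ttp_aa : ∀ p : Equiv.Perm (Fin 5), TTp p → aa ∘ p.symm = aa := by
  intro p hp
  rcases hp with rfl | rfl | rfl | rfl <;> decide

theorem fix_all : ∀ x : Vec, (x ∘ (Equiv.swap 0 1 : Equiv.Perm (Fin 5)).symm = x ∨
    x ∘ (Equiv.swap 0 1 : Equiv.Perm (Fin 5)).symm = x + 1) →
    (x ∘ (Equiv.swap 2 3 : Equiv.Perm (Fin 5)).symm = x ∨
    x ∘ (Equiv.swap 2 3 : Equiv.Perm (Fin 5)).symm = x + 1) →
    (x ∘ tt.symm = x ∨ x ∘ tt.symm = x + 1) → (x = 0 ∨ x = 1) ∨ (x = ss ∨ x = ss + 1) := by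
  decide +kernel

theorem ttp_fix : ∀ p : Equiv.Perm (Fin 5), TTp p →
    ((![0, 0, 0, 1, 1] : Vec) ∘ p.symm = ![0, 0, 0, 1, 1] ∨
      (![0, 0, 0, 1, 1] : Vec) ∘ p.symm = ![0, 0, 0, 1, 1] + 1) → p = 1 ∨ p = Equiv.swap 0 1 := by
  intro p hp
  rcases hp with rfl | rfl | rfl | rfl <;> decide

theorem swap_comm : ∀ x : Vec, (x ∘ (Equiv.swap 0 1 : Equiv.Perm (Fin 5)).symm + x = 0 ∨
      x ∘ (Equiv.swap 0 1 : Equiv.Perm (Fin 5)).symm + x = 1) ∨
    (x ∘ (Equiv.swap 0 1 : Equiv.Perm (Fin 5)).symm + x = nn ∨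
      x ∘ (Equiv.swap 0 1 : Equiv.Perm (Fin 5)).symm + x = nn + 1) := by
  decide +kernel

section tools

/-- Sylow's theorem in the subgroup `C ≥ S`. -/
theorem exists_conj_le_sylow [Finite G] (S : Sylow 2 G) (C X : Subgroup G)
    (hSC : (S : Subgroup G) ≤ C) (hX : IsPGroup 2 X) (hXC : X ≤ C) :
    ∃ c ∈ C, ∀ x ∈ X, c * x * c⁻¹ ∈ (S : Subgroup G) := by
  have : Fact (Nat.Prime 2) := ⟨Nat.prime_two⟩
  have hX' : IsPGroup 2 (X.subgroupOf C) := hX.comap_subtype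
  obtain ⟨S2, hS2⟩ := hX'.exists_le_sylow
  have hsy : ¬ 2 ∣ ((S : Subgroup G).subgroupOf C).index := MinSimple.Basic.not_dvd_relIndex S hSC
  obtain ⟨c, hc⟩ := MulAction.exists_smul_eq C S2
    ((S.isPGroup'.comap_of_injective _ C.subtype_injective).toSylow hsy)
  refine ⟨c, c.2, fun x hx => ?_⟩
  have h1 : (⟨x, hXC hx⟩ : C) ∈ (S2 : Subgroup C) := hS2 (Subgroup.mem_subgroupOf.mpr hx)
  have h2 : c * ⟨x, hXC hx⟩ * c⁻¹ ∈ ((c • S2 : Sylow 2 C) : Subgroup C) := by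
    rw [Sylow.coe_subgroup_smul]
    exact Subgroup.smul_mem_pointwise_smul _ (MulAut.conj c) _ h1
  rw [hc] at h2
  exact mem_subgroupOf.1 h2

/-- The normaliser condition. -/
theorem exists_mem_normalizer [Finite G] {A B : Subgroup G} (hA : IsPGroup 2 A) (hBA : B ≤ A)
    (hAB : ¬ A ≤ B) : ∃ r ∈ A, r ∉ B ∧ r ∈ normalizer (B : Set G) := by
  have hlt : B.subgroupOf A < ⊤ := by
    rw [lt_top_iff_ne_top, Ne, subgroupOf_eq_top]
    exact hAB
  have : Fact (Nat.Prime 2) := ⟨Nat.prime_two⟩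
  have hnc : NormalizerCondition A := by
    have := hA.isNilpotent
    exact Group.normalizerCondition_of_isNilpotent
  obtain ⟨x, hx, hxB⟩ := SetLike.exists_of_lt (hnc _ hlt)
  refine ⟨x, x.2, fun h => hxB (mem_subgroupOf.2 h), ?_⟩
  refine mem_normalizer_of_cj_le ?_
  rintro _ ⟨y, hy, rfl⟩
  exact mem_subgroupOf.1 ((mem_normalizer_iff.1 hx ⟨y, hBA hy⟩).1 (mem_subgroupOf.2 hy))

/-- Conjugation by `d` maps `O₂(C(s))` to `O₂(C(d s d⁻¹))`. -/
theorem o2_conj (d s : G) :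
    cj d (o2 (centralizer ({s} : Set G))) = o2 (centralizer ({d * s * d⁻¹} : Set G)) := by
  rw [← pCore_cj]
  congr 1
  ext y
  rw [mem_cj, mem_centralizer_singleton_iff, mem_centralizer_singleton_iff]
  constructor
  · intro h1
    have := congrArg (fun w => d * w * d⁻¹) h1
    calc y * (d * s * d⁻¹) = d * (d⁻¹ * y * d * s) * d⁻¹ := by group
      _ = d * (s * (d⁻¹ * y * d)) * d⁻¹ := by rw [h1]
      _ = d * s * d⁻¹ * y := by group
  · intro h1
    calc d⁻¹ * y * d * s = d⁻¹ * (y * (d * s * d⁻¹)) * d := by group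
      _ = d⁻¹ * (d * s * d⁻¹ * y) * d := by rw [h1]
      _ = s * (d⁻¹ * y * d) := by group

end tools

/-- The configuration TT-TT. -/
structure Pos (S : Sylow 2 G) {V L V₂ L₂ : Subgroup G} (M : FiveMod V L) (M₂ : FiveMod V₂ L₂)
    (h : G) : Prop where
  two : IsCharacteristicTwoType G
  S_le : (S : Subgroup G) ≤ L
  S_le₂ : (S : Subgroup G) ≤ L₂
  zS : zc (S : Subgroup G) ≤ V
  d8 : ∀ g ∈ (S : Subgroup G), ∀ p, M.Ind g p → p * dd = dd * p
  d8' : ∀ p, p * dd = dd * p → ∃ g ∈ (S : Subgroup G), M.Ind g p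
  d8₂ : ∀ g ∈ (S : Subgroup G), ∀ p, M₂.Ind g p → p * dd = dd * p
  en : M₂.e nn = M.e nn
  ea : M₂.e aa = M.e aa
  hn : h * M.e nn = M.e nn * h
  ha : h * M.e aa = M.e aa * h
  act : ∀ v ∈ cj h V₂, ∃ p, TTp p ∧ M.Ind v p
  act' : ∀ v ∈ V, ∃ p, TTp p ∧ (M₂.cj h).Ind v p
  sur' : ∀ p, TTp p → ∃ v ∈ V, (M₂.cj h).Ind v p

namespace Pos

variable {S : Sylow 2 G} {V L V₂ L₂ : Subgroup G} {M : FiveMod V L} {M₂ : FiveMod V₂ L₂} {h : G}

theorem mem_C {x y : G} : x ∈ centralizer ({y} : Set G) ↔ x * y = y * x :=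
  mem_centralizer_singleton_iff

variable (M)

theorem na : M.e nn * M.e aa = M.e ss := by
  rw [← M.e_add, M.e_eq_iff]; decide

theorem ns : M.e nn * M.e ss = M.e aa := by
  rw [← M.e_add, M.e_eq_iff]; decide

theorem as : M.e aa * M.e ss = M.e nn := by
  rw [← M.e_add, M.e_eq_iff]; decide

theorem sn : M.e ss * M.e nn = M.e aa := by
  rw [← M.e_add, M.e_eq_iff]; decide

theorem n_ne : M.e nn ≠ 1 := by
  rw [Ne, M.ker]; decide

theorem s_ne : M.e ss ≠ 1 := by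
  rw [Ne, M.ker]; decide

theorem a_ne : M.e aa ≠ 1 := by
  rw [Ne, M.ker]; decide

theorem n_ne_a : M.e nn ≠ M.e aa := by
  rw [Ne, M.e_eq_iff]; decide

theorem n_ne_s : M.e nn ≠ M.e ss := by
  rw [Ne, M.e_eq_iff]; decide

theorem a_ne_s : M.e aa ≠ M.e ss := by
  rw [Ne, M.e_eq_iff]; decide

theorem e_sq' (x : Vec) : M.e x ^ 2 = 1 := by rw [pow_two, M.e_sq]

variable {M}

section

variable (t : Pos S M M₂ h)
include t

theorem hs : h * M.e ss = M.e ss * h := by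
  rw [← na M]
  calc h * (M.e nn * M.e aa) = (h * M.e nn) * M.e aa := by group
    _ = M.e nn * (h * M.e aa) := by rw [t.hn]; group
    _ = M.e nn * M.e aa * h := by rw [t.ha]; group

theorem S_comm {g : G} (hg : g ∈ (S : Subgroup G)) : g * M.e ss = M.e ss * g := by
  obtain ⟨p, hp⟩ := M.exists_ind (t.S_le hg)
  exact (hp.commute_iff _).2 (Or.inl (fix_ss p (t.d8 g hg p hp)))

variable [Finite G]

theorem Q_le_S : o2 (centralizer ({M.e ss} : Set G)) ≤ (S : Subgroup G) :=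
  o2_le_of_sylow S.isPGroup' (MinSimple.Basic.not_dvd_relIndex S fun _ hg => mem_C.2 (t.S_comm hg))

omit t [Finite G] in
/-- `O₂(C(s))` acts inside `V₄`. -/
theorem Q_ind_aux {V L : Subgroup G} {M : FiveMod V L} (hSL : (S : Subgroup G) ≤ L)
    (hd : ∀ g ∈ (S : Subgroup G), ∀ p, M.Ind g p → p * dd = dd * p)
    (hQS : o2 (centralizer ({M.e ss} : Set G)) ≤ (S : Subgroup G)) {q : G}
    (hq : q ∈ o2 (centralizer ({M.e ss} : Set G))) : ∃ p, V4p p ∧ M.Ind q p := by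
  have hqS := hQS hq
  obtain ⟨p, hp⟩ := M.exists_ind (hSL hqS)
  refine ⟨p, v4_of p (hd q hqS p hp) ?_, hp⟩
  obtain ⟨g, -, hg⟩ := M.exists_lift (Equiv.swap 1 2)
  have hg : M.Ind g (Equiv.swap 1 2) := hg
  have hgC : g ∈ centralizer ({M.e ss} : Set G) :=
    mem_C.2 ((hg.commute_iff _).2 (Or.inl (by decide)))
  have h1 : g * q * g⁻¹ ∈ o2 (centralizer ({M.e ss} : Set G)) :=
    (mem_normalizer_iff.1 (le_normalizer_o2 _ hgC) _).1 hq
  exact hd _ (hQS h1) _ ((hg.mul hp).mul hg.inv)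

omit t [Finite G] in
theorem comm_E_aux {V L : Subgroup G} {M : FiveMod V L} {q : G} {p : Equiv.Perm (Fin 5)}
    (hp : V4p p) (hi : M.Ind q p) {x : Vec} (hx : InE x) :
    q * M.e x * q⁻¹ * (M.e x)⁻¹ = 1 ∨ q * M.e x * q⁻¹ * (M.e x)⁻¹ = M.e ss := by
  rw [hi.comm_eq]
  rcases v4_comm p hp x hx with h1 | h1
  · exact Or.inl ((M.ker _).2 h1)
  · exact Or.inr (M.e_eq_iff.2 h1)

omit [Finite G] in
theorem es : M₂.e ss = M.e ss := by
  rw [← na M, ← na M₂, t.en, t.ea]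

theorem Q_ind {q : G} (hq : q ∈ o2 (centralizer ({M.e ss} : Set G))) : ∃ p, V4p p ∧ M.Ind q p :=
  Q_ind_aux t.S_le t.d8 t.Q_le_S hq

theorem Q_ind₂ {q : G} (hq : q ∈ o2 (centralizer ({M.e ss} : Set G))) : ∃ p, V4p p ∧ M₂.Ind q p := by
  have h1 := t.Q_le_S
  rw [← t.es] at h1 hq
  exact Q_ind_aux t.S_le₂ t.d8₂ h1 hq

theorem comm_E {q : G} (hq : q ∈ o2 (centralizer ({M.e ss} : Set G))) {x : Vec} (hx : InE x) :
    q * M.e x * q⁻¹ * (M.e x)⁻¹ = 1 ∨ q * M.e x * q⁻¹ * (M.e x)⁻¹ = M.e ss := by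
  obtain ⟨p, hp, hi⟩ := t.Q_ind hq
  exact comm_E_aux hp hi hx

theorem comm_E₂ {q : G} (hq : q ∈ o2 (centralizer ({M.e ss} : Set G))) {x : Vec} (hx : InE x) :
    q * M₂.e x * q⁻¹ * (M₂.e x)⁻¹ = 1 ∨ q * M₂.e x * q⁻¹ * (M₂.e x)⁻¹ = M.e ss := by
  obtain ⟨p, hp, hi⟩ := t.Q_ind₂ hq
  rw [← t.es]
  exact comm_E_aux hp hi hx

theorem E_le {x : Vec} (hx : InE x) : M.e x ∈ o2 (centralizer ({M.e ss} : Set G)) := by
  refine le_o2_of_comm t.two (e_sq' M ss) (s_ne M) (M.e_comm x ss) fun q hq => ?_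
  have h1 : M.e x * q * (M.e x)⁻¹ * q⁻¹ = (q * M.e x * q⁻¹ * (M.e x)⁻¹)⁻¹ := by group
  rw [h1]
  rcases t.comm_E hq hx with h2 | h2
  · left; rw [h2, inv_one]
  · right; rw [h2, M.e_inv]

theorem E_le₂ {x : Vec} (hx : InE x) : M₂.e x ∈ o2 (centralizer ({M.e ss} : Set G)) := by
  refine le_o2_of_comm t.two (e_sq' M ss) (s_ne M) ?_ fun q hq => ?_
  · rw [← t.es]; exact M₂.e_comm x ss
  have h1 : M₂.e x * q * (M₂.e x)⁻¹ * q⁻¹ = (q * M₂.e x * q⁻¹ * (M₂.e x)⁻¹)⁻¹ := by group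
  rw [h1]
  rcases t.comm_E₂ hq hx with h2 | h2
  · left; rw [h2, inv_one]
  · right; rw [h2, M.e_inv]

omit t [Finite G] in
/-- The commutators of `Q` centralise the conjugates of `E`. -/
theorem claimX_aux {u : G} (hu : ∀ q ∈ o2 (centralizer ({M.e ss} : Set G)),
      q * u * q⁻¹ * u⁻¹ = 1 ∨ q * u * q⁻¹ * u⁻¹ = M.e ss)
    {c : G} (hc : c ∈ centralizer ({M.e ss} : Set G)) {q r : G}
    (hq : q ∈ o2 (centralizer ({M.e ss} : Set G))) (hr : r ∈ o2 (centralizer ({M.e ss} : Set G))) :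
    (q * r * q⁻¹ * r⁻¹) * (c * u * c⁻¹) = (c * u * c⁻¹) * (q * r * q⁻¹ * r⁻¹) := by
  set y := c * u * c⁻¹ with hy
  have hcs := mem_C.1 hc
  have key : ∀ w ∈ o2 (centralizer ({M.e ss} : Set G)),
      w * y * w⁻¹ = y ∨ w * y * w⁻¹ = M.e ss * y := by
    intro w hw
    have h1 : c⁻¹ * w * c ∈ o2 (centralizer ({M.e ss} : Set G)) := by
      have := (mem_normalizer_iff.1 (le_normalizer_o2 _ (inv_mem hc)) _).1 hw
      rwa [inv_inv] at this
    have h2 : w * y * w⁻¹ =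
        c * ((c⁻¹ * w * c) * u * (c⁻¹ * w * c)⁻¹ * u⁻¹) * c⁻¹ * y := by
      rw [hy]; group
    rcases hu _ h1 with h3 | h3
    · left; rw [h2, h3]; group
    · right; rw [h2, h3, hcs]; group
  have hws : ∀ w ∈ o2 (centralizer ({M.e ss} : Set G)), w * M.e ss = M.e ss * w :=
    fun w hw => mem_C.1 (o2_le _ hw)
  -- conjugation by `q r` and `r q`
  have h1 : ∀ w ∈ o2 (centralizer ({M.e ss} : Set G)),
      ∀ v ∈ o2 (centralizer ({M.e ss} : Set G)),
        w * v * y * (w * v)⁻¹ = v * w * y * (v * w)⁻¹ := by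
    intro w hw v hv
    have e1 : w * v * y * (w * v)⁻¹ = w * (v * y * v⁻¹) * w⁻¹ := by group
    have e2 : v * w * y * (v * w)⁻¹ = v * (w * y * w⁻¹) * v⁻¹ := by group
    rw [e1, e2]
    rcases key w hw with h2 | h2 <;> rcases key v hv with h3 | h3
    · rw [h3, h2, h3]
    · rw [h3, h2, h3]
      calc w * (M.e ss * y) * w⁻¹ = (w * M.e ss) * y * w⁻¹ := by group
        _ = M.e ss * (w * y * w⁻¹) := by rw [hws w hw]; group
        _ = M.e ss * y := by rw [h2]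
    · rw [h3, h2]
      calc M.e ss * y = M.e ss * (v * y * v⁻¹) := by rw [h3]
        _ = (M.e ss * v) * y * v⁻¹ := by group
        _ = v * (M.e ss * y) * v⁻¹ := by rw [← hws v hv]; group
    · rw [h3, h2]
      calc w * (M.e ss * y) * w⁻¹ = (w * M.e ss) * y * w⁻¹ := by group
        _ = M.e ss * (w * y * w⁻¹) := by rw [hws w hw]; group
        _ = M.e ss * (v * y * v⁻¹) := by rw [h2, h3]
        _ = (M.e ss * v) * y * v⁻¹ := by group
        _ = v * (M.e ss * y) * v⁻¹ := by rw [← hws v hv]; group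
  have h2 := h1 q⁻¹ (inv_mem hq) r⁻¹ (inv_mem hr)
  -- `(r q) (q⁻¹ ... )`
  have h3 : (q * r * q⁻¹ * r⁻¹) * y * (q * r * q⁻¹ * r⁻¹)⁻¹ =
      q * r * (q⁻¹ * r⁻¹ * y * (q⁻¹ * r⁻¹)⁻¹) * (q * r)⁻¹ := by group
  have h4 : (q * r * q⁻¹ * r⁻¹) * y * (q * r * q⁻¹ * r⁻¹)⁻¹ = y := by
    rw [h3, h2]; group
  rw [mul_inv_eq_iff_eq_mul] at h4
  exact h4

theorem claimX {c : G} (hc : c ∈ centralizer ({M.e ss} : Set G)) {x : Vec} (hx : InE x) {q r : G}
    (hq : q ∈ o2 (centralizer ({M.e ss} : Set G))) (hr : r ∈ o2 (centralizer ({M.e ss} : Set G))) :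
    (q * r * q⁻¹ * r⁻¹) * (c * M.e x * c⁻¹) = (c * M.e x * c⁻¹) * (q * r * q⁻¹ * r⁻¹) :=
  claimX_aux (fun _ hw => t.comm_E hw hx) hc hq hr

theorem claimX₂ {c : G} (hc : c ∈ centralizer ({M.e ss} : Set G)) {x : Vec} (hx : InE x) {q r : G}
    (hq : q ∈ o2 (centralizer ({M.e ss} : Set G))) (hr : r ∈ o2 (centralizer ({M.e ss} : Set G))) :
    (q * r * q⁻¹ * r⁻¹) * (c * M₂.e x * c⁻¹) = (c * M₂.e x * c⁻¹) * (q * r * q⁻¹ * r⁻¹) :=
  claimX_aux (fun _ hw => t.comm_E₂ hw hx) hc hq hr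

/-- `n` does not centralise all the conjugates of `E`. -/
theorem claimY : ∃ c ∈ centralizer ({M.e ss} : Set G), ∃ x, InE x ∧
    M.e nn * (c * M₂.e x * c⁻¹) ≠ (c * M₂.e x * c⁻¹) * M.e nn := by
  have hC : h ∈ centralizer ({M.e ss} : Set G) := mem_C.2 t.hs
  set x : Vec := ![1, 0, 1, 0, 0] with hx
  have hxE : InE x := by decide
  set u := h * M₂.e x * h⁻¹ with hu
  have huQ : u ∈ o2 (centralizer ({M.e ss} : Set G)) :=
    (mem_normalizer_iff.1 (le_normalizer_o2 _ hC) _).1 (t.E_le₂ hxE)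
  have huV : u ∈ cj h V₂ := ⟨M₂.e x, M₂.e_mem x, rfl⟩
  obtain ⟨p, hp, hpi⟩ := t.act u huV
  obtain ⟨p', hp', hpi'⟩ := t.Q_ind huQ
  have e1 : p' = p := hpi'.unique hpi
  subst e1
  rcases v4_tt _ hp' hp with rfl | rfl
  · exfalso
    obtain ⟨v, hv, hvi⟩ := t.sur' dd (by decide)
    have h1 := hvi x
    rw [M₂.cj_e, M₂.cj_e] at h1
    have h2 := mem_centralizer_iff.1 (FiveMod.ind_one_iff.1 hpi) v hv
    have h3 : v * (h * M₂.e x * h⁻¹) * v⁻¹ = h * M₂.e x * h⁻¹ := by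
      rw [mul_inv_eq_iff_eq_mul]; exact h2
    rw [h3] at h1
    have h4 : M₂.e x = M₂.e (x ∘ dd.symm) := by
      have := congrArg (fun y => h⁻¹ * y * h) h1
      simpa [mul_assoc] using this
    rw [M₂.e_eq_iff] at h4
    revert h4
    rw [hx]
    decide
  · obtain ⟨g, -, hg⟩ := M.exists_lift (Equiv.swap 1 2)
    have hgC : g ∈ centralizer ({M.e ss} : Set G) :=
      mem_C.2 ((hg.commute_iff _).2 (Or.inl (by decide)))
    refine ⟨g⁻¹ * h, mul_mem (inv_mem hgC) hC, x, hxE, fun h1 => ?_⟩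
    -- conjugate by `g`
    have h2 : g * M.e nn * g⁻¹ = M.e x := by
      rw [hg, M.e_eq_iff]; left; decide
    have h3 : M.e x * u = u * M.e x := by
      have h4 := congrArg (fun y => g * y * g⁻¹) h1
      have e1 : g * (M.e nn * (g⁻¹ * h * M₂.e x * (g⁻¹ * h)⁻¹)) * g⁻¹ =
          (g * M.e nn * g⁻¹) * (h * M₂.e x * h⁻¹) := by group
      have e2 : g * (g⁻¹ * h * M₂.e x * (g⁻¹ * h)⁻¹ * M.e nn) * g⁻¹ =
          (h * M₂.e x * h⁻¹) * (g * M.e nn * g⁻¹) := by group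
      change g * (M.e nn * (g⁻¹ * h * M₂.e x * (g⁻¹ * h)⁻¹)) * g⁻¹ =
        g * (g⁻¹ * h * M₂.e x * (g⁻¹ * h)⁻¹ * M.e nn) * g⁻¹ at h4
      rw [e1, e2, h2] at h4
      exact h4
    have h5 := (hpi.commute_iff x).1 h3.symm
    revert h5
    rw [hx]
    decide

omit [Finite G] in
/-- `u = h e(2) h⁻¹` acts on `V` as `(2 3)`. -/
theorem u_ind : M.Ind (h * M₂.e ![0, 0, 1, 0, 0] * h⁻¹) (Equiv.swap 2 3) := by
  set x : Vec := ![0, 0, 1, 0, 0] with hx
  set u := h * M₂.e x * h⁻¹ with hu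
  have huV : u ∈ cj h V₂ := ⟨M₂.e x, M₂.e_mem x, rfl⟩
  have hu2 : u * u = 1 := by
    rw [hu]
    calc h * M₂.e x * h⁻¹ * (h * M₂.e x * h⁻¹) = h * (M₂.e x * M₂.e x) * h⁻¹ := by group
      _ = 1 := by rw [M₂.e_sq]; group
  -- `[v, u] ∈ {1, a}` for `v ∈ V`
  have key : ∀ v ∈ V, v * u * v⁻¹ = u ∨ v * u * v⁻¹ = M.e aa * u := by
    intro v hv
    obtain ⟨p, hp, hpi⟩ := t.act' v hv
    have h1 := hpi x
    rw [M₂.cj_e, M₂.cj_e] at h1
    have h2 : M₂.e (x ∘ p.symm) = M₂.e x ∨ M₂.e (x ∘ p.symm) = M₂.e aa * M₂.e x := by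
      rw [← M₂.e_add, M₂.e_eq_iff, M₂.e_eq_iff, hx]
      rcases hp with rfl | rfl | rfl | rfl <;> decide
    rcases h2 with h2 | h2
    · left
      rw [h2] at h1
      exact h1
    · right
      rw [h2] at h1
      rw [← hu] at h1
      rw [h1, hu, t.ea]
      calc h * (M.e aa * M₂.e x) * h⁻¹ = (h * M.e aa) * M₂.e x * h⁻¹ := by group
        _ = M.e aa * (h * M₂.e x * h⁻¹) := by rw [t.ha]; group
  obtain ⟨p, hp, hpi⟩ := t.act u huV
  -- `e (y + y ∘ p) ∈ {1, a}`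
  have key2 : ∀ y : Vec, M.e (y ∘ p.symm + y) = 1 ∨ M.e (y ∘ p.symm + y) = M.e aa := by
    intro y
    rw [← hpi.comm_eq]
    have h1 : u * M.e y * u⁻¹ * (M.e y)⁻¹ = u * (M.e y * u * (M.e y)⁻¹)⁻¹ := by group
    rw [h1]
    rcases key _ (M.e_mem y) with h2 | h2
    · left; rw [h2, mul_inv_cancel]
    · right; rw [h2, mul_inv_rev, mul_inv_cancel_left, M.e_inv]
  rcases hp with rfl | rfl | rfl | rfl
  · exfalso
    obtain ⟨v, hv, hvi⟩ := t.sur' (Equiv.swap 2 3) (by decide)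
    have h1 := hvi x
    rw [M₂.cj_e, M₂.cj_e] at h1
    have h2 := mem_centralizer_iff.1 (FiveMod.ind_one_iff.1 hpi) v hv
    have h3 : v * (h * M₂.e x * h⁻¹) * v⁻¹ = h * M₂.e x * h⁻¹ := by
      rw [mul_inv_eq_iff_eq_mul]; exact h2
    rw [h3] at h1
    have h4 : M₂.e x = M₂.e (x ∘ (Equiv.swap 2 3).symm) := by
      have := congrArg (fun y => h⁻¹ * y * h) h1
      simpa [mul_assoc] using this
    rw [M₂.e_eq_iff] at h4
    revert h4
    rw [hx]
    decide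
  · exfalso
    have := key2 ![1, 0, 0, 0, 0]
    rw [M.ker, M.e_eq_iff] at this
    revert this
    decide
  · exact hpi
  · exfalso
    have := key2 ![1, 0, 0, 0, 0]
    rw [M.ker, M.e_eq_iff] at this
    revert this
    decide

/-! ### Case (ii): `N_G(T)` moves `s` -/

theorem case_two {d : G} (h1 : d * M.e ss * d⁻¹ = M.e nn) (h2 : d * M.e nn * d⁻¹ = M.e aa) :
    False := by
  have hO := o2_conj d (M.e ss)
  rw [h1] at hO
  have hn : ∀ {c q : G}, c ∈ centralizer ({M.e nn} : Set G) →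
      q ∈ o2 (centralizer ({M.e nn} : Set G)) → c * q * c⁻¹ ∈ o2 (centralizer ({M.e nn} : Set G)) :=
    fun hc hq => (mem_normalizer_iff.1 (le_normalizer_o2 _ hc) _).1 hq
  have hd : ∀ q ∈ o2 (centralizer ({M.e ss} : Set G)),
      d * q * d⁻¹ ∈ o2 (centralizer ({M.e nn} : Set G)) := by
    intro q hq
    rw [← hO]
    exact ⟨q, hq, rfl⟩
  -- `R ≤ Q_n`
  have hnQ : M.e nn ∈ o2 (centralizer ({M.e nn} : Set G)) := by
    have := hd _ (t.E_le (x := ss + 1) (by decide))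
    have e : M.e (ss + 1) = M.e ss := by rw [M.e_eq_iff]; right; rfl
    rwa [e, h1] at this
  have haQ : M.e aa ∈ o2 (centralizer ({M.e nn} : Set G)) := by
    have := hd _ (t.E_le (x := nn) (by decide))
    rwa [h2] at this
  have hs2 : M.e ![0, 0, 1, 0, 0] ∈ o2 (centralizer ({M.e nn} : Set G)) := by
    obtain ⟨l, -, hl⟩ := M.exists_lift (Equiv.swap 2 4)
    have hlC : l ∈ centralizer ({M.e nn} : Set G) :=
      mem_C.2 ((hl.commute_iff _).2 (Or.inl (by decide)))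
    have h3 := hn hlC haQ
    rw [hl] at h3
    have h4 := mul_mem hnQ h3
    rw [← M.e_add] at h4
    have e : M.e (nn + aa ∘ (Equiv.swap 2 4).symm) = M.e ![0, 0, 1, 0, 0] := by
      rw [M.e_eq_iff]; right; decide
    rwa [e] at h4
  have hs2' : M₂.e ![0, 0, 1, 0, 0] ∈ o2 (centralizer ({M.e nn} : Set G)) := by
    obtain ⟨l, -, hl⟩ := M₂.exists_lift (Equiv.swap 2 4)
    have hlC : l ∈ centralizer ({M.e nn} : Set G) := by
      rw [← t.en]
      exact mem_C.2 ((hl.commute_iff _).2 (Or.inl (by decide)))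
    rw [← t.ea] at haQ
    have h3 := hn hlC haQ
    rw [hl] at h3
    rw [← t.en] at hnQ h3
    have h4 := mul_mem hnQ h3
    rw [← M₂.e_add] at h4
    have e : M₂.e (nn + aa ∘ (Equiv.swap 2 4).symm) = M₂.e ![0, 0, 1, 0, 0] := by
      rw [M₂.e_eq_iff]; right; decide
    rw [e, t.en] at h4
    exact h4
  have hu : h * M₂.e ![0, 0, 1, 0, 0] * h⁻¹ ∈ o2 (centralizer ({M.e nn} : Set G)) :=
    hn (mem_C.2 t.hn) hs2'
  have hc := t.u_ind.comm_eq ![0, 0, 1, 0, 0]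
  have e : M.e (![0, 0, 1, 0, 0] ∘ (Equiv.swap 2 3).symm + ![0, 0, 1, 0, 0]) = M.e aa := by
    rw [M.e_eq_iff]; left; decide
  rw [e] at hc
  -- pull back by `d`
  have hback : ∀ q ∈ o2 (centralizer ({M.e nn} : Set G)),
      d⁻¹ * q * d ∈ o2 (centralizer ({M.e ss} : Set G)) := by
    intro q hq
    rw [← hO, mem_cj] at hq
    exact hq
  obtain ⟨c, hcC, x, hx, hne⟩ := t.claimY
  apply hne
  have h3 := t.claimX₂ hcC hx (hback _ hu) (hback _ hs2)
  have h4 : d⁻¹ * (h * M₂.e ![0, 0, 1, 0, 0] * h⁻¹) * d * (d⁻¹ * M.e ![0, 0, 1, 0, 0] * d) *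
      (d⁻¹ * (h * M₂.e ![0, 0, 1, 0, 0] * h⁻¹) * d)⁻¹ * (d⁻¹ * M.e ![0, 0, 1, 0, 0] * d)⁻¹ =
      M.e nn := by
    have e1 : d⁻¹ * (h * M₂.e ![0, 0, 1, 0, 0] * h⁻¹) * d * (d⁻¹ * M.e ![0, 0, 1, 0, 0] * d) *
        (d⁻¹ * (h * M₂.e ![0, 0, 1, 0, 0] * h⁻¹) * d)⁻¹ * (d⁻¹ * M.e ![0, 0, 1, 0, 0] * d)⁻¹ =
        d⁻¹ * (h * M₂.e ![0, 0, 1, 0, 0] * h⁻¹ * M.e ![0, 0, 1, 0, 0] *
          (h * M₂.e ![0, 0, 1, 0, 0] * h⁻¹)⁻¹ * (M.e ![0, 0, 1, 0, 0])⁻¹) * d := by group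
    rw [e1, hc, ← h2]
    group
  rw [h4] at h3
  exact h3

/-! ### The group `T = C_S(R)` -/

omit [Finite G] in
theorem T_ind {g : G} (hg : g ∈ (S : Subgroup G) ⊓ centralizer ({M.e nn} : Set G)) :
    ∃ p, TTp p ∧ M.Ind g p := by
  obtain ⟨p, hp⟩ := M.exists_ind (t.S_le hg.1)
  exact ⟨p, ttp_of p (t.d8 g hg.1 p hp) ((hp.commute_iff _).1 (mem_C.1 hg.2)), hp⟩

omit [Finite G] in
theorem T_ind₂ {g : G} (hg : g ∈ (S : Subgroup G) ⊓ centralizer ({M.e nn} : Set G)) :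
    ∃ p, TTp p ∧ M₂.Ind g p := by
  obtain ⟨p, hp⟩ := M₂.exists_ind (t.S_le₂ hg.1)
  refine ⟨p, ttp_of p (t.d8₂ g hg.1 p hp) ((hp.commute_iff _).1 ?_), hp⟩
  rw [t.en]
  exact mem_C.1 hg.2

omit [Finite G] in
/-- an element of `S` swapping `n` and `a` -/
theorem exists_swap : ∃ g ∈ (S : Subgroup G), M.Ind g tt := t.d8' tt (by decide)

omit t [Finite G] in
theorem tt_n {g : G} (hg : M.Ind g tt) : g * M.e nn * g⁻¹ = M.e aa := by
  rw [hg, M.e_eq_iff]; decide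

omit t [Finite G] in
theorem tt_a {g : G} (hg : M.Ind g tt) : g * M.e aa * g⁻¹ = M.e nn := by
  rw [hg, M.e_eq_iff]; decide

omit t [Finite G] in
theorem tt_s {g : G} (hg : M.Ind g tt) : g * M.e ss * g⁻¹ = M.e ss := by
  rw [hg, M.e_eq_iff]; decide

omit [Finite G] in
theorem T_comm_a {g : G} (hg : g ∈ (S : Subgroup G) ⊓ centralizer ({M.e nn} : Set G)) :
    g * M.e aa = M.e aa * g := by
  obtain ⟨p, hp, hi⟩ := t.T_ind hg
  exact (hi.commute_iff _).2 (Or.inl (ttp_aa p hp))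

omit [Finite G] in
/-- `g ∈ S` swapping `n`, `a` normalises `T`. -/
theorem conj_T {g : G} (hgS : g ∈ (S : Subgroup G)) (hg : M.Ind g tt) {x : G}
    (hx : x ∈ (S : Subgroup G) ⊓ centralizer ({M.e nn} : Set G)) :
    g * x * g⁻¹ ∈ (S : Subgroup G) ⊓ centralizer ({M.e nn} : Set G) := by
  refine mem_inf.2 ⟨mul_mem (mul_mem hgS hx.1) (inv_mem hgS), mem_C.2 ?_⟩
  rw [← tt_a hg]
  calc g * x * g⁻¹ * (g * M.e aa * g⁻¹) = g * (x * M.e aa) * g⁻¹ := by group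
    _ = g * (M.e aa * x) * g⁻¹ := by rw [t.T_comm_a hx]
    _ = g * M.e aa * g⁻¹ * (g * x * g⁻¹) := by group

omit t [Finite G] in
theorem mem_T_of_ind {g : G} (hg : g ∈ (S : Subgroup G)) {p : Equiv.Perm (Fin 5)} (hp : TTp p)
    (hi : M.Ind g p) : g ∈ (S : Subgroup G) ⊓ centralizer ({M.e nn} : Set G) :=
  ⟨hg, mem_C.2 ((hi.commute_iff _).2 (Or.inl (ttp_nn p hp)))⟩

omit [Finite G] in
/-- `S = T ∪ T g`. -/
theorem mem_or {g : G} (hgS : g ∈ (S : Subgroup G)) (hg : M.Ind g tt) {x : G}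
    (hx : x ∈ (S : Subgroup G)) : x ∈ (S : Subgroup G) ⊓ centralizer ({M.e nn} : Set G) ∨
      x * g ∈ (S : Subgroup G) ⊓ centralizer ({M.e nn} : Set G) := by
  obtain ⟨p, hp⟩ := M.exists_ind (t.S_le hx)
  rcases ttp_or p (t.d8 x hx p hp) with h1 | h1
  · exact Or.inl (mem_T_of_ind hx h1 hp)
  · exact Or.inr (mem_T_of_ind (mul_mem hx hgS) h1 (hp.mul hg))

omit [Finite G] in
/-- `Ω₁(Z(S)) ≤ ⟨s⟩`. -/
theorem zS_le {x : G} (hx : x ∈ zc (S : Subgroup G)) : x = 1 ∨ x = M.e ss := by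
  obtain ⟨y, rfl⟩ := (M.mem_iff x).1 (t.zS hx)
  have h1 : ∀ p, p * dd = dd * p → y ∘ p.symm = y ∨ y ∘ p.symm = y + 1 := by
    intro p hp
    obtain ⟨g, hg, hi⟩ := t.d8' p hp
    exact (hi.commute_iff y).1 ((MinSimple.VModule.mem_zc.1 hx).2.1 g hg)
  rcases fix_all y (h1 _ (by decide)) (h1 _ (by decide)) (h1 _ (by decide)) with h2 | h2
  · exact Or.inl ((M.ker y).2 h2)
  · exact Or.inr (M.e_eq_iff.2 h2)

omit [Finite G] in
theorem V_le_S : V ≤ (S : Subgroup G) := by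
  have h1 : IsPGroup 2 ((S : Subgroup G) ⊔ V : Subgroup G) :=
    IsPGroup.to_sup_of_normal_right' S.isPGroup' M.isPGroup (t.S_le.trans M.le_normalizer)
  have h2 := S.is_maximal' h1 le_sup_left
  rw [← h2]
  exact le_sup_right

omit [Finite G] in
/-- `x ∈ zc T`, `x x^g = 1`, then `x ∈ zc S`. -/
theorem zT_aux {g : G} (hgS : g ∈ (S : Subgroup G)) (hg : M.Ind g tt) {x : G}
    (hx : x ∈ zc ((S : Subgroup G) ⊓ centralizer ({M.e nn} : Set G)))
    (h1 : x * (g * x * g⁻¹) = 1) : x ∈ zc (S : Subgroup G) := by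
  obtain ⟨hxT, hxc, hx2⟩ := MinSimple.VModule.mem_zc.1 hx
  have hxx : x * x = 1 := by rw [← pow_two]; exact hx2
  have h2 : g * x * g⁻¹ = x := by
    have h3 := eq_inv_of_mul_eq_one_right h1
    rw [h3]
    exact inv_eq_of_mul_eq_one_left hxx
  have h3 : g * x = x * g := by rwa [mul_inv_eq_iff_eq_mul] at h2
  refine MinSimple.VModule.mem_zc.2 ⟨hxT.1, fun b hb => ?_, hx2⟩
  rcases t.mem_or hgS hg hb with h4 | h4
  · exact hxc b h4
  · have h5 := hxc _ h4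
    have h6 : b * x * g = x * b * g := by
      calc b * x * g = b * (x * g) := by group
        _ = b * (g * x) := by rw [h3]
        _ = b * g * x := by group
        _ = x * (b * g) := h5
        _ = x * b * g := by group
    exact mul_right_cancel h6

omit [Finite G] in
/-- `Ω₁(Z(T)) ≤ R = {1, n, a, s}`. -/
theorem zT_le {x : G} (hx : x ∈ zc ((S : Subgroup G) ⊓ centralizer ({M.e nn} : Set G))) :
    x = 1 ∨ x = M.e nn ∨ x = M.e aa ∨ x = M.e ss := by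
  obtain ⟨g, hgS, hg⟩ := t.exists_swap
  obtain ⟨hxT, hxc, hx2⟩ := MinSimple.VModule.mem_zc.1 hx
  have hxx : x * x = 1 := by rw [← pow_two]; exact hx2
  have hgg : g * g ∈ (S : Subgroup G) ⊓ centralizer ({M.e nn} : Set G) := by
    refine mem_T_of_ind (mul_mem hgS hgS) (p := tt * tt) (by decide) (hg.mul hg)
  have hxg := t.conj_T hgS hg hxT
  -- `y = x x^g ∈ zc S`
  set y := x * (g * x * g⁻¹) with hy
  have hcomm : x * (g * x * g⁻¹) = g * x * g⁻¹ * x := (hxc _ hxg).symm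
  have hgy : g * y = y * g := by
    have h1 : g * g * x = x * (g * g) := hxc _ hgg
    calc g * y = (g * x * g⁻¹) * (g * g * x) * g⁻¹ := by rw [hy]; group
      _ = (g * x * g⁻¹) * (x * (g * g)) * g⁻¹ := by rw [h1]
      _ = ((g * x * g⁻¹) * x) * g := by group
      _ = y * g := by rw [← hcomm]
  have hyS : y ∈ (S : Subgroup G) := mul_mem hxT.1 hxg.1
  have hyc : ∀ b ∈ (S : Subgroup G) ⊓ centralizer ({M.e nn} : Set G), b * y = y * b := by
    intro b hb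
    have h1 := hxc b hb
    have h2 : g⁻¹ * b * g ∈ (S : Subgroup G) ⊓ centralizer ({M.e nn} : Set G) := by
      -- `g⁻¹ = g⁻² g`
      have h3 := t.conj_T hgS hg hb
      have h4 := mul_mem (mul_mem (inv_mem hgg) h3) hgg
      have e : (g * g)⁻¹ * (g * b * g⁻¹) * (g * g) = g⁻¹ * b * g := by group
      rwa [e] at h4
    have h3 := hxc _ h2
    have h4 : b * (g * x * g⁻¹) = g * x * g⁻¹ * b := by
      calc b * (g * x * g⁻¹) = g * (g⁻¹ * b * g * x) * g⁻¹ := by group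
        _ = g * (x * (g⁻¹ * b * g)) * g⁻¹ := by rw [h3]
        _ = g * x * g⁻¹ * b := by group
    calc b * y = (b * x) * (g * x * g⁻¹) := by rw [hy]; group
      _ = x * (b * (g * x * g⁻¹)) := by rw [h1]; group
      _ = y * b := by rw [h4, hy]; group
  have hyz : y ∈ zc (S : Subgroup G) := by
    refine MinSimple.VModule.mem_zc.2 ⟨hyS, fun b hb => ?_, ?_⟩
    · rcases t.mem_or hgS hg hb with h4 | h4
      · exact hyc b h4
      · have h5 := hyc _ h4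
        have h6 : b * y * g = y * b * g := by
          calc b * y * g = b * (y * g) := by group
            _ = b * (g * y) := by rw [hgy]
            _ = b * g * y := by group
            _ = y * (b * g) := h5
            _ = y * b * g := by group
        exact mul_right_cancel h6
    · rw [pow_two]
      calc y * y = x * ((g * x * g⁻¹) * x) * (g * x * g⁻¹) := by rw [hy]; group
        _ = x * (x * (g * x * g⁻¹)) * (g * x * g⁻¹) := by rw [← hcomm]
        _ = (x * x) * (g * (x * x) * g⁻¹) := by group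
        _ = 1 := by rw [hxx]; group
  rcases t.zS_le hyz with h1 | h1
  · rcases t.zS_le (t.zT_aux hgS hg hx h1) with h2 | h2
    · exact Or.inl h2
    · exact Or.inr (Or.inr (Or.inr h2))
  · -- `x n`
    have hnT : M.e nn ∈ zc ((S : Subgroup G) ⊓ centralizer ({M.e nn} : Set G)) := by
      have hnS : M.e nn ∈ (S : Subgroup G) := t.V_le_S (M.e_mem nn)
      exact MinSimple.VModule.mem_zc.2 ⟨⟨hnS, mem_C.2 rfl⟩, fun _ hb => mem_C.1 hb.2, e_sq' M nn⟩
    have h2 : x * M.e nn * (g * (x * M.e nn) * g⁻¹) = 1 := by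
      have h3 : x * M.e nn = M.e nn * x := mem_C.1 hxT.2
      have h4 : M.e nn * (g * x * g⁻¹) = g * x * g⁻¹ * M.e nn := (mem_C.1 hxg.2).symm
      calc x * M.e nn * (g * (x * M.e nn) * g⁻¹) =
            x * (M.e nn * (g * x * g⁻¹)) * (g * M.e nn * g⁻¹) := by group
        _ = x * (g * x * g⁻¹) * (M.e nn * M.e aa) := by rw [h4, tt_n hg]; group
        _ = 1 := by rw [na, ← hy, h1, M.e_sq]
    rcases t.zS_le (t.zT_aux hgS hg (mul_mem hx hnT) h2) with h3 | h3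
    · right; left
      have := congrArg (· * M.e nn) h3
      simpa [mul_assoc, M.e_sq] using this
    · right; right; left
      have := congrArg (· * M.e nn) h3
      simpa [mul_assoc, M.e_sq, sn] using this

theorem S_le_normalizer_T : (S : Subgroup G) ≤
    normalizer (((S : Subgroup G) ⊓ centralizer ({M.e nn} : Set G) : Subgroup G) : Set G) := by
  obtain ⟨g, hgS, hg⟩ := t.exists_swap
  have h1 : g ∈ normalizer
      (((S : Subgroup G) ⊓ centralizer ({M.e nn} : Set G) : Subgroup G) : Set G) := by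
    refine mem_normalizer_of_cj_le ?_
    rintro _ ⟨x, hx, rfl⟩
    exact t.conj_T hgS hg hx
  intro x hx
  rcases t.mem_or hgS hg hx with h2 | h2
  · exact Subgroup.le_normalizer h2
  · have h3 := mul_mem (Subgroup.le_normalizer h2) (inv_mem h1)
    have e : x * g * g⁻¹ = x := by group
    rwa [e] at h3

omit [Finite G] in
theorem n_mem_zT : M.e nn ∈ zc ((S : Subgroup G) ⊓ centralizer ({M.e nn} : Set G)) :=
  MinSimple.VModule.mem_zc.2 ⟨⟨t.V_le_S (M.e_mem nn), mem_C.2 rfl⟩, fun _ hb => mem_C.1 hb.2,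
    e_sq' M nn⟩

omit [Finite G] in
theorem s_mem_zT : M.e ss ∈ zc ((S : Subgroup G) ⊓ centralizer ({M.e nn} : Set G)) :=
  MinSimple.VModule.mem_zc.2 ⟨⟨t.V_le_S (M.e_mem ss), mem_C.2 (M.e_comm _ _)⟩,
    fun _ hb => t.S_comm hb.1, e_sq' M ss⟩

omit [Finite G] in
theorem a_mem_zT : M.e aa ∈ zc ((S : Subgroup G) ⊓ centralizer ({M.e nn} : Set G)) := by
  rw [← ns M]
  exact mul_mem t.n_mem_zT t.s_mem_zT

omit [Finite G] in
/-- the elements of `N_G(T)` permute `n, a, s` -/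
theorem conj_R {y : G} (hy : y ∈ normalizer
      (((S : Subgroup G) ⊓ centralizer ({M.e nn} : Set G) : Subgroup G) : Set G)) {x : G}
    (hx : x ∈ zc ((S : Subgroup G) ⊓ centralizer ({M.e nn} : Set G))) (hx1 : x ≠ 1) :
    y * x * y⁻¹ = M.e nn ∨ y * x * y⁻¹ = M.e aa ∨ y * x * y⁻¹ = M.e ss := by
  have h1 := (mem_normalizer_iff.1 (normalizer_le_normalizer_zc _ hy) x).1 hx
  rcases t.zT_le h1 with h2 | h2
  · exfalso
    apply hx1
    have := congrArg (fun w => y⁻¹ * w * y) h2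
    simpa [mul_assoc] using this
  · exact h2

/-- Case (i): `N_G(T)` fixes `s`. Then `T` is a maximal 2-subgroup of `C_G(n)`. -/
theorem max_T (hN : ∀ y ∈ normalizer
      (((S : Subgroup G) ⊓ centralizer ({M.e nn} : Set G) : Subgroup G) : Set G),
      y * M.e ss = M.e ss * y) {U : Subgroup G} (hU : IsPGroup 2 U)
    (hTU : (S : Subgroup G) ⊓ centralizer ({M.e nn} : Set G) ≤ U)
    (hUn : U ≤ centralizer ({M.e nn} : Set G)) :
    U ≤ (S : Subgroup G) ⊓ centralizer ({M.e nn} : Set G) := by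
  set T := (S : Subgroup G) ⊓ centralizer ({M.e nn} : Set G) with hT
  by_contra hne
  obtain ⟨r, hrU, hrT, hrN⟩ := exists_mem_normalizer hU hTU hne
  have hU1U : T ⊔ zpowers r ≤ U := sup_le hTU (by rwa [zpowers_le])
  have hU1 : IsPGroup 2 (T ⊔ zpowers r : Subgroup G) := hU.to_le hU1U
  have hU1N : T ⊔ zpowers r ≤ normalizer (T : Set G) :=
    sup_le Subgroup.le_normalizer (by rwa [zpowers_le])
  obtain ⟨c, hc, hcS⟩ := exists_conj_le_sylow S _ _ t.S_le_normalizer_T hU1 hU1N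
  have hcs := hN c hc
  have hcn : c * M.e nn * c⁻¹ = M.e nn ∨ c * M.e nn * c⁻¹ = M.e aa := by
    rcases t.conj_R hc t.n_mem_zT (n_ne M) with h1 | h1 | h1
    · exact Or.inl h1
    · exact Or.inr h1
    · exfalso
      have h2 : c * M.e ss * c⁻¹ = M.e ss := by rw [mul_inv_eq_iff_eq_mul]; exact hcs
      rw [← h2] at h1
      exact n_ne_s M (mul_left_cancel (mul_right_cancel h1))
  have hle : cj c (T ⊔ zpowers r) ≤ T := by
    rintro _ ⟨x, hx, rfl⟩
    change c * x * c⁻¹ ∈ T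
    have hxs : x * M.e ss = M.e ss * x := hN x (hU1N hx)
    have hxn : x * M.e nn = M.e nn * x := mem_C.1 (hUn (hU1U hx))
    have h1 : (c * x * c⁻¹) * M.e ss = M.e ss * (c * x * c⁻¹) := by
      have h2 : c⁻¹ * M.e ss = M.e ss * c⁻¹ := by
        calc c⁻¹ * M.e ss = c⁻¹ * (M.e ss * c) * c⁻¹ := by group
          _ = c⁻¹ * (c * M.e ss) * c⁻¹ := by rw [hcs]
          _ = M.e ss * c⁻¹ := by group
      calc (c * x * c⁻¹) * M.e ss = c * x * (c⁻¹ * M.e ss) := by group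
        _ = c * (x * M.e ss) * c⁻¹ := by rw [h2]; group
        _ = (c * M.e ss) * x * c⁻¹ := by rw [hxs]; group
        _ = M.e ss * (c * x * c⁻¹) := by rw [hcs]; group
    have h2 : (c * x * c⁻¹) * (c * M.e nn * c⁻¹) = (c * M.e nn * c⁻¹) * (c * x * c⁻¹) := by
      calc (c * x * c⁻¹) * (c * M.e nn * c⁻¹) = c * (x * M.e nn) * c⁻¹ := by group
        _ = c * (M.e nn * x) * c⁻¹ := by rw [hxn]
        _ = (c * M.e nn * c⁻¹) * (c * x * c⁻¹) := by group
    refine mem_inf.2 ⟨hcS x hx, mem_C.2 ?_⟩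
    rcases hcn with h3 | h3
    · rw [h3] at h2
      exact h2
    · rw [h3] at h2
      rw [← as M]
      calc (c * x * c⁻¹) * (M.e aa * M.e ss) = ((c * x * c⁻¹) * M.e aa) * M.e ss := by group
        _ = M.e aa * ((c * x * c⁻¹) * M.e ss) := by rw [h2]; group
        _ = M.e aa * M.e ss * (c * x * c⁻¹) := by rw [h1]; group
  have hcard : Nat.card (T ⊔ zpowers r : Subgroup G) ≤ Nat.card T := by
    rw [← card_cj c]
    exact Subgroup.card_le_of_le hle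
  have heq := Subgroup.eq_of_le_of_card_ge (le_sup_left : T ≤ T ⊔ zpowers r) hcard
  apply hrT
  rw [heq]
  exact mem_sup_right (mem_zpowers r)

theorem case_one (hN : ∀ y ∈ normalizer
      (((S : Subgroup G) ⊓ centralizer ({M.e nn} : Set G) : Subgroup G) : Set G),
      y * M.e ss = M.e ss * y) : False := by
  have hPT : o2 (centralizer ({M.e nn} : Set G)) ≤
      (S : Subgroup G) ⊓ centralizer ({M.e nn} : Set G) := by
    have h1 : IsPGroup 2 ((S : Subgroup G) ⊓ centralizer ({M.e nn} : Set G) : Subgroup G) :=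
      S.isPGroup'.to_le inf_le_left
    have h2 : IsPGroup 2 (((S : Subgroup G) ⊓ centralizer ({M.e nn} : Set G)) ⊔
        o2 (centralizer ({M.e nn} : Set G)) : Subgroup G) :=
      IsPGroup.to_sup_of_normal_right' h1 (o2_isPGroup _) (inf_le_right.trans (le_normalizer_o2 _))
    exact le_sup_right.trans (t.max_T hN h2 le_sup_left (sup_le inf_le_right (o2_le _)))
  have hn : ∀ {c q : G}, c ∈ centralizer ({M.e nn} : Set G) →
      q ∈ o2 (centralizer ({M.e nn} : Set G)) → c * q * c⁻¹ ∈ o2 (centralizer ({M.e nn} : Set G)) :=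
    fun hc hq => (mem_normalizer_iff.1 (le_normalizer_o2 _ hc) _).1 hq
  have hP : ∀ q ∈ o2 (centralizer ({M.e nn} : Set G)), M.Ind q 1 ∨ M.Ind q (Equiv.swap 0 1) := by
    obtain ⟨l, -, hl⟩ := M.exists_lift (Equiv.swap 2 4)
    have hlC : l ∈ centralizer ({M.e nn} : Set G) :=
      mem_C.2 ((hl.commute_iff _).2 (Or.inl (by decide)))
    have hla : l * M.e aa * l⁻¹ = M.e ![0, 0, 0, 1, 1] := by
      rw [hl, M.e_eq_iff]; left; decide
    intro q hq
    obtain ⟨p, hp, hi⟩ := t.T_ind (hPT hq)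
    have h1 : q * M.e ![0, 0, 0, 1, 1] = M.e ![0, 0, 0, 1, 1] * q := by
      have h2 := hn (inv_mem hlC) hq
      rw [inv_inv] at h2
      have h3 := t.T_comm_a (hPT h2)
      rw [← hla]
      calc q * (l * M.e aa * l⁻¹) = l * (l⁻¹ * q * l * M.e aa) * l⁻¹ := by group
        _ = l * (M.e aa * (l⁻¹ * q * l)) * l⁻¹ := by rw [h3]
        _ = l * M.e aa * l⁻¹ * q := by group
    rcases ttp_fix p hp ((hi.commute_iff _).1 h1) with rfl | rfl
    · exact Or.inl hi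
    · exact Or.inr hi
  have hP₂ : ∀ q ∈ o2 (centralizer ({M.e nn} : Set G)), M₂.Ind q 1 ∨ M₂.Ind q (Equiv.swap 0 1) := by
    obtain ⟨l, -, hl⟩ := M₂.exists_lift (Equiv.swap 2 4)
    have hlC : l ∈ centralizer ({M.e nn} : Set G) := by
      rw [← t.en]
      exact mem_C.2 ((hl.commute_iff _).2 (Or.inl (by decide)))
    have hla : l * M.e aa * l⁻¹ = M₂.e ![0, 0, 0, 1, 1] := by
      rw [← t.ea, hl, M₂.e_eq_iff]; left; decide
    intro q hq
    obtain ⟨p, hp, hi⟩ := t.T_ind₂ (hPT hq)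
    have h1 : q * M₂.e ![0, 0, 0, 1, 1] = M₂.e ![0, 0, 0, 1, 1] * q := by
      have h2 := hn (inv_mem hlC) hq
      rw [inv_inv] at h2
      have h3 := t.T_comm_a (hPT h2)
      rw [← hla]
      calc q * (l * M.e aa * l⁻¹) = l * (l⁻¹ * q * l * M.e aa) * l⁻¹ := by group
        _ = l * (M.e aa * (l⁻¹ * q * l)) * l⁻¹ := by rw [h3]
        _ = l * M.e aa * l⁻¹ * q := by group
    rcases ttp_fix p hp ((hi.commute_iff _).1 h1) with rfl | rfl
    · exact Or.inl hi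
    · exact Or.inr hi
  have hVP : M₂.e ![0, 0, 1, 0, 0] ∈ o2 (centralizer ({M.e nn} : Set G)) := by
    refine le_o2_of_comm t.two (e_sq' M nn) (n_ne M) (by rw [← t.en]; exact M₂.e_comm _ nn)
      fun q hq => ?_
    set x : Vec := ![0, 0, 1, 0, 0]
    have h1 : M₂.e x * q * (M₂.e x)⁻¹ * q⁻¹ = (q * M₂.e x * q⁻¹ * (M₂.e x)⁻¹)⁻¹ := by group
    rw [h1]
    rcases hP₂ q hq with h2 | h2
    · left
      rw [h2.comm_eq]
      have e : M₂.e (x ∘ (1 : Equiv.Perm (Fin 5)).symm + x) = 1 := by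
        rw [M₂.ker]; left; exact add_self x
      rw [e, inv_one]
    · rw [h2.comm_eq, M₂.e_inv]
      rcases swap_comm x with h3 | h3
      · exact Or.inl ((M₂.ker _).2 h3)
      · rw [← t.en]; exact Or.inr (M₂.e_eq_iff.2 h3)
  have hu := hn (mem_C.2 t.hn) hVP
  rcases hP _ hu with h1 | h1
  · have := t.u_ind.unique h1
    revert this
    decide
  · have := t.u_ind.unique h1
    revert this
    decide

/-- **There is no mutual pair of type TT-TT** (positional form). -/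
theorem false : False := by
  by_cases hN : ∀ y ∈ normalizer
      (((S : Subgroup G) ⊓ centralizer ({M.e nn} : Set G) : Subgroup G) : Set G),
      y * M.e ss = M.e ss * y
  · exact t.case_one hN
  push Not at hN
  obtain ⟨y, hy, hys⟩ := hN
  obtain ⟨g, hgS, hg⟩ := t.exists_swap
  -- an element `w` with `w s w⁻¹ = n`
  have h1 : ∃ w ∈ normalizer
      (((S : Subgroup G) ⊓ centralizer ({M.e nn} : Set G) : Subgroup G) : Set G),
      w * M.e ss * w⁻¹ = M.e nn := by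
    rcases t.conj_R hy t.s_mem_zT (s_ne M) with h2 | h2 | h2
    · exact ⟨y, hy, h2⟩
    · refine ⟨g * y, mul_mem (t.S_le_normalizer_T hgS) hy, ?_⟩
      calc g * y * M.e ss * (g * y)⁻¹ = g * (y * M.e ss * y⁻¹) * g⁻¹ := by group
        _ = M.e nn := by rw [h2, tt_a hg]
    · exact absurd (by rwa [mul_inv_eq_iff_eq_mul] at h2) hys
  obtain ⟨w, hw, hws⟩ := h1
  have hwinj : ∀ {x z : G}, w * x * w⁻¹ = w * z * w⁻¹ → x = z := fun h =>
    mul_left_cancel (mul_right_cancel h)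
  rcases t.conj_R hw t.n_mem_zT (n_ne M) with h2 | h2 | h2
  · exact n_ne_s M (hwinj (h2.trans hws.symm))
  · exact t.case_two hws h2
  · -- `w n w⁻¹ = s`, so `w a w⁻¹ = a`
    have h3 : w * M.e aa * w⁻¹ = M.e aa := by
      calc w * M.e aa * w⁻¹ = (w * M.e nn * w⁻¹) * (w * M.e ss * w⁻¹) := by rw [← ns M]; group
        _ = M.e aa := by rw [h2, hws, sn]
    refine t.case_two (d := w * g) ?_ ?_
    · calc w * g * M.e ss * (w * g)⁻¹ = w * (g * M.e ss * g⁻¹) * w⁻¹ := by group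
        _ = M.e nn := by rw [tt_s hg, hws]
    · calc w * g * M.e nn * (w * g)⁻¹ = w * (g * M.e nn * g⁻¹) * w⁻¹ := by group
        _ = M.e aa := by rw [tt_n hg, h3]

end

end Pos

end Cfsg.Agent.Omega.S5.TT
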