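import Cfsg.Agent.ZN.Map
import Cfsg.Agent.Omega.S5.TT

/-!
# OMEGA II.c: a mutual pair of natural `O₄⁻(2)`-modules `V`, `V₂ ^ g` is of type T-T

`swap_of_pair` : `G` of characteristic 2 type, `V`, `V₂` natural `O₄⁻(2)`-modules for `L`, `L₂`
(`FiveMod V L`, `FiveMod V₂ L₂`), `S ≤ L ∩ L₂` a Sylow 2-subgroup of `G`, `Ω₁(Z(S)) ≤ V`; if
`V₂ ^ g ≤ L` and `V ≤ L₂ ^ g`, then every element of `V₂ ^ g` acts on `V` trivially or as a
transposition.

`index_le_two` : the same for a mutual pair (`V`, `V₂ ^ g` normalise each other):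
`|V : C_V(V₂ ^ g)| ≤ 2`, `|V₂ ^ g : C(V)| ≤ 2`.
-/

set_option autoImplicit false

namespace Cfsg.Agent.Omega.S5.Types

open Subgroup Cfsg Cfsg.Agent.ZN Cfsg.Agent.ZN.ChoiceBase
open Cfsg.Agent.Omega.S5.Mod Cfsg.Agent.Omega.S5.TT

universe u

variable {G : Type u} [Group G]

/-! ### Permutations -/

theorem ttp_of_fix : ∀ p : Equiv.Perm (Fin 5), (nn ∘ p.symm = nn ∨ nn ∘ p.symm = nn + 1) →
    (aa ∘ p.symm = aa ∨ aa ∘ p.symm = aa + 1) → TTp p := by
  decide +kernel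

theorem card_D8 : (Finset.univ.filter fun p : Equiv.Perm (Fin 5) => p * dd = dd * p).card = 8 := by
  decide +kernel

theorem d8_nn : ∀ p : Equiv.Perm (Fin 5), p * dd = dd * p →
    (nn ∘ p.symm = nn ∨ nn ∘ p.symm = nn + 1) ∨ (nn ∘ p.symm = aa ∨ nn ∘ p.symm = aa + 1) := by
  decide +kernel

theorem d8_aa : ∀ p : Equiv.Perm (Fin 5), p * dd = dd * p →
    (aa ∘ p.symm = nn ∨ aa ∘ p.symm = nn + 1) ∨ (aa ∘ p.symm = aa ∨ aa ∘ p.symm = aa + 1) := by
  decide +kernel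

theorem fix_dd : ∀ x : Vec, (x ∘ dd.symm = x ∨ x ∘ dd.symm = x + 1) →
    (x = 0 ∨ x = 1) ∨ (x = nn ∨ x = nn + 1) ∨ (x = aa ∨ x = aa + 1) ∨ (x = ss ∨ x = ss + 1) := by
  decide +kernel

theorem isConj_dd {p : Equiv.Perm (Fin 5)} (h1 : p * p = 1) (h2 : p ≠ 1) (h3 : ¬ p.IsSwap) :
    ∃ σ : Equiv.Perm (Fin 5), σ⁻¹ * p * σ = dd := by
  have hord : orderOf p = 2 := orderOf_eq_prime (by rw [pow_two]; exact h1) h2
  obtain ⟨n, hn⟩ := Equiv.Perm.cycleType_prime_order (σ := p) (by rw [hord]; exact Nat.prime_two)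
  rw [hord] at hn
  have hsum : (Multiset.replicate (n + 1) 2).sum ≤ 5 := by
    rw [← hn, Equiv.Perm.sum_cycleType]
    exact (Finset.card_le_univ _).trans (by simp)
  rw [Multiset.sum_replicate, smul_eq_mul] at hsum
  have hn1 : n = 0 ∨ n = 1 := by omega
  rcases hn1 with rfl | rfl
  · exfalso
    apply h3
    rw [← Equiv.Perm.card_support_eq_two, ← Equiv.Perm.sum_cycleType, hn]
    rfl
  · have hdd : dd.cycleType = Multiset.replicate 2 2 := by
      have h5 : orderOf dd = 2 := orderOf_eq_prime (by decide) (by decide)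
      obtain ⟨m, hm⟩ := Equiv.Perm.cycleType_prime_order (σ := dd) (by rw [h5]; exact Nat.prime_two)
      rw [h5] at hm
      have h6 : dd.support.card = 4 := by decide
      rw [← Equiv.Perm.sum_cycleType, hm, Multiset.sum_replicate, smul_eq_mul] at h6
      have h7 : m = 1 := by omega
      rw [hm, h7]
    have hc : IsConj p dd := (Equiv.Perm.isConj_iff_cycleType_eq).2 (by rw [hn, hdd])
    obtain ⟨c, hc⟩ := isConj_iff.1 hc
    exact ⟨c⁻¹, by rw [inv_inv]; exact hc⟩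

theorem swap_comm' : ∀ x : Vec, (x ∘ (Equiv.swap 2 3 : Equiv.Perm (Fin 5)).symm + x = 0 ∨
      x ∘ (Equiv.swap 2 3 : Equiv.Perm (Fin 5)).symm + x = 1) ∨
    (x ∘ (Equiv.swap 2 3 : Equiv.Perm (Fin 5)).symm + x = aa ∨
      x ∘ (Equiv.swap 2 3 : Equiv.Perm (Fin 5)).symm + x = aa + 1) := by
  decide +kernel

theorem fix_two : ∀ x : Vec, (x ∘ (Equiv.swap 0 1 : Equiv.Perm (Fin 5)).symm + x = 0 ∨
      x ∘ (Equiv.swap 0 1 : Equiv.Perm (Fin 5)).symm + x = 1) →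
    (x ∘ (Equiv.swap 2 3 : Equiv.Perm (Fin 5)).symm + x = 0 ∨
      x ∘ (Equiv.swap 2 3 : Equiv.Perm (Fin 5)).symm + x = 1) →
    (x = 0 ∨ x = 1) ∨ (x = nn ∨ x = nn + 1) ∨ (x = aa ∨ x = aa + 1) ∨ (x = ss ∨ x = ss + 1) := by
  decide +kernel

/-- Three distinct nontrivial elements of `⟨(0 1), (2 3)⟩`. -/
theorem ttp_gen {p q : Equiv.Perm (Fin 5)} (hp : TTp p) (hq : TTp q) (hp1 : p ≠ 1) (hq1 : q ≠ 1)
    (hpq : p ≠ q) {r : Equiv.Perm (Fin 5)} (hr : TTp r) : r = 1 ∨ r = p ∨ r = q ∨ r = p * q := by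
  rcases hp with rfl | rfl | rfl | rfl <;> rcases hq with rfl | rfl | rfl | rfl <;>
    rcases hr with rfl | rfl | rfl | rfl <;> revert hp1 hq1 hpq <;> decide

/-- The product of two distinct commuting transpositions is not a transposition. -/
theorem not_swap_mul {p q : Equiv.Perm (Fin 5)} (hp : p.IsSwap) (hq : q.IsSwap)
    (hpq : p ≠ q) : p * q ≠ 1 ∧ ¬ (p * q).IsSwap := by
  constructor
  · intro h
    apply hpq
    have h1 : q * q = 1 := by
      obtain ⟨i, j, -, rfl⟩ := hq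
      exact Equiv.swap_mul_self i j
    calc p = p * (q * q) := by rw [h1, mul_one]
      _ = q := by rw [← mul_assoc, h, one_mul]
  · intro h
    have h1 := h.sign_eq
    rw [Equiv.Perm.sign_mul, hp.sign_eq, hq.sign_eq] at h1
    revert h1
    decide

/-! ### The D8-normalised labels -/

/-- Labels of `V` such that `S` induces `D₈ = C((0 1)(2 3))` on `V`. -/
theorem exists_relabel [Finite G] {V L : Subgroup G} (M : FiveMod V L) (S : Sylow 2 G)
    (hS : (S : Subgroup G) ≤ L) : ∃ σ : Equiv.Perm (Fin 5),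
      (∀ g ∈ (S : Subgroup G), ∀ p, (M.relabel σ).Ind g p → p * dd = dd * p) ∧
      (∀ p, p * dd = dd * p → ∃ g ∈ (S : Subgroup G), (M.relabel σ).Ind g p) := by
  have : Fact (Nat.Prime 2) := ⟨Nat.prime_two⟩
  have hsy : ¬ 2 ∣ ((S : Subgroup G).subgroupOf L).index := MinSimple.Basic.not_dvd_relIndex S hS
  set S1 : Sylow 2 L := (S.isPGroup'.comap_of_injective _ L.subtype_injective).toSylow hsy with hS1
  set P : Sylow 2 (Equiv.Perm (Fin 5)) := S1.mapSurjective M.pi_surjective with hP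
  -- the centralizer of `dd`
  set D : Subgroup (Equiv.Perm (Fin 5)) := centralizer ({dd} : Set (Equiv.Perm (Fin 5))) with hD
  have hDcard : Nat.card D = 8 := by
    have h1 : Nat.card D = (Finset.univ.filter fun p : Equiv.Perm (Fin 5) => p * dd = dd * p).card := by
      rw [← Fintype.card_subtype, ← Nat.card_eq_fintype_card]
      refine Nat.card_congr (Equiv.subtypeEquivRight fun p => ?_)
      exact mem_centralizer_singleton_iff
    rw [h1, card_D8]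
  have hDp : IsPGroup 2 D := IsPGroup.of_card (n := 3) (by rw [hDcard]; norm_num)
  obtain ⟨Q, hQ⟩ := hDp.exists_le_sylow
  obtain ⟨τ, hτ⟩ := MulAction.exists_smul_eq (Equiv.Perm (Fin 5)) P Q
  have hQcard : Nat.card Q = 8 := by
    have h1 : Nat.card Q = 2 ^ (Nat.card (Equiv.Perm (Fin 5))).factorization 2 :=
      Q.card_eq_multiplicity
    have h2 : Nat.card (Equiv.Perm (Fin 5)) = 120 := by
      rw [Nat.card_eq_fintype_card, Fintype.card_perm, Fintype.card_fin]; rfl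
    have h3 : (120 : ℕ).factorization 2 = 3 := by
      have : (120 : ℕ) = 2 ^ 3 * 15 := by norm_num
      rw [this, Nat.factorization_mul (by norm_num) (by norm_num),
        Nat.Prime.factorization_pow Nat.prime_two]
      simp [Nat.factorization_eq_zero_of_not_dvd (show ¬ 2 ∣ 15 by norm_num)]
    rw [h1, h2, h3]; norm_num
  have hQD : (Q : Subgroup (Equiv.Perm (Fin 5))) = D :=
    (Subgroup.eq_of_le_of_card_ge hQ (by rw [hDcard]; exact hQcard.le)).symm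
  have hPmem : ∀ p, p ∈ (P : Subgroup (Equiv.Perm (Fin 5))) ↔
      ∃ g ∈ (S : Subgroup G), M.Ind g p := by
    intro p
    constructor
    · intro hp
      have hp' : p ∈ (S1 : Subgroup L).map M.pi := hp
      obtain ⟨g, hg, rfl⟩ := hp'
      exact ⟨g, mem_subgroupOf.1 hg, M.pi_spec g⟩
    · rintro ⟨g, hg, hi⟩
      have h1 : M.pi ⟨g, hS hg⟩ ∈ (S1 : Subgroup L).map M.pi :=
        ⟨⟨g, hS hg⟩, mem_subgroupOf.2 hg, rfl⟩
      rw [M.pi_eq (g := ⟨g, hS hg⟩) hi] at h1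
      exact h1
  have hQmem : ∀ p, p * dd = dd * p ↔ τ⁻¹ * p * τ ∈ (P : Subgroup (Equiv.Perm (Fin 5))) := by
    intro p
    have h0 : p * dd = dd * p ↔ p ∈ D := mem_centralizer_singleton_iff.symm
    rw [h0, ← hQD, ← hτ, Sylow.coe_subgroup_smul]
    change p ∈ (P : Subgroup (Equiv.Perm (Fin 5))).map (MulAut.conj τ).toMonoidHom ↔ _
    exact mem_cj
  refine ⟨τ⁻¹, ?_, ?_⟩
  · intro g hg p hp
    have h1 := FiveMod.ind_of_relabel τ⁻¹ hp
    rw [inv_inv] at h1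
    rw [hQmem, hPmem]
    exact ⟨g, hg, h1⟩
  · intro p hp
    rw [hQmem, hPmem] at hp
    obtain ⟨g, hg, hi⟩ := hp
    refine ⟨g, hg, ?_⟩
    have h1 := FiveMod.relabel_ind τ⁻¹ hi
    have e : τ⁻¹⁻¹ * (τ⁻¹ * p * τ) * τ⁻¹ = p := by group
    rwa [e] at h1

/-! ### Pairs -/

/-- `V` normalises `W`, `W ≤ L` and some element of `W` acts on `V` as `(0 1)(2 3)`. -/
structure Side (V W : Subgroup G) {L : Subgroup G} (M : FiveMod V L) : Prop where
  VW : V ≤ normalizer (W : Set G)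
  WV : W ≤ L
  comm : ∀ w ∈ W, ∀ w' ∈ W, w * w' = w' * w
  dd : ∃ w ∈ W, M.Ind w dd

namespace Side

variable {V W L K : Subgroup G} {M : FiveMod V L} (t : Side V W M)
include t

theorem comm_mem {w : G} (hw : w ∈ W) {p : Equiv.Perm (Fin 5)} (hp : M.Ind w p) (x : Vec) :
    M.e (x ∘ p.symm + x) ∈ W := by
  rw [← hp.comm_eq]
  have h1 : w * M.e x * w⁻¹ * (M.e x)⁻¹ = w * (M.e x * w⁻¹ * (M.e x)⁻¹) := by group
  rw [h1]
  exact mul_mem hw ((mem_normalizer_iff.1 (t.VW (M.e_mem x)) _).1 (inv_mem hw))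

theorem n_mem : M.e nn ∈ W := by
  obtain ⟨w, hw, hi⟩ := t.dd
  have h1 := t.comm_mem hw hi ![1, 0, 0, 0, 0]
  have e : M.e ((![1, 0, 0, 0, 0] : Vec) ∘ TT.dd.symm + ![1, 0, 0, 0, 0]) = M.e nn := by
    rw [M.e_eq_iff]; left; decide
  rwa [e] at h1

theorem a_mem : M.e aa ∈ W := by
  obtain ⟨w, hw, hi⟩ := t.dd
  have h1 := t.comm_mem hw hi ![0, 0, 1, 0, 0]
  have e : M.e ((![0, 0, 1, 0, 0] : Vec) ∘ TT.dd.symm + ![0, 0, 1, 0, 0]) = M.e aa := by
    rw [M.e_eq_iff]; left; decide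
  rwa [e] at h1

theorem s_mem : M.e ss ∈ W := by
  rw [← Pos.na M]
  exact mul_mem t.n_mem t.a_mem

theorem act {w : G} (hw : w ∈ W) : ∃ p, TTp p ∧ M.Ind w p := by
  obtain ⟨p, hp⟩ := M.exists_ind (t.WV hw)
  refine ⟨p, ttp_of_fix p ?_ ?_, hp⟩
  · exact (hp.commute_iff _).1 (t.comm _ hw _ t.n_mem)
  · exact (hp.commute_iff _).1 (t.comm _ hw _ t.a_mem)

/-- `C_V(W) ≤ {1, n, a, s}` -/
theorem cent {x : Vec} (h : ∀ w ∈ W, w * M.e x = M.e x * w) :
    (x = 0 ∨ x = 1) ∨ (x = nn ∨ x = nn + 1) ∨ (x = aa ∨ x = aa + 1) ∨ (x = ss ∨ x = ss + 1) := by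
  obtain ⟨w, hw, hi⟩ := t.dd
  exact fix_dd x ((hi.commute_iff x).1 (h w hw))

theorem cent' {x : Vec} (h : ∀ w ∈ W, w * M.e x = M.e x * w) : M.e x ∈ W := by
  rcases t.cent h with h1 | h1 | h1 | h1
  · rw [(M.ker x).2 h1]; exact one_mem _
  · rw [M.e_eq_iff.2 h1]; exact t.n_mem
  · rw [M.e_eq_iff.2 h1]; exact t.a_mem
  · rw [M.e_eq_iff.2 h1]; exact t.s_mem

/-- an element of `V` outside of `{1, n, a, s}` acts nontrivially on `W` -/
theorem act_ne {N : FiveMod W K} {x : Vec} {q : Equiv.Perm (Fin 5)} (hq : N.Ind (M.e x) q)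
    (hx : ¬ ((x = 0 ∨ x = 1) ∨ (x = nn ∨ x = nn + 1) ∨ (x = aa ∨ x = aa + 1) ∨
      (x = ss ∨ x = ss + 1))) : q ≠ 1 := by
  rintro rfl
  apply hx
  refine t.cent fun w hw => ?_
  exact mem_centralizer_iff.1 (FiveMod.ind_one_iff.1 hq) w hw

/-- The permutations induced on `W` by `e(0)`, `e(2)`. -/
theorem exists_two (N : FiveMod W K) (hVK : V ≤ K) : ∃ q r : Equiv.Perm (Fin 5), N.Ind (M.e ![1, 0, 0, 0, 0]) q ∧
    N.Ind (M.e ![0, 0, 1, 0, 0]) r ∧ q ≠ 1 ∧ r ≠ 1 ∧ q ≠ r ∧ q * q = 1 ∧ r * r = 1 := by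
  obtain ⟨q, hq⟩ := N.exists_ind (hVK (M.e_mem ![1, 0, 0, 0, 0]))
  obtain ⟨r, hr⟩ := N.exists_ind (hVK (M.e_mem ![0, 0, 1, 0, 0]))
  have hqq : q * q = 1 := by
    have h1 := hq.mul hq
    rw [M.e_sq] at h1
    exact h1.unique N.ind_one
  have hrr : r * r = 1 := by
    have h1 := hr.mul hr
    rw [M.e_sq] at h1
    exact h1.unique N.ind_one
  refine ⟨q, r, hq, hr, t.act_ne hq (by decide), t.act_ne hr (by decide), ?_, hqq, hrr⟩
  rintro rfl
  have h1 := hq.mul hr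
  rw [← M.e_add] at h1
  exact t.act_ne h1 (by decide) hqq

/-- every element of `⟨(0 1), (2 3)⟩` is induced -/
theorem sur {N : FiveMod W K} (t' : Side W V N) {p : Equiv.Perm (Fin 5)} (hp : TTp p) :
    ∃ v ∈ V, N.Ind v p := by
  obtain ⟨q, r, hq, hr, hq1, hr1, hqr, -, -⟩ := t.exists_two N t'.WV
  obtain ⟨q', hq', hiq⟩ := t'.act (M.e_mem ![1, 0, 0, 0, 0])
  obtain ⟨r', hr', hir⟩ := t'.act (M.e_mem ![0, 0, 1, 0, 0])
  have e1 := hiq.unique hq
  have e2 := hir.unique hr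
  subst e1
  subst e2
  rcases ttp_gen hq' hr' hq1 hr1 hqr hp with rfl | rfl | rfl | rfl
  · exact ⟨1, one_mem _, N.ind_one⟩
  · exact ⟨_, M.e_mem _, hq⟩
  · exact ⟨_, M.e_mem _, hr⟩
  · exact ⟨_, mul_mem (M.e_mem _) (M.e_mem _), hq.mul hr⟩

end Side

theorem comm_pair {V W L K : Subgroup G} {M : FiveMod V L} {N : FiveMod W K} {x y : Vec}
    {p q : Equiv.Perm (Fin 5)} (h1 : N.Ind (M.e x) p) (h2 : M.Ind (N.e y) q) :
    N.e (y ∘ p.symm + y) = M.e (x ∘ q.symm + x) := by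
  rw [← h1.comm_eq, ← h2.comm_eq, M.e_inv, N.e_inv]
  have h3 : (N.e y * M.e x * N.e y * M.e x) * (N.e y * M.e x * N.e y * M.e x) = 1 := by
    have h4 := h2.comm_eq x
    rw [M.e_inv, N.e_inv] at h4
    rw [h4]
    exact M.e_sq _
  have h4 : (M.e x * N.e y * M.e x * N.e y) * (N.e y * M.e x * N.e y * M.e x) = 1 := by
    have e1 : (M.e x * N.e y * M.e x * N.e y) * (N.e y * M.e x * N.e y * M.e x) =
        M.e x * N.e y * M.e x * (N.e y * N.e y) * M.e x * N.e y * M.e x := by group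
    rw [e1, N.e_sq, mul_one]
    have e2 : M.e x * N.e y * M.e x * M.e x * N.e y * M.e x =
        M.e x * N.e y * (M.e x * M.e x) * N.e y * M.e x := by group
    rw [e2, M.e_sq, mul_one]
    have e3 : M.e x * N.e y * N.e y * M.e x = M.e x * (N.e y * N.e y) * M.e x := by group
    rw [e3, N.e_sq, mul_one, M.e_sq]
  exact mul_right_cancel (h4.trans h3.symm)

/-- `n`, `a` seen from the two sides. -/
theorem same_R {V W L K : Subgroup G} {M : FiveMod V L} {N : FiveMod W K} (t : Side V W M)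
    (t' : Side W V N) : (N.e nn = M.e nn ∧ N.e aa = M.e aa) ∨
      (N.e nn = M.e aa ∧ N.e aa = M.e nn) := by
  obtain ⟨v1, hv1, hi1⟩ := t.sur t' (p := Equiv.swap 0 1) (by decide)
  obtain ⟨v2, hv2, hi2⟩ := t.sur t' (p := Equiv.swap 2 3) (by decide)
  obtain ⟨w1, hw1, hj1⟩ := t'.sur t (p := Equiv.swap 0 1) (by decide)
  obtain ⟨w2, hw2, hj2⟩ := t'.sur t (p := Equiv.swap 2 3) (by decide)
  obtain ⟨x1, rfl⟩ := (M.mem_iff _).1 hv1
  obtain ⟨x2, rfl⟩ := (M.mem_iff _).1 hv2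
  obtain ⟨y1, rfl⟩ := (N.mem_iff _).1 hw1
  obtain ⟨y2, rfl⟩ := (N.mem_iff _).1 hw2
  -- an element `N.e y` acting nontrivially on `V`
  have key : ∀ y : Vec, ∀ q : Equiv.Perm (Fin 5), M.Ind (N.e y) q → q ≠ 1 →
      N.e nn = N.e (y ∘ (Equiv.swap 0 1 : Equiv.Perm (Fin 5)).symm + y) ∨
      N.e aa = N.e (y ∘ (Equiv.swap 2 3 : Equiv.Perm (Fin 5)).symm + y) := by
    intro y q hq hq1
    rcases swap_comm y with h1 | h1
    · rcases swap_comm' y with h2 | h2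
      · exfalso
        have h3 : N.e y ∈ V := by
          rcases fix_two y h1 h2 with h4 | h4 | h4 | h4
          · rw [(N.ker y).2 h4]; exact one_mem _
          · rw [N.e_eq_iff.2 h4]; exact t'.n_mem
          · rw [N.e_eq_iff.2 h4]; exact t'.a_mem
          · rw [N.e_eq_iff.2 h4]; exact t'.s_mem
        apply hq1
        exact hq.unique (FiveMod.ind_one_iff.2 (mem_centralizer_iff.2 fun v hv => M.comm hv h3))
      · right; exact (N.e_eq_iff.2 h2).symm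
    · left; exact (N.e_eq_iff.2 h1).symm
  have hM1 : ∀ x : Vec, M.e (x ∘ (Equiv.swap 0 1 : Equiv.Perm (Fin 5)).symm + x) = 1 ∨
      M.e (x ∘ (Equiv.swap 0 1 : Equiv.Perm (Fin 5)).symm + x) = M.e nn := by
    intro x
    rcases swap_comm x with h1 | h1
    · exact Or.inl ((M.ker _).2 h1)
    · exact Or.inr (M.e_eq_iff.2 h1)
  have hM2 : ∀ x : Vec, M.e (x ∘ (Equiv.swap 2 3 : Equiv.Perm (Fin 5)).symm + x) = 1 ∨
      M.e (x ∘ (Equiv.swap 2 3 : Equiv.Perm (Fin 5)).symm + x) = M.e aa := by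
    intro x
    rcases swap_comm' x with h1 | h1
    · exact Or.inl ((M.ker _).2 h1)
    · exact Or.inr (M.e_eq_iff.2 h1)
  have h1 : N.e nn = M.e nn ∨ N.e aa = M.e nn := by
    rcases key y1 _ hj1 (by decide) with h2 | h2
    · left
      rw [comm_pair hi1 hj1] at h2
      rcases hM1 x1 with h3 | h3
      · exact absurd (h2.trans h3) (Pos.n_ne N)
      · exact h2.trans h3
    · right
      rw [comm_pair hi2 hj1] at h2
      rcases hM1 x2 with h3 | h3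
      · exact absurd (h2.trans h3) (Pos.a_ne N)
      · exact h2.trans h3
  have h2 : N.e nn = M.e aa ∨ N.e aa = M.e aa := by
    rcases key y2 _ hj2 (by decide) with h2 | h2
    · left
      rw [comm_pair hi1 hj2] at h2
      rcases hM2 x1 with h3 | h3
      · exact absurd (h2.trans h3) (Pos.n_ne N)
      · exact h2.trans h3
    · right
      rw [comm_pair hi2 hj2] at h2
      rcases hM2 x2 with h3 | h3
      · exact absurd (h2.trans h3) (Pos.a_ne N)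
      · exact h2.trans h3
  rcases h1 with h1 | h1 <;> rcases h2 with h2 | h2
  · exact absurd (h1.symm.trans h2) (Pos.n_ne_a M)
  · exact Or.inl ⟨h1, h2⟩
  · exact Or.inr ⟨h2, h1⟩
  · exact absurd (h1.symm.trans h2) (Pos.n_ne_a M)

/-! ### Positions -/

section

variable {V L V₂ L₂ : Subgroup G} {M : FiveMod V L} {M₂ : FiveMod V₂ L₂}

theorem side_congr {V W W' L : Subgroup G} {M : FiveMod V L} (h : W = W') (t : Side V W M) :
    Side V W' M := h ▸ t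

/-- Choosing `h`, `V₂ ^ h = V₂ ^ g`, with `(0 1)(2 3)` induced by `V` on `V₂ ^ h`. -/
theorem exists_side {g : G} (hV : V ≤ cj g L₂) (t : Side V (cj g V₂) M) : ∃ h,
    cj h V₂ = cj g V₂ ∧ cj h L₂ = cj g L₂ ∧ Side V (cj h V₂) M ∧
      Side (cj h V₂) V (M₂.cj h) := by
  obtain ⟨q, r, hq, hr, hq1, hr1, hqr, hqq, hrr⟩ := t.exists_two (M₂.cj g) hV
  -- an element of `V` inducing a double transposition
  have h1 : ∃ v ∈ V, ∃ p, (M₂.cj g).Ind v p ∧ p ≠ 1 ∧ ¬ p.IsSwap ∧ p * p = 1 := by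
    by_cases h2 : q.IsSwap
    · by_cases h3 : r.IsSwap
      · obtain ⟨h4, h5⟩ := not_swap_mul h2 h3 hqr
        refine ⟨_, mul_mem (M.e_mem ![1, 0, 0, 0, 0]) (M.e_mem ![0, 0, 1, 0, 0]), q * r,
          hq.mul hr, h4, h5, ?_⟩
        have h6 : q * r = r * q := by
          have h7 := hr.mul hq
          rw [M.e_comm] at h7
          exact (hq.mul hr).unique h7
        calc q * r * (q * r) = q * r * (r * q) := by rw [h6]
          _ = q * (r * r) * q := by group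
          _ = 1 := by rw [hrr, mul_one, hqq]
      · exact ⟨_, M.e_mem _, r, hr, hr1, h3, hrr⟩
    · exact ⟨_, M.e_mem _, q, hq, hq1, h2, hqq⟩
  obtain ⟨v, hv, p, hp, hp1, hps, hpp⟩ := h1
  obtain ⟨σ, hσ⟩ := isConj_dd hpp hp1 hps
  obtain ⟨l, hlL, hl⟩ := M₂.exists_lift σ
  have hV' : cj (g * l) V₂ = cj g V₂ := by
    rw [← cj_cj, cj_eq_of_mem_normalizer (M₂.le_normalizer hlL)]
  have hL' : cj (g * l) L₂ = cj g L₂ := by
    rw [← cj_cj, cj_eq_of_mem_normalizer (Subgroup.le_normalizer hlL)]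
  have hi := FiveMod.cj_mul_ind hl hp
  rw [hσ] at hi
  refine ⟨g * l, hV', hL', side_congr hV'.symm t, ?_, ?_, ?_, v, hv, hi⟩
  · rw [hV']; exact t.WV.trans M.le_normalizer
  · rw [hL']; exact hV
  · exact fun w hw w' hw' => M.comm hw hw'

/-- Choosing `h` with `h n₂ h⁻¹ = n`, `h a₂ h⁻¹ = a`. -/
theorem exists_pos {g : G} (hV : V ≤ cj g L₂) (t : Side V (cj g V₂) M) : ∃ h,
    cj h V₂ = cj g V₂ ∧ Side V (cj h V₂) M ∧ Side (cj h V₂) V (M₂.cj h) ∧
      h * M₂.e nn * h⁻¹ = M.e nn ∧ h * M₂.e aa * h⁻¹ = M.e aa := by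
  obtain ⟨h, hVh, hLh, t1, t2⟩ := exists_side (M₂ := M₂) hV t
  rcases same_R t1 t2 with ⟨h1, h2⟩ | ⟨h1, h2⟩
  · rw [M₂.cj_e] at h1 h2
    exact ⟨h, hVh, t1, t2, h1, h2⟩
  · obtain ⟨l, hlL, hl⟩ := M₂.exists_lift tt
    have hV' : cj (h * l) V₂ = cj h V₂ := by
      rw [← cj_cj, cj_eq_of_mem_normalizer (M₂.le_normalizer hlL)]
    have hL' : cj (h * l) L₂ = cj h L₂ := by
      rw [← cj_cj, cj_eq_of_mem_normalizer (Subgroup.le_normalizer hlL)]
    obtain ⟨v, hv, hi⟩ := t2.dd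
    have hi' := FiveMod.cj_mul_ind hl hi
    have e : tt⁻¹ * TT.dd * tt = TT.dd := by decide
    rw [e] at hi'
    rw [M₂.cj_e] at h1 h2
    refine ⟨h * l, hV'.trans hVh, side_congr hV'.symm t1, ⟨?_, ?_, ?_, v, hv, hi'⟩, ?_, ?_⟩
    · rw [hV']; exact t1.WV.trans M.le_normalizer
    · rw [hL', hLh]; exact hV
    · exact fun w hw w' hw' => M.comm hw hw'
    · calc h * l * M₂.e nn * (h * l)⁻¹ = h * (l * M₂.e nn * l⁻¹) * h⁻¹ := by group
        _ = M.e nn := by rw [Pos.tt_n hl, h2]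
    · calc h * l * M₂.e aa * (h * l)⁻¹ = h * (l * M₂.e aa * l⁻¹) * h⁻¹ := by group
        _ = M.e aa := by rw [Pos.tt_a hl, h1]

end

theorem conj_n_or {V L : Subgroup G} {M : FiveMod V L} {x : G} {p : Equiv.Perm (Fin 5)}
    (h : M.Ind x p) (hp : p * dd = dd * p) :
    (x * M.e nn * x⁻¹ = M.e nn ∨ x * M.e nn * x⁻¹ = M.e aa) ∧
      (x * M.e aa * x⁻¹ = M.e nn ∨ x * M.e aa * x⁻¹ = M.e aa) := by
  rw [h, h, M.e_eq_iff, M.e_eq_iff, M.e_eq_iff, M.e_eq_iff]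
  exact ⟨d8_nn p hp, d8_aa p hp⟩

theorem V_le_S {V L : Subgroup G} (M : FiveMod V L) (S : Sylow 2 G) (hS : (S : Subgroup G) ≤ L) :
    V ≤ (S : Subgroup G) := by
  have h1 : IsPGroup 2 ((S : Subgroup G) ⊔ V : Subgroup G) :=
    IsPGroup.to_sup_of_normal_right' S.isPGroup' M.isPGroup (hS.trans M.le_normalizer)
  have h2 := S.is_maximal' h1 le_sup_left
  rw [← h2]
  exact le_sup_right

theorem s_mem_zc {V L : Subgroup G} (M : FiveMod V L) (S : Sylow 2 G) (hS : (S : Subgroup G) ≤ L)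
    (hd : ∀ g ∈ (S : Subgroup G), ∀ p, M.Ind g p → p * dd = dd * p) :
    M.e ss ∈ zc (S : Subgroup G) := by
  refine MinSimple.VModule.mem_zc.2 ⟨V_le_S M S hS (M.e_mem ss), fun b hb => ?_, Pos.e_sq' M ss⟩
  obtain ⟨p, hp⟩ := M.exists_ind (hS hb)
  exact (hp.commute_iff _).2 (Or.inl (fix_ss p (hd b hb p hp)))

theorem zc_le_of {V L : Subgroup G} (M : FiveMod V L) (S : Sylow 2 G)
    (hz : zc (S : Subgroup G) ≤ V)
    (hd' : ∀ p, p * dd = dd * p → ∃ g ∈ (S : Subgroup G), M.Ind g p) {x : G}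
    (hx : x ∈ zc (S : Subgroup G)) : x = 1 ∨ x = M.e ss := by
  obtain ⟨y, rfl⟩ := (M.mem_iff x).1 (hz hx)
  have h1 : ∀ p, p * dd = dd * p → y ∘ p.symm = y ∨ y ∘ p.symm = y + 1 := by
    intro p hp
    obtain ⟨g, hg, hi⟩ := hd' p hp
    exact (hi.commute_iff y).1 ((MinSimple.VModule.mem_zc.1 hx).2.1 g hg)
  rcases fix_all y (h1 _ (by decide)) (h1 _ (by decide)) (h1 _ (by decide)) with h2 | h2
  · exact Or.inl ((M.ker y).2 h2)
  · exact Or.inr (M.e_eq_iff.2 h2)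

/-- The case where the labels are adapted to `S`. -/
theorem false_of_dd [Finite G] (hG : IsCharacteristicTwoType G) (S : Sylow 2 G)
    {V L V₂ L₂ : Subgroup G} (M : FiveMod V L) (M₂ : FiveMod V₂ L₂)
    (hS : (S : Subgroup G) ≤ L) (hS₂ : (S : Subgroup G) ≤ L₂) (hz : zc (S : Subgroup G) ≤ V)
    (hd : ∀ g ∈ (S : Subgroup G), ∀ p, M.Ind g p → p * dd = dd * p)
    (hd' : ∀ p, p * dd = dd * p → ∃ g ∈ (S : Subgroup G), M.Ind g p)
    (hd₂ : ∀ g ∈ (S : Subgroup G), ∀ p, M₂.Ind g p → p * dd = dd * p)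
    {g : G} (hV : V ≤ cj g L₂) (t : Side V (cj g V₂) M) : False := by
  obtain ⟨k, hVk, t1, t2, hn, ha⟩ := exists_pos (M₂ := M₂) hV t
  -- `R = {1, n, a, s}`
  set R : Subgroup G := closure {M.e nn, M.e aa} with hR
  have hRmem : ∀ x, x ∈ R ↔ x = 1 ∨ x = M.e nn ∨ x = M.e aa ∨ x = M.e ss := by
    intro x
    constructor
    · intro hx
      have key : ∀ y ∈ R, ∃ i j : ZMod 2, y = M.e (i • nn + j • aa) := by
        intro y hy
        refine closure_induction (p := fun y _ => ∃ i j : ZMod 2, y = M.e (i • nn + j • aa))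
          ?_ ?_ ?_ ?_ hy
        · rintro z (rfl | rfl)
          · exact ⟨1, 0, by simp⟩
          · exact ⟨0, 1, by simp⟩
        · exact ⟨0, 0, by simp [M.e_zero]⟩
        · rintro a b - - ⟨i, j, rfl⟩ ⟨i', j', rfl⟩
          refine ⟨i + i', j + j', ?_⟩
          rw [← M.e_add]
          congr 1
          rw [add_smul, add_smul]
          abel
        · rintro a - ⟨i, j, rfl⟩
          exact ⟨i, j, M.e_inv _⟩
      obtain ⟨i, j, rfl⟩ := key x hx
      have h01 : ∀ i : ZMod 2, i = 0 ∨ i = 1 := by decide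
      rcases h01 i with rfl | rfl <;> rcases h01 j with rfl | rfl
      · left; simp [M.e_zero]
      · right; right; left; simp
      · right; left; simp
      · right; right; right
        rw [M.e_eq_iff]; decide
    · rintro (rfl | rfl | rfl | rfl)
      · exact one_mem _
      · exact subset_closure (Or.inl rfl)
      · exact subset_closure (Or.inr rfl)
      · rw [← Pos.na M]
        exact mul_mem (subset_closure (Or.inl rfl)) (subset_closure (Or.inr rfl))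
  have hRn : ∀ x : G, (x * M.e nn * x⁻¹ = M.e nn ∨ x * M.e nn * x⁻¹ = M.e aa) ∧
      (x * M.e aa * x⁻¹ = M.e nn ∨ x * M.e aa * x⁻¹ = M.e aa) → x ∈ normalizer (R : Set G) := by
    rintro x ⟨h1, h2⟩
    refine mem_normalizer_of_cj_le ?_
    change (closure {M.e nn, M.e aa}).map (MulAut.conj x).toMonoidHom ≤ R
    rw [MonoidHom.map_closure, closure_le]
    rintro _ ⟨z, rfl | rfl, rfl⟩
    · change x * M.e nn * x⁻¹ ∈ R
      rw [hRmem]
      rcases h1 with h1 | h1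
      · exact Or.inr (Or.inl h1)
      · exact Or.inr (Or.inr (Or.inl h1))
    · change x * M.e aa * x⁻¹ ∈ R
      rw [hRmem]
      rcases h2 with h2 | h2
      · exact Or.inr (Or.inl h2)
      · exact Or.inr (Or.inr (Or.inl h2))
  have hSR : (S : Subgroup G) ≤ normalizer (R : Set G) := by
    intro x hx
    obtain ⟨p, hp⟩ := M.exists_ind (hS hx)
    exact hRn x (conj_n_or hp (hd x hx p hp))
  have hkS : cj k (S : Subgroup G) ≤ normalizer (R : Set G) := by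
    rintro _ ⟨x, hx, rfl⟩
    obtain ⟨p, hp⟩ := M₂.exists_ind (hS₂ hx)
    obtain ⟨h1, h2⟩ := conj_n_or hp (hd₂ x hx p hp)
    refine hRn _ ⟨?_, ?_⟩
    · change k * x * k⁻¹ * M.e nn * (k * x * k⁻¹)⁻¹ = M.e nn ∨
        k * x * k⁻¹ * M.e nn * (k * x * k⁻¹)⁻¹ = M.e aa
      have e : k * x * k⁻¹ * M.e nn * (k * x * k⁻¹)⁻¹ = k * (x * M₂.e nn * x⁻¹) * k⁻¹ := by
        rw [← hn]; group
      rw [e]
      rcases h1 with h1 | h1
      · left; rw [h1, hn]
      · right; rw [h1, ha]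
    · change k * x * k⁻¹ * M.e aa * (k * x * k⁻¹)⁻¹ = M.e nn ∨
        k * x * k⁻¹ * M.e aa * (k * x * k⁻¹)⁻¹ = M.e aa
      have e : k * x * k⁻¹ * M.e aa * (k * x * k⁻¹)⁻¹ = k * (x * M₂.e aa * x⁻¹) * k⁻¹ := by
        rw [← ha]; group
      rw [e]
      rcases h2 with h2 | h2
      · left; rw [h2, hn]
      · right; rw [h2, ha]
  obtain ⟨y, hy, hyS⟩ := exists_conj_le_sylow S _ _ hSR (isPGroup_cj k S.isPGroup') hkS
  -- `m = y k` normalises `S`
  have hm : y * k ∈ normalizer ((S : Subgroup G) : Set G) := by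
    refine mem_normalizer_of_cj_le ?_
    rintro _ ⟨x, hx, rfl⟩
    have h1 := hyS _ ⟨x, hx, rfl⟩
    change y * k * x * (y * k)⁻¹ ∈ (S : Subgroup G)
    have e : y * k * x * (y * k)⁻¹ = y * (k * x * k⁻¹) * y⁻¹ := by group
    rw [e]
    exact h1
  have hs2 : M₂.e ss = M.e ss := by
    rcases zc_le_of M S hz hd' (s_mem_zc M₂ S hS₂ hd₂) with h1 | h1
    · exact absurd h1 (Pos.s_ne M₂)
    · exact h1
  have hks : k * M.e ss * k⁻¹ = M.e ss := by
    rw [← hs2, ← Pos.na M₂]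
    calc k * (M₂.e nn * M₂.e aa) * k⁻¹ = (k * M₂.e nn * k⁻¹) * (k * M₂.e aa * k⁻¹) := by group
      _ = M₂.e ss := by rw [hn, ha, Pos.na M, hs2]
      _ = M₂.e nn * M₂.e aa := (Pos.na M₂).symm
  have hms : (y * k) * M.e ss * (y * k)⁻¹ = M.e ss := by
    have h1 := (mem_normalizer_iff.1 (MinSimple.VModule.normalizer_le_normalizer_zc _ hm) _).1
      (s_mem_zc M S hS hd)
    rcases zc_le_of M S hz hd' h1 with h2 | h2
    · exfalso
      apply Pos.s_ne M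
      have := congrArg (fun w => (y * k)⁻¹ * w * (y * k)) h2
      simpa [mul_assoc] using this
    · exact h2
  have hys : y * M.e ss * y⁻¹ = M.e ss := by
    calc y * M.e ss * y⁻¹ = y * (k * M.e ss * k⁻¹) * y⁻¹ := by rw [hks]
      _ = (y * k) * M.e ss * (y * k)⁻¹ := by group
      _ = M.e ss := hms
  have hyn : y * M.e nn * y⁻¹ = M.e nn ∨ y * M.e nn * y⁻¹ = M.e aa := by
    have h1 := (mem_normalizer_iff.1 hy (M.e nn)).1 ((hRmem _).2 (Or.inr (Or.inl rfl)))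
    rcases (hRmem _).1 h1 with h2 | h2 | h2 | h2
    · exfalso
      apply Pos.n_ne M
      have := congrArg (fun w => y⁻¹ * w * y) h2
      simpa [mul_assoc] using this
    · exact Or.inl h2
    · exact Or.inr h2
    · exfalso
      rw [← hys] at h2
      exact Pos.n_ne_s M (mul_left_cancel (mul_right_cancel h2))
  -- the element `m`
  have hmex : ∃ m ∈ normalizer ((S : Subgroup G) : Set G), m * M₂.e nn * m⁻¹ = M.e nn ∧
      m * M₂.e aa * m⁻¹ = M.e aa := by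
    have hyk : ∀ z w : G, k * z * k⁻¹ = w → y * k * z * (y * k)⁻¹ = y * w * y⁻¹ := by
      intro z w h
      rw [← h]; group
    rcases hyn with h1 | h1
    · refine ⟨y * k, hm, ?_, ?_⟩
      · rw [hyk _ _ hn, h1]
      · rw [hyk _ _ ha, ← Pos.ns M]
        calc y * (M.e nn * M.e ss) * y⁻¹ = (y * M.e nn * y⁻¹) * (y * M.e ss * y⁻¹) := by group
          _ = M.e nn * M.e ss := by rw [h1, hys]
    · obtain ⟨g0, hg0, hi0⟩ := hd' tt (by decide)
      refine ⟨g0 * (y * k), mul_mem (Subgroup.le_normalizer hg0) hm, ?_, ?_⟩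
      · have e : g0 * (y * k) * M₂.e nn * (g0 * (y * k))⁻¹ =
            g0 * (y * k * M₂.e nn * (y * k)⁻¹) * g0⁻¹ := by group
        rw [e, hyk _ _ hn, h1, Pos.tt_a hi0]
      · have e : g0 * (y * k) * M₂.e aa * (g0 * (y * k))⁻¹ =
            g0 * (y * k * M₂.e aa * (y * k)⁻¹) * g0⁻¹ := by group
        have e2 : y * M.e aa * y⁻¹ = M.e nn := by
          rw [← Pos.ns M]
          calc y * (M.e nn * M.e ss) * y⁻¹ = (y * M.e nn * y⁻¹) * (y * M.e ss * y⁻¹) := by group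
            _ = M.e nn := by rw [h1, hys, Pos.as]
        rw [e, hyk _ _ ha, e2, Pos.tt_n hi0]
  obtain ⟨m, hmN, hmn, hma⟩ := hmex
  have hmS : ∀ x ∈ (S : Subgroup G), m⁻¹ * x * m ∈ (S : Subgroup G) := by
    intro x hx
    have h1 := (mem_normalizer_iff.1 (inv_mem hmN) x).1 hx
    rwa [inv_inv] at h1
  have hcjm : ∀ X : Subgroup G, cj (k * m⁻¹) (cj m X) = cj k X := by
    intro X
    rw [cj_cj]
    congr 2
    group
  have hind : ∀ {v : G} {p : Equiv.Perm (Fin 5)}, (M₂.cj k).Ind v p →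
      ((M₂.cj m).cj (k * m⁻¹)).Ind v p := by
    intro v p hp x
    have h1 := hp x
    rw [M₂.cj_e, M₂.cj_e] at h1
    change v * (k * m⁻¹ * (m * M₂.e x * m⁻¹) * (k * m⁻¹)⁻¹) * v⁻¹ =
      k * m⁻¹ * (m * M₂.e (x ∘ p.symm) * m⁻¹) * (k * m⁻¹)⁻¹
    have e : ∀ z : G, k * m⁻¹ * (m * z * m⁻¹) * (k * m⁻¹)⁻¹ = k * z * k⁻¹ := by
      intro z; group
    rw [e, e]
    exact h1
  refine Pos.false (S := S) (M := M) (M₂ := M₂.cj m) (h := k * m⁻¹)
    ⟨hG, hS, ?_, hz, hd, hd', ?_, hmn, hma, ?_, ?_, ?_, ?_, ?_⟩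
  · intro x hx
    rw [mem_cj]
    exact hS₂ (hmS x hx)
  · intro x hx p hp
    exact hd₂ _ (hmS x hx) p (FiveMod.ind_of_cj M₂ hp)
  · rw [← mul_inv_eq_iff_eq_mul]
    calc k * m⁻¹ * M.e nn * (k * m⁻¹)⁻¹ = k * (m⁻¹ * M.e nn * m) * k⁻¹ := by group
      _ = k * M₂.e nn * k⁻¹ := by rw [← hmn]; group
      _ = M.e nn := hn
  · rw [← mul_inv_eq_iff_eq_mul]
    calc k * m⁻¹ * M.e aa * (k * m⁻¹)⁻¹ = k * (m⁻¹ * M.e aa * m) * k⁻¹ := by group
      _ = k * M₂.e aa * k⁻¹ := by rw [← hma]; group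
      _ = M.e aa := ha
  · intro v hv
    rw [hcjm] at hv
    exact t1.act hv
  · intro v hv
    obtain ⟨p, hp, hi⟩ := t2.act hv
    exact ⟨p, hp, hind hi⟩
  · intro p hp
    obtain ⟨v, hv, hi⟩ := t1.sur t2 hp
    exact ⟨v, hv, hind hi⟩

/-- **A mutual pair `V`, `V₂ ^ g` of natural `O₄⁻(2)`-modules is of type T-T**: the elements of
`V₂ ^ g` act on `V` trivially or as transpositions. -/
theorem swap_of_pair [Finite G] (hG : IsCharacteristicTwoType G) (S : Sylow 2 G)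
    {V L V₂ L₂ : Subgroup G} (M : FiveMod V L) (M₂ : FiveMod V₂ L₂)
    (hS : (S : Subgroup G) ≤ L) (hS₂ : (S : Subgroup G) ≤ L₂) (hz : zc (S : Subgroup G) ≤ V)
    {g : G} (h1 : cj g V₂ ≤ L) (h2 : V ≤ cj g L₂) {w : G} (hw : w ∈ cj g V₂)
    {p : Equiv.Perm (Fin 5)} (hp : M.Ind w p) : p = 1 ∨ p.IsSwap := by
  by_contra hcon
  push Not at hcon
  obtain ⟨τ, hd, hd'⟩ := exists_relabel M S hS
  obtain ⟨τ₂, hd₂, -⟩ := exists_relabel M₂ S hS₂
  have hp' := FiveMod.relabel_ind τ hp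
  have hww : w * w = 1 := (M₂.cj g).sq hw
  have hpp : p * p = 1 := by
    have h3 := hp.mul hp
    rw [hww] at h3
    exact h3.unique M.ind_one
  have hpp' : (τ⁻¹ * p * τ) * (τ⁻¹ * p * τ) = 1 := by
    calc (τ⁻¹ * p * τ) * (τ⁻¹ * p * τ) = τ⁻¹ * (p * p) * τ := by group
      _ = 1 := by rw [hpp]; group
  have hp1' : τ⁻¹ * p * τ ≠ 1 := by
    intro h
    apply hcon.1
    have := congrArg (fun x => τ * x * τ⁻¹) h
    simpa [mul_assoc] using this
  have hps' : ¬ (τ⁻¹ * p * τ).IsSwap := by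
    intro h
    apply hcon.2
    obtain ⟨i, j, hij, hsw⟩ := h
    refine ⟨τ i, τ j, fun h => hij (τ.injective h), ?_⟩
    have e : p = τ * (τ⁻¹ * p * τ) * τ⁻¹ := by group
    rw [e, hsw, Equiv.swap_apply_apply]
  obtain ⟨σ, hσ⟩ := isConj_dd hpp' hp1' hps'
  -- replace `g` by `l g`
  obtain ⟨l, hlL, hl⟩ := (M.relabel τ).exists_lift σ⁻¹
  have hl' : (M.relabel τ).Ind l σ⁻¹ := hl
  have hlV := (M.relabel τ).le_normalizer hlL
  have hcjl : ∀ X : Subgroup G, cj (l * g) X = cj l (cj g X) := fun X => (cj_cj l g X).symm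
  have hVL : V ≤ cj (l * g) L₂ := by
    rw [hcjl, ← cj_eq_of_mem_normalizer hlV]
    exact cj_mono l h2
  have hV₂L : cj (l * g) V₂ ≤ L := by
    rw [hcjl, ← cj_eq_of_mem_normalizer (Subgroup.le_normalizer hlL : l ∈ normalizer (L : Set G))]
    exact cj_mono l h1
  have hind := (hl'.mul hp').mul hl'.inv
  rw [inv_inv, hσ] at hind
  refine false_of_dd hG S (M.relabel τ) (M₂.relabel τ₂) hS hS₂ hz hd hd' hd₂ (g := l * g) hVL
    ⟨?_, hV₂L, fun x hx y hy => (M₂.cj (l * g)).comm hx hy, l * w * l⁻¹, ?_, hind⟩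
  · exact hVL.trans (M₂.cj (l * g)).le_normalizer
  · rw [hcjl]
    exact ⟨w, hw, rfl⟩

/-! ### The index form -/

/-- `|W : C_W(X)| ≤ 2` -/
def TwoAct (W X : Subgroup G) : Prop := ∀ w ∈ W, ∀ w' ∈ W, w ∉ centralizer (X : Set G) →
  w' ∉ centralizer (X : Set G) → w⁻¹ * w' ∈ centralizer (X : Set G)

theorem TwoAct.relIndex_le [Finite G] {W X : Subgroup G} (h : TwoAct W X) :
    (centralizer (X : Set G)).relIndex W ≤ 2 := by
  by_cases h1 : ∃ w ∈ W, w ∉ centralizer (X : Set G)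
  · obtain ⟨w, hw, hwX⟩ := h1
    refine le_of_eq ?_
    rw [relIndex, index_eq_two_iff]
    refine ⟨(⟨w, hw⟩ : W)⁻¹, fun b => ?_⟩
    rw [mem_subgroupOf, mem_subgroupOf]
    change Xor ((b : G) * w⁻¹ ∈ centralizer (X : Set G)) ((b : G) ∈ centralizer (X : Set G))
    by_cases hb : (b : G) ∈ centralizer (X : Set G)
    · refine Or.inr ⟨hb, fun h2 => hwX ?_⟩
      have h3 := mul_mem (inv_mem h2) hb
      have e : ((b : G) * w⁻¹)⁻¹ * b = w := by group
      rwa [e] at h3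
    · refine Or.inl ⟨?_, hb⟩
      have h2 := h _ (inv_mem b.2) _ (inv_mem hw) (fun h3 => hb (inv_mem_iff.1 h3))
        (fun h3 => hwX (inv_mem_iff.1 h3))
      rwa [inv_inv] at h2
  · push Not at h1
    have h2 : (centralizer (X : Set G)).relIndex W = 1 := by
      rw [relIndex_eq_one]
      exact h1
    rw [h2]; norm_num

theorem TwoAct.cj {W X : Subgroup G} (h : TwoAct W X) (y : G) : TwoAct (cj y W) (cj y X) := by
  rintro _ ⟨w, hw, rfl⟩ _ ⟨w', hw', rfl⟩ h1 h2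
  have key : ∀ z : G, y * z * y⁻¹ ∈ centralizer ((ChoiceBase.cj y X : Subgroup G) : Set G) ↔
      z ∈ centralizer (X : Set G) := by
    intro z
    rw [← cj_centralizer, mem_cj]
    have e : y⁻¹ * (y * z * y⁻¹) * y = z := by group
    rw [e]
  change y * w * y⁻¹ ∉ _ at h1
  change y * w' * y⁻¹ ∉ _ at h2
  rw [key] at h1 h2
  have h3 := h w hw w' hw' h1 h2
  change (y * w * y⁻¹)⁻¹ * (y * w' * y⁻¹) ∈ _
  have e : (y * w * y⁻¹)⁻¹ * (y * w' * y⁻¹) = y * (w⁻¹ * w') * y⁻¹ := by group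
  rw [e, key]
  exact h3

/-- If all elements of `W` act on `V` as `1` or as transpositions, then `|W : C_W(V)| ≤ 2`. -/
theorem twoAct_of_swap {V W L : Subgroup G} (M : FiveMod V L) (hWL : W ≤ L)
    (hW : ∀ w ∈ W, ∀ p, M.Ind w p → p = 1 ∨ p.IsSwap) : TwoAct W V := by
  intro w hw w' hw' h1 h2
  obtain ⟨p, hp⟩ := M.exists_ind (hWL hw)
  obtain ⟨p', hp'⟩ := M.exists_ind (hWL hw')
  have hi : M.Ind (w⁻¹ * w') (p⁻¹ * p') := hp.inv.mul hp'
  have hs : p.IsSwap := by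
    rcases hW w hw p hp with rfl | h
    · exact absurd (FiveMod.ind_one_iff.1 hp) h1
    · exact h
  have hs' : p'.IsSwap := by
    rcases hW w' hw' p' hp' with rfl | h
    · exact absurd (FiveMod.ind_one_iff.1 hp') h2
    · exact h
  have hinv : p⁻¹ = p := by
    obtain ⟨i, j, -, rfl⟩ := hs
    exact Equiv.swap_inv i j
  rw [hinv] at hi
  by_cases hpp : p = p'
  · have e : p * p' = 1 := by rw [← hpp, mul_eq_one_iff_eq_inv, hinv]
    rw [e] at hi
    exact FiveMod.ind_one_iff.1 hi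
  · exfalso
    obtain ⟨h3, h4⟩ := not_swap_mul hs hs' hpp
    rcases hW _ (mul_mem (inv_mem hw) hw') _ hi with h5 | h5
    · exact h3 h5
    · exact h4 h5

/-- Moving a mutual pair into `S`, `S ^ g`. -/
theorem exists_good [Finite G] (S : Sylow 2 G) {V V₂ : Subgroup G}
    (hV : IsPGroup 2 V) (hV₂ : IsPGroup 2 V₂) (hS : (S : Subgroup G) ≤ normalizer (V : Set G))
    (hS₂ : (S : Subgroup G) ≤ normalizer (V₂ : Set G)) {g : G}
    (h1 : cj g V₂ ≤ normalizer (V : Set G)) (h2 : V ≤ normalizer ((cj g V₂ : Subgroup G) : Set G)) :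
    ∃ y ∈ normalizer (V : Set G), ∃ k : G, cj k V₂ = cj y (cj g V₂) ∧
      cj k V₂ ≤ (S : Subgroup G) ∧ V ≤ cj k (S : Subgroup G) := by
  obtain ⟨y, hy, hyS⟩ := exists_conj_le_sylow S _ _ hS (isPGroup_cj g hV₂) h1
  have h3 : cj (y * g) V₂ ≤ (S : Subgroup G) := by
    rw [← cj_cj]
    rintro _ ⟨x, hx, rfl⟩
    exact hyS x hx
  have h4 : V ≤ normalizer ((cj (y * g) V₂ : Subgroup G) : Set G) := by
    rw [← cj_cj, ← cj_normalizer, ← cj_eq_of_mem_normalizer hy]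
    exact cj_mono y h2
  have h5 : (((y * g) • S : Sylow 2 G) : Subgroup G) = cj (y * g) (S : Subgroup G) := by
    rw [Sylow.coe_subgroup_smul]; rfl
  have h6 : (((y * g) • S : Sylow 2 G) : Subgroup G) ≤
      normalizer ((cj (y * g) V₂ : Subgroup G) : Set G) := by
    rw [h5, ← cj_normalizer]
    exact cj_mono _ hS₂
  obtain ⟨c, hc, hcS⟩ := exists_conj_le_sylow ((y * g) • S) _ _ h6 hV h4
  refine ⟨y, hy, c⁻¹ * (y * g), ?_, ?_, ?_⟩
  · rw [← cj_cj, cj_eq_of_mem_normalizer (inv_mem hc), cj_cj]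
  · rw [← cj_cj, cj_eq_of_mem_normalizer (inv_mem hc)]
    exact h3
  · intro v hv
    rw [← cj_cj, mem_cj, inv_inv]
    have h7 := hcS v hv
    rw [h5] at h7
    exact h7

/-- **A mutual pair `V`, `V₂ ^ g` of natural `O₄⁻(2)`-modules is of type T-T** (index form). -/
theorem index_le_two [Finite G] (hG : IsCharacteristicTwoType G) (S : Sylow 2 G)
    {V L V₂ L₂ : Subgroup G} (M : FiveMod V L) (M₂ : FiveMod V₂ L₂)
    (hS : (S : Subgroup G) ≤ L) (hS₂ : (S : Subgroup G) ≤ L₂) (hz : zc (S : Subgroup G) ≤ V)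
    (hz₂ : zc (S : Subgroup G) ≤ V₂) {g : G} (h1 : cj g V₂ ≤ normalizer (V : Set G))
    (h2 : V ≤ normalizer ((cj g V₂ : Subgroup G) : Set G)) :
    TwoAct (cj g V₂) V ∧ TwoAct V (cj g V₂) := by
  obtain ⟨y, hy, k, hk, hkS, hVk⟩ := exists_good S M.isPGroup M₂.isPGroup
    (hS.trans M.le_normalizer) (hS₂.trans M₂.le_normalizer) h1 h2
  have ha : TwoAct (cj k V₂) V := twoAct_of_swap M (hkS.trans hS) fun w hw p hp =>
    swap_of_pair hG S M M₂ hS hS₂ hz (hkS.trans hS) (hVk.trans (cj_mono k hS₂)) hw hp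
  have hkV : cj k⁻¹ V ≤ L₂ := by
    rw [cj_le_iff, inv_inv]
    exact hVk.trans (cj_mono k hS₂)
  have hV₂k : V₂ ≤ cj k⁻¹ L := cj_le_iff.1 (hkS.trans hS)
  have hb : TwoAct (cj k⁻¹ V) V₂ := twoAct_of_swap M₂ hkV fun w hw p hp =>
    swap_of_pair hG S M₂ M hS₂ hS hz₂ hkV hV₂k hw hp
  have hb' := hb.cj k
  rw [cj_cj_inv, hk] at hb'
  rw [hk] at ha
  have hyV : cj y⁻¹ V = V := cj_eq_of_mem_normalizer (inv_mem hy)
  have ha' := ha.cj y⁻¹
  have hb'' := hb'.cj y⁻¹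
  rw [cj_inv_cj, hyV] at ha' hb''
  exact ⟨ha', hb''⟩

end Cfsg.Agent.Omega.S5.Types
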