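import Cfsg.Agent.Omega.S5.Def
import Cfsg.Agent.Omega.S5.Types

/-!
# II.c: TT-TT for `EvenSet 5`

* `FiveMod.ofEven`: an `EvenSet 5 V L ε` is a `FiveMod V L` with `e = ε` (and conversely `FiveMod.even`);
* `EvenSet.index_le_two`: a mutual pair of two `EvenSet 5` modules over the same Sylow subgroup is of
  type T-T.
-/

set_option autoImplicit false

namespace Cfsg.Agent.Omega.S5.OfEven

open Subgroup Cfsg Cfsg.Agent.ZN Cfsg.Agent.ZN.ChoiceBase
open Cfsg.Agent.Omega.S5.Mod Cfsg.Agent.Omega.S5.Def Cfsg.Agent.Omega.S5.Types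

universe u

variable {G : Type u} [Group G] {V L V₂ L₂ : Subgroup G} {ε ε₂ : (Fin 5 → ZMod 2) → G}

/-- `EvenSet 5` as a `FiveMod`. -/
def ofEven (h : EvenSet 5 V L ε) : FiveMod V L where
  e := ε
  e_add := h.add
  ker := h.ker
  mem_iff g := ⟨fun hg => h.surj g hg, by rintro ⟨x, rfl⟩; exact h.mem x⟩
  act := h.perm
  lift := h.full

theorem ofEven_e (h : EvenSet 5 V L ε) : (ofEven h).e = ε := rfl

theorem ofEven_ind (h : EvenSet 5 V L ε) {g : G} {p : Equiv.Perm (Fin 5)} :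
    (ofEven h).Ind g p ↔ Acts ε g p := Iff.rfl

theorem even (M : FiveMod V L) : EvenSet 5 V L M.e where
  add := M.e_add
  mem := M.e_mem
  surj v hv := (M.mem_iff v).1 hv
  ker := M.ker
  perm := M.act
  full := M.lift

/-- **A mutual pair `V`, `V₂ ^ g` of `EvenSet 5` modules is of type T-T** (elementwise form,
`V₂ ^ g ≤ L`, `V ≤ L₂ ^ g`). -/
theorem swap_of_pair [Finite G] (hG : IsCharacteristicTwoType G) (S : Sylow 2 G)
    (h : EvenSet 5 V L ε) (h₂ : EvenSet 5 V₂ L₂ ε₂) (hS : (S : Subgroup G) ≤ L)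
    (hS₂ : (S : Subgroup G) ≤ L₂) (hz : zc (S : Subgroup G) ≤ V) {g : G} (h1 : cj g V₂ ≤ L)
    (h2 : V ≤ cj g L₂) {w : G} (hw : w ∈ cj g V₂) {p : Equiv.Perm (Fin 5)} (hp : Acts ε w p) :
    p = 1 ∨ p.IsSwap :=
  Types.swap_of_pair hG S (ofEven h) (ofEven h₂) hS hS₂ hz h1 h2 hw hp

/-- **A mutual pair `V`, `V₂ ^ g` of `EvenSet 5` modules is of type T-T** (index form: `TwoAct W X`
says `|W : C_W(X)| ≤ 2`). -/
theorem index_le_two [Finite G] (hG : IsCharacteristicTwoType G) (S : Sylow 2 G)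
    (h : EvenSet 5 V L ε) (h₂ : EvenSet 5 V₂ L₂ ε₂) (hS : (S : Subgroup G) ≤ L)
    (hS₂ : (S : Subgroup G) ≤ L₂) (hz : zc (S : Subgroup G) ≤ V) (hz₂ : zc (S : Subgroup G) ≤ V₂)
    {g : G} (h1 : cj g V₂ ≤ normalizer (V : Set G))
    (h2 : V ≤ normalizer ((cj g V₂ : Subgroup G) : Set G)) :
    TwoAct (cj g V₂) V ∧ TwoAct V (cj g V₂) :=
  Types.index_le_two hG S (ofEven h) (ofEven h₂) hS hS₂ hz hz₂ h1 h2

end Cfsg.Agent.Omega.S5.OfEven
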