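import Cfsg.Agent.Omega.S5.Nat
import Cfsg.Agent.Omega.S5.OfEven
import Cfsg.Agent.Omega.FrameExtra

/-!
# OMEGA II.c: the leaf `FrameMulti.LeafC` from its inputs (assembler: helper629)

A mutual pair `V = V_{P₁}`, `V' = (V_{P₂})^y` with one factor and `C_V(O²(P)) = 1`, `P₁` of type `S_{2^m+1}`.

* `exists_pos` : normal position `V' ≤ S`, `V ≤ S^y`, offenders both ways;
* `Lab S P₁ P₂ y m ε` : the labelled position: `V` is the even-subset module with labels `ε`, `S` fixes the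
  label `0`, `V'` acts by products of disjoint transpositions which are all induced by `V'`;
* `ExitN2 S P` : `P ∈ P*(S)`, `|V_P| = 4`, `⟨P, C_G(Z)⟩` nonlocal; `NodeN2` = `NodeN2a` (some `V_P^g`,
  `g ∈ C_G(Z)`, does not commute with `V_P`) + `NodeN2b` (all commute);
* inputs (named Props): `NatFive`, `TTCen`, `TTNon` (`m = 2`), `NatBig`, `SymBig` (`m ≥ 3` or `m' ≥ 3`);
* `leafC` : the inputs imply `FrameMulti.LeafC K`.
-/

set_option autoImplicit false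

namespace Cfsg.Agent.Omega.S5.Main

open Subgroup Pointwise Cfsg Cfsg.Agent.ZN Cfsg.Agent.ZN.ChoiceBase Cfsg.Agent.Omega.MinPar
open Cfsg.Agent.Omega.Frame Cfsg.Agent.Omega.FFThm
open Cfsg.Agent.Omega.FrameLE (AllIn)
open Cfsg.Agent.Omega.FrameNOFF (CZ)
open Cfsg.Agent.Omega.FrameFF (cv Single Free)
open Cfsg.Agent.Omega.FrameMulti (IsSym IsNat Typed AllTyped NoWr SymFree LeafC)
open Cfsg.Agent.Omega.S5.Def Cfsg.Agent.Omega.S5.Syl Cfsg.Agent.Omega.S5.Pair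
open Cfsg.Agent.MinSimple.VModule (le_normalizer_zl zc_le_zl)

universe u

/-! ### Positions -/

section pos

variable {G : Type u} [Group G]

/-- Normal position of a mutual pair. -/
structure Pos [Finite G] (S : Sylow 2 G) (P₁ P₂ : Subgroup G) (y : G) : Prop where
  pair : Mutual (S : Subgroup G) P₁ P₂ y
  le : cj y (zl (S : Subgroup G) P₂) ≤ (S : Subgroup G)
  ge : zl (S : Subgroup G) P₁ ≤ cj y (S : Subgroup G)
  off₁ : Off (zl (S : Subgroup G) P₁) (cj y (zl (S : Subgroup G) P₂))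
  off₂ : Off (cj y (zl (S : Subgroup G) P₂)) (zl (S : Subgroup G) P₁)

variable [Finite G]

/-- Both members of a mutual pair are offenders on each other. -/
theorem off_both (hG : IsCharacteristicTwoType G) (S : Sylow 2 G) (hT : AllTyped (S : Subgroup G))
    {P₁ P₂ : Subgroup G} {y : G} (h : Mutual (S : Subgroup G) P₁ P₂ y) :
    Off (zl (S : Subgroup G) P₁) (cj y (zl (S : Subgroup G) P₂)) ∧
      Off (cj y (zl (S : Subgroup G) P₂)) (zl (S : Subgroup G) P₁) := by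
  have e1 := elem_zl hG S h.star₁.isLoc
  have e2 := elem_zl hG S h.star₂.isLoc
  have key : ∀ {Q₁ Q₂ : Subgroup G} {z : G}, Mutual (S : Subgroup G) Q₁ Q₂ z →
      Off (zl (S : Subgroup G) Q₁) (cj z (zl (S : Subgroup G) Q₂)) →
      Off (cj z (zl (S : Subgroup G) Q₂)) (zl (S : Subgroup G) Q₁) := by
    intro Q₁ Q₂ z hm ho
    refine ⟨elem_zl hG S hm.star₁.isLoc, fun h2 => ho.ne (le_centralizer_iff.mp h2), ?_⟩
    exact le_of_noOver S hm.star₁.le (le_normalizer_zl _ _) (hT Q₁ Q₂ z hm).1.noOver ho.elem hm.le₂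
  rcases off_or e1 (isElementaryAbelian_cj y e2) (Mutual.not_le h) with h1 | h1
  · exact ⟨h1, key h h1⟩
  · have h2 := off_cj h1 y⁻¹
    rw [cj_inv_cj] at h2
    have h3 := off_cj (key h.symm h2) y
    rw [cj_cj_inv] at h3
    exact ⟨h3, h1⟩

/-- **Normal position.** -/
theorem exists_pos (hG : IsCharacteristicTwoType G) (S : Sylow 2 G) (hT : AllTyped (S : Subgroup G))
    {P₁ P₂ : Subgroup G} {x : G} (h : Mutual (S : Subgroup G) P₁ P₂ x) : ∃ y, Pos S P₁ P₂ y := by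
  obtain ⟨y, h1, h2, h3⟩ := Pair.exists_pos hG S h
  obtain ⟨o1, o2⟩ := off_both hG S hT h1
  exact ⟨y, h1, h2, h3, o1, o2⟩

/-- The labelled position: `V` is the even-subset module of degree `2^m + 1` with the labels `ε`. -/
structure Lab (S : Sylow 2 G) (P₁ P₂ : Subgroup G) (y : G) (m : ℕ)
    (ε : (Fin (2 ^ m + 1) → ZMod 2) → G) : Prop extends Pos S P₁ P₂ y where
  even : EvenSet (2 ^ m + 1) (zl (S : Subgroup G) P₁) P₁ ε
  fix0 : Fix0 ε (S : Subgroup G)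
  side : Side (cj y (zl (S : Subgroup G) P₂)) ε

/-- Both members are even-subset modules (`V'` with the labels `y ε₂ y⁻¹`). -/
structure LabTwo (S : Sylow 2 G) (P₁ P₂ : Subgroup G) (y : G) (m m' : ℕ)
    (ε : (Fin (2 ^ m + 1) → ZMod 2) → G) (ε₂ : (Fin (2 ^ m' + 1) → ZMod 2) → G) : Prop
    extends Lab S P₁ P₂ y m ε where
  even₂ : EvenSet (2 ^ m' + 1) (zl (S : Subgroup G) P₂) P₂ ε₂
  fix0₂ : Fix0 ε₂ (S : Subgroup G)
  side₂ : Side (zl (S : Subgroup G) P₁) fun x => y * ε₂ x * y⁻¹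

theorem Pos.lab {S : Sylow 2 G} {P₁ P₂ : Subgroup G} {y : G} (h : Pos S P₁ P₂ y) {m : ℕ} (hm : 2 ≤ m)
    (hS : IsSym (S : Subgroup G) P₁ 1 m) (hF : Free (S : Subgroup G) P₁) : ∃ ε, Lab S P₁ P₂ y m ε := by
  obtain ⟨ε, h1, h2, h3⟩ := exists_lab (S : Subgroup G) hm h.pair.star₁.le hS hF
  exact ⟨ε, h, h1, h2, h3 _ h.le h.off₁⟩

theorem Pos.labTwo {S : Sylow 2 G} {P₁ P₂ : Subgroup G} {y : G} (h : Pos S P₁ P₂ y) {m m' : ℕ} (hm : 2 ≤ m)
    (hm' : 2 ≤ m') (hS : IsSym (S : Subgroup G) P₁ 1 m) (hF : Free (S : Subgroup G) P₁)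
    (hS' : IsSym (S : Subgroup G) P₂ 1 m') (hF' : Free (S : Subgroup G) P₂) :
    ∃ ε ε₂, LabTwo S P₁ P₂ y m m' ε ε₂ := by
  obtain ⟨ε, h1⟩ := h.lab hm hS hF
  obtain ⟨ε₂, h2, h3, h4⟩ := exists_lab (S : Subgroup G) hm' h.pair.star₂.le hS' hF'
  have h5 := off_cj h.off₂ y⁻¹
  rw [cj_inv_cj] at h5
  have h6 : cj y⁻¹ (zl (S : Subgroup G) P₁) ≤ (S : Subgroup G) := by
    rw [cj_le_iff, inv_inv]
    exact h.ge
  have h7 := (h4 _ h6 h5).conj y
  rw [cj_cj_inv] at h7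
  exact ⟨ε, ε₂, h1, h2, h3, h7⟩

/-- Some Sylow 2-subgroup centralises `[V, V']` (the vector `n` of a T-T pair is 2-central). -/
def Cen (V V' : Subgroup G) : Prop :=
  ∃ T : Sylow 2 G, (T : Subgroup G) ≤ centralizer ((⁅V, V'⁆ : Subgroup G) : Set G)

/-- Exit N2: `P ∈ P*(S)`, `|V_P| = 4`, `⟨P, C_G(Z)⟩` is nonlocal. -/
structure ExitN2 (S P : Subgroup G) : Prop where
  star : IsParS S P
  card : Nat.card (zl S P) = 4
  nonloc : NonLoc P (CZ S)

end pos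

/-! ### The node N2 -/

section node

variable (K : Cls.{u})

/-- **N2**: a point of order 4 with `⟨P, C_G(Z)⟩` nonlocal (also the exit of II.d, `q = 2`). -/
def NodeN2 : Prop :=
  ∀ (G : Type u) [Group G] [Finite G], Ctx G → K G → ∀ (S : Sylow 2 G), Full (S : Subgroup G) →
    AllIn (S : Subgroup G) → ∀ P : Subgroup G, ExitN2 (S : Subgroup G) P → IsKnownSimple' G

/-- **N2a**: `⟨V_P^{C_G(Z)}⟩` nonabelian. (II.a, `q = 2` without `AllFree`: helper338, Omega/FFTwoA/Final.lean,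
through `FrameExtra.NodeSympl`.) -/
def NodeN2a : Prop :=
  ∀ (G : Type u) [Group G] [Finite G], Ctx G → K G → ∀ (S : Sylow 2 G), Full (S : Subgroup G) →
    AllIn (S : Subgroup G) → ∀ P : Subgroup G, ExitN2 (S : Subgroup G) P →
      (∃ g ∈ CZ (S : Subgroup G), ⁅zl (S : Subgroup G) P, cj g (zl (S : Subgroup G) P)⁆ ≠ ⊥) →
        IsKnownSimple' G

/-- **N2b**: `⟨V_P^{C_G(Z)}⟩` abelian (NO-3S, `q = 2`, for the one line type `V_P`; mutual pairs of other types are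
allowed). -/
def NodeN2b : Prop :=
  ∀ (G : Type u) [Group G] [Finite G], Ctx G → K G → ∀ (S : Sylow 2 G), Full (S : Subgroup G) →
    AllIn (S : Subgroup G) → ∀ P : Subgroup G, ExitN2 (S : Subgroup G) P →
      (∀ g ∈ CZ (S : Subgroup G), ⁅zl (S : Subgroup G) P, cj g (zl (S : Subgroup G) P)⁆ = ⊥) →
        IsKnownSimple' G

variable {K}

theorem nodeN2 (ha : NodeN2a K) (hb : NodeN2b K) : NodeN2 K := by
  intro G _ _ hG hcl S hF hI P hP
  by_cases h : ∃ g ∈ CZ (S : Subgroup G), ⁅zl (S : Subgroup G) P, cj g (zl (S : Subgroup G) P)⁆ ≠ ⊥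
  · exact ha G hG hcl S hF hI P hP h
  · push Not at h
    exact hb G hG hcl S hF hI P hP h

end node

/-! ### The inputs -/

section inputs

variable (K : Cls.{u})

/-- `m = 2`, natural `SL₂(2)` against a transposition: exit N2. (#12859 (1)-(4), #13542 (B1); typist helper501,
Omega/NTwo) -/
def NatFive : Prop :=
  ∀ (G : Type u) [Group G] [Finite G], Ctx G → ∀ (S : Sylow 2 G), Full (S : Subgroup G) →
    AllIn (S : Subgroup G) → ∀ (P₁ P₂ : Subgroup G) (y : G) (ε : (Fin (2 ^ 2 + 1) → ZMod 2) → G),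
      Lab S P₁ P₂ y 2 ε → IsNat (S : Subgroup G) P₂ 1 → Free (S : Subgroup G) P₂ →
        Nat.card (zl (S : Subgroup G) P₂) = 4 → ∃ P : Subgroup G, ExitN2 (S : Subgroup G) P

/-- T-T, `n` 2-central: exit N2. (HALF LEMMA, #12859, #13542 (B1); typist helper501, Omega/NTwo) -/
def TTCen : Prop :=
  ∀ (G : Type u) [Group G] [Finite G], Ctx G → ∀ (S : Sylow 2 G), Full (S : Subgroup G) →
    AllIn (S : Subgroup G) → ∀ (P₁ P₂ : Subgroup G) (y : G) (ε ε₂ : (Fin (2 ^ 2 + 1) → ZMod 2) → G),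
      LabTwo S P₁ P₂ y 2 2 ε ε₂ →
        Types.TwoAct (cj y (zl (S : Subgroup G) P₂)) (zl (S : Subgroup G) P₁) →
        Types.TwoAct (zl (S : Subgroup G) P₁) (cj y (zl (S : Subgroup G) P₂)) →
        Cen (zl (S : Subgroup G) P₁) (cj y (zl (S : Subgroup G) P₂)) →
          ∃ P : Subgroup G, ExitN2 (S : Subgroup G) P

/-- T-T, `n` not 2-central, `V_P ≤ O₂(C_G(Z))`: impossible. (normal form: helper375, helper107; `U_n ≤ Q_a`:
helper429 #13318 + #13720, typist helper849; `U_n ≰ Q_a`: helper439 #14261; frame: helper421, Omega/TTn) -/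
def TTNon : Prop :=
  ∀ (G : Type u) [Group G] [Finite G], Ctx G → ∀ (S : Sylow 2 G), Full (S : Subgroup G) →
    AllIn (S : Subgroup G) → ∀ (P₁ P₂ : Subgroup G) (y : G) (ε ε₂ : (Fin (2 ^ 2 + 1) → ZMod 2) → G),
      LabTwo S P₁ P₂ y 2 2 ε ε₂ →
        Types.TwoAct (cj y (zl (S : Subgroup G) P₂)) (zl (S : Subgroup G) P₁) →
        Types.TwoAct (zl (S : Subgroup G) P₁) (cj y (zl (S : Subgroup G) P₂)) →
        ¬ Cen (zl (S : Subgroup G) P₁) (cj y (zl (S : Subgroup G) P₂)) → False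

/-- `m ≥ 3`, natural `SL₂(2)` against a transposition. (N6: helper16, 140, 666, 945) -/
def NatBig : Prop :=
  ∀ (G : Type u) [Group G] [Finite G], Ctx G → K G → ∀ (S : Sylow 2 G), Full (S : Subgroup G) →
    AllIn (S : Subgroup G) → AllTyped (S : Subgroup G) → NoWr (S : Subgroup G) →
    SymFree (S : Subgroup G) →
    ∀ (P₁ P₂ : Subgroup G) (y : G) (m : ℕ) (ε : (Fin (2 ^ m + 1) → ZMod 2) → G), 3 ≤ m →
      Lab S P₁ P₂ y m ε → IsNat (S : Subgroup G) P₂ 1 → Free (S : Subgroup G) P₂ →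
        Nat.card (zl (S : Subgroup G) P₂) = 4 → IsKnownSimple' G

/-- `S_{2^m+1}` against `S_{2^m'+1}`, `m ≥ 3` or `m' ≥ 3`. (N6: helper16, 140, 666, 945, 101, 827) -/
def SymBig : Prop :=
  ∀ (G : Type u) [Group G] [Finite G], Ctx G → K G → ∀ (S : Sylow 2 G), Full (S : Subgroup G) →
    AllIn (S : Subgroup G) → AllTyped (S : Subgroup G) → NoWr (S : Subgroup G) →
    SymFree (S : Subgroup G) →
    ∀ (P₁ P₂ : Subgroup G) (y : G) (m m' : ℕ) (ε : (Fin (2 ^ m + 1) → ZMod 2) → G)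
      (ε₂ : (Fin (2 ^ m' + 1) → ZMod 2) → G), 2 ≤ m → 2 ≤ m' → 3 ≤ m ∨ 3 ≤ m' →
        LabTwo S P₁ P₂ y m m' ε ε₂ → IsKnownSimple' G

end inputs

/-! ### The leaf -/

section leaf

variable {K : Cls.{u}}

/-- **II.c.** -/
theorem leafC (hN2 : NodeN2 K) (h1 : NatFive.{u}) (h2 : TTCen.{u}) (h3 : TTNon.{u}) (h4 : NatBig K)
    (h5 : SymBig K) : LeafC K := by
  intro G _ _ hG hcl S hF hI hT hW hSF P₁ P₂ x hm hF₁ hF₂ m hm2 hS hc
  obtain ⟨y, hp⟩ := exists_pos hG.char2 S hT hm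
  rcases hc with hN | ⟨m', hm2', hS'⟩
  · obtain ⟨ε, hl⟩ := hp.lab hm2 hS hF₁
    have h4' := Nat.card_four S (three_le (by omega : 1 ≤ m)) hp.off₁ hp.off₂ hp.pair.star₂.le hp.ge hl.even
      hl.side hN hF₂
    by_cases hm3 : m = 2
    · subst hm3
      obtain ⟨P, hP⟩ := h1 G hG S hF hI P₁ P₂ y ε hl hN hF₂ h4'
      exact hN2 G hG hcl S hF hI P hP
    · exact h4 G hG hcl S hF hI hT hW hSF P₁ P₂ y m ε (by omega) hl hN hF₂ h4'
  · obtain ⟨ε, ε₂, hl⟩ := hp.labTwo hm2 hm2' hS hF₁ hS' hF₂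
    by_cases hbig : 3 ≤ m ∨ 3 ≤ m'
    · exact h5 G hG hcl S hF hI hT hW hSF P₁ P₂ y m m' ε ε₂ hm2 hm2' hbig hl
    · obtain rfl : m = 2 := by omega
      obtain rfl : m' = 2 := by omega
      obtain ⟨t1, t2⟩ := OfEven.index_le_two hG.char2 S hl.even hl.even₂ hp.pair.star₁.le hp.pair.star₂.le
        (zc_le_zl _ _) (zc_le_zl _ _) (g := y) hp.pair.le₂ hp.pair.le₁
      by_cases hC : Cen (zl (S : Subgroup G) P₁) (cj y (zl (S : Subgroup G) P₂))
      · obtain ⟨P, hP⟩ := h2 G hG S hF hI P₁ P₂ y ε ε₂ hl t1 t2 hC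
        exact hN2 G hG hcl S hF hI P hP
      · exact (h3 G hG S hF hI P₁ P₂ y ε ε₂ hl t1 t2 hC).elim

end leaf

end Cfsg.Agent.Omega.S5.Main
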