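import Cfsg.Agent.Omega.NSix.AllFacts
import Cfsg.Agent.Omega.NSix.Zero
import Cfsg.Agent.Omega.NSix.TwoSup
import Cfsg.Agent.Omega.NSix.RCaseTwo
import Cfsg.Agent.Omega.S5.Main

/-!
# OMEGA II.c: `S5.Main.SymBig` from (H2) (assembler: helper840; ledger bb #16047)

`Pr S S' V V' P P' ε ε'` : a pair of even-subset modules of degrees `2^m + 1`, `2^m' + 1` over Sylow 2-subgroups
`S ≥ V'`, `S' ≥ V`, acting on each other by products of disjoint transpositions.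

* `Pr.nform` : (N), for `m ≥ 3`: some `b ∈ V'` moves `V` and satisfies `[O₂(C_G(r)), b] ≤ ⟨r⟩`;
* `Pr.nn_le` : (H2) implies `C_G(r_ij) ≤ N_G(V)` for all pairs (`m ≥ 3`);
* `Pr.false` : (H2) for both members (those of degree `≥ 9`) is impossible;
* `SymH2 K` : (H2), the only open input; `symBig_of : SymH2 K → S5.Main.SymBig K`.
-/

set_option autoImplicit false

namespace Cfsg.Agent.Omega.S5.SymBig

open Subgroup Pointwise Cfsg Cfsg.Agent.ZN Cfsg.Agent.ZN.ChoiceBase Cfsg.Agent.Omega.MinPar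
open Cfsg.Agent.Omega.Frame Cfsg.Agent.Omega.FFThm
open Cfsg.Agent.Omega.FrameLE (AllIn)
open Cfsg.Agent.Omega.FrameMulti (AllTyped NoWr SymFree)
open Cfsg.Agent.Omega.S5.Def Cfsg.Agent.Omega.S5.Syl Cfsg.Agent.Omega.S5.Pair Cfsg.Agent.Omega.S5.Main
open Cfsg.Agent.Omega.NSix.Base Cfsg.Agent.Omega.NSix.Basic
open Cfsg.Agent.Omega.NSix.Zero (WP)

universe u

/-- (H2): `U_ij ≤ O₂(C_G(r_kl))` for disjoint pairs. -/
def H2 {G : Type u} [Group G] {n : ℕ} (ε : (Fin n → ZMod 2) → G) : Prop :=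
  ∀ i j k l : Fin n, i ≠ j → k ≠ l → i ≠ k → i ≠ l → j ≠ k → j ≠ l → UU ε i j ≤ o2 (NN ε k l)

section

variable {G : Type u} [Group G]

theorem rr_cj {n : ℕ} (ε : (Fin n → ZMod 2) → G) (y : G) (i j : Fin n) :
    rr (fun x => y * ε x * y⁻¹) i j = y * rr ε i j * y⁻¹ := by
  unfold rr zz
  group

theorem NN_cj {n : ℕ} (ε : (Fin n → ZMod 2) → G) (y : G) (i j : Fin n) :
    NN (fun x => y * ε x * y⁻¹) i j = cj y (NN ε i j) := by
  ext x
  rw [mem_cj, mem_NN, mem_NN, rr_cj]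
  constructor
  · intro h1
    calc y⁻¹ * x * y * rr ε i j = y⁻¹ * (x * (y * rr ε i j * y⁻¹)) * y := by group
      _ = y⁻¹ * (y * rr ε i j * y⁻¹ * x) * y := by rw [h1]
      _ = _ := by group
  · intro h1
    calc x * (y * rr ε i j * y⁻¹) = y * (y⁻¹ * x * y * rr ε i j) * y⁻¹ := by group
      _ = y * (rr ε i j * (y⁻¹ * x * y)) * y⁻¹ := by rw [h1]
      _ = _ := by group

theorem H2.conj {n : ℕ} {ε : (Fin n → ZMod 2) → G} (h : H2 ε) (y : G) : H2 (fun x => y * ε x * y⁻¹) := by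
  intro i j k l hij hkl h1 h2 h3 h4
  unfold UU
  rw [closure_le]
  rintro x ⟨g, hg, a, ha1, ha2, rfl⟩
  rw [NN_cj, mem_cj] at hg
  have e4 : (y⁻¹ * g * y) * zz ε a * (y⁻¹ * g * y)⁻¹ ∈ o2 (NN ε k l) :=
    h i j k l hij hkl h1 h2 h3 h4 (subset_closure ⟨_, hg, a, ha1, ha2, rfl⟩)
  rw [NN_cj, SetLike.mem_coe, ChoiceSit.o2_cj, mem_cj]
  have e2 : y⁻¹ * (g * zz (fun x => y * ε x * y⁻¹) a * g⁻¹) * y =
      (y⁻¹ * g * y) * zz ε a * (y⁻¹ * g * y)⁻¹ := by
    unfold zz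
    group
  rw [e2]
  exact e4

/-- The position of `V`, `V'`. -/
structure Pr [Finite G] (S S' : Sylow 2 G) (V V' P P' : Subgroup G) {m m' : ℕ}
    (ε : (Fin (2 ^ m + 1) → ZMod 2) → G) (ε' : (Fin (2 ^ m' + 1) → ZMod 2) → G) : Prop where
  c2 : IsCharacteristicTwoType G
  two_le : 2 ≤ m
  two_le' : 2 ≤ m'
  two : NSix.NoTk.Two V V' P P' (S : Subgroup G) (S' : Subgroup G) ε ε'
  zS : zc (S : Subgroup G) ≤ V
  zS' : zc (S' : Subgroup G) ≤ V'
  ne : ¬ V' ≤ centralizer (V : Set G)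
  ne' : ¬ V ≤ centralizer (V' : Set G)

namespace Pr

variable [Finite G] {S S' : Sylow 2 G} {V V' P P' : Subgroup G} {m m' : ℕ}
  {ε : (Fin (2 ^ m + 1) → ZMod 2) → G} {ε' : (Fin (2 ^ m' + 1) → ZMod 2) → G} (h : Pr S S' V V' P P' ε ε')
include h

theorem symm : Pr S' S V' V P' P ε' ε :=
  ⟨h.c2, h.two_le', h.two_le, h.two.symm, h.zS', h.zS, h.ne', h.ne⟩

theorem three : 3 ≤ 2 ^ m + 1 := three_le (by have := h.two_le; omega)

theorem zfix (x : G) (hx : x * x = 1) (hc : ∀ s ∈ (S : Subgroup G), s * x = x * s) : x = 1 ∨ x = zz ε 0 := by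
  have h1 : zpowers x ≤ (S : Subgroup G) := by
    refine NSix.NoTk.le_sylow S ?_ ?_
    · rintro ⟨y, hy⟩
      refine ⟨1, Subtype.ext ?_⟩
      rw [pow_one, pow_two]
      change y * y = 1
      rcases NSix.Zero.zpow_cases hx hy with rfl | rfl
      · exact one_mul _
      · exact hx
    · refine le_trans ?_ (centralizer_le_normalizer (zpowers x : Set G))
      intro s hs
      rw [mem_centralizer_iff]
      intro y hy
      rcases NSix.Zero.zpow_cases hx hy with rfl | rfl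
      · rw [one_mul, mul_one]
      · exact (hc s hs).symm
  have h2 : x ∈ (S : Subgroup G) := h1 (mem_zpowers x)
  have h3 : x ∈ zc (S : Subgroup G) := MinSimple.VModule.mem_zc.mpr ⟨h2, hc, by rw [pow_two]; exact hx⟩
  exact S5.Syl.fixed (by have := h.two_le; omega) h.two.even h.two.le
    (MinSimple.Basic.not_dvd_relIndex S h.two.le) h.two.fix (h.zS h3) hc

theorem sit (hm : 3 ≤ m) : NSix.AllFacts.Sit S V P ε := ⟨h.c2, hm, h.two.even, h.two.le, h.two.fix, h.zS⟩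

/-- `V'` acts on `V` as `⟨(i j)⟩`. -/
theorem acts : ∃ i j, i ≠ j ∧ (∃ b ∈ V', Acts ε b (Equiv.swap i j)) ∧
    ∀ b ∈ V', Acts ε b 1 ∨ Acts ε b (Equiv.swap i j) :=
  NSix.NoTk.acts_one_or h.c2 h.two_le h.two_le' h.two h.ne

theorem mem : NSix.RThree.Mem S V ε where
  two_le := h.two_le
  ev := NSix.Norm.evenSet' h.two_le S h.two.even h.two.le h.two.fix
  le := h.two.le.trans h.two.even.le_normalizer
  fix0 := h.two.fix
  zc := h.zfix

/-- The pair in the form of `NSix.RThree`. -/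
theorem tt : ∃ i j i' j', NSix.RThree.TT S S' V V' ε ε' i j i' j' := by
  obtain ⟨i, j, hij, h1, h2⟩ := h.acts
  obtain ⟨i', j', hij', h1', h2'⟩ := h.symm.acts
  exact ⟨i, j, i', j', h.mem, h.symm.mem, hij, hij', h2, h1, h2', h1', h.two.in_, h.two.in'⟩

/-- `O₂(C_G(r_ij))` acts on `V` as a subgroup of `⟨(i j)⟩`. -/
theorem qact {i j : Fin (2 ^ m + 1)} (hij : i ≠ j) (hsw : ∃ a ∈ (S : Subgroup G), Acts ε a (Equiv.swap i j)) {q : G}
    (hq : q ∈ o2 (NN ε i j)) : Acts ε q 1 ∨ Acts ε q (Equiv.swap i j) := by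
  by_cases hm : m = 2
  · subst hm
    exact (NSix.TwoSup.acts (NSix.NoTk.hyp S le_rfl h.two.even h.two.le h.two.fix hij hsw) h.zfix hq).2
  have hs := h.sit (by have := h.two_le; omega)
  obtain ⟨σ, hσ⟩ := h.two.even.perm q (hs.o2_le_P hij hq)
  have hfix : ∀ k, k ≠ i → k ≠ j → σ k = k := by
    intro k h1 h2
    apply h.two.even.single_inj h.three
    have h4 := zz_conj hσ k
    rw [hs.pair hij h1 h2 hq, mul_inv_cancel_right] at h4
    exact h4.symm
  have hpres : σ i = i ∨ σ i = j := by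
    by_contra hc
    rw [not_or] at hc
    exact hc.1 (σ.injective (hfix _ hc.1 hc.2))
  have hpres' : σ j = i ∨ σ j = j := by
    by_contra hc
    rw [not_or] at hc
    exact hc.2 (σ.injective (hfix _ hc.1 hc.2))
  rcases hpres with h1 | h1
  · left
    have h2 : σ j = j := hpres'.resolve_left fun h2 => hij (σ.injective (h1.trans h2.symm))
    have h3 : σ = 1 := by
      ext k
      by_cases hk1 : k = i
      · rw [hk1, h1]; rfl
      by_cases hk2 : k = j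
      · rw [hk2, h2]; rfl
      rw [hfix k hk1 hk2]; rfl
    rwa [h3] at hσ
  · right
    have h2 : σ j = i := hpres'.resolve_right fun h2 => hij (σ.injective (h1.trans h2.symm))
    have h3 : σ = Equiv.swap i j := by
      ext k
      by_cases hk1 : k = i
      · rw [hk1, h1, Equiv.swap_apply_left]
      by_cases hk2 : k = j
      · rw [hk2, h2, Equiv.swap_apply_right]
      rw [hfix k hk1 hk2, Equiv.swap_apply_of_ne_of_ne hk1 hk2]
    rwa [h3] at hσ

/-- **(N)**, with an involution -/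
theorem nform' : ∃ i j, i ≠ j ∧ ∃ g ∈ WP ε i j, g * g ∈ zpowers (rr ε i j) ∧ ¬ g ∈ centralizer (V : Set G) := by
  obtain ⟨i, j, i', j', ht⟩ := h.tt
  have hr := ht.rr_eq
  obtain ⟨b, hb, hb1⟩ := ht.mov
  obtain ⟨a, ha, ha1⟩ := ht.mov'
  have hb2 : b * b = 1 := by
    obtain ⟨x, rfl⟩ := h.two.even'.surj b hb
    exact h.two.even'.sq x
  refine ⟨i, j, ht.ne, b, ?_, ?_, ?_⟩
  · have hNN : NN ε i j = NN ε' i' j' := by unfold NN; rw [hr]
    rw [NSix.Zero.mem_WP]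
    refine ⟨?_, fun q hq => ?_⟩
    · rw [hNN, mem_NN]
      exact h.two.even'.comm_mem hb (rr_mem h.two.even' i' j')
    · rw [hNN] at hq
      have hqr : q * rr ε' i' j' = rr ε' i' j' * q := mem_NN.mp (MinSimple.VModule.o2_le _ hq)
      have hq1 := h.symm.qact ht.ne' ⟨a, ht.in_ ha, ha1⟩ (inv_mem hq)
      obtain ⟨x, rfl⟩ := h.two.even'.surj b hb
      have hcase : q⁻¹ * ε' x * q⁻¹⁻¹ = ε' x ∨ q⁻¹ * ε' x * q⁻¹⁻¹ = ε' x * rr ε' i' j' := by
        rcases hq1 with h1 | h1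
        · exact Or.inl (h1 x)
        · by_cases hx : x i' = x j'
          · exact Or.inl ((NSix.RThree.acts_swap' h.two.even' h1 x).1 hx)
          · exact Or.inr ((NSix.RThree.acts_swap' h.two.even' h1 x).2 hx)
      rw [inv_inv] at hcase
      rw [hr]
      rcases hcase with h1 | h1
      · have h2 : ε' x * q = q * ε' x := by
          calc ε' x * q = q * (q⁻¹ * ε' x * q) := by group
            _ = _ := by rw [h1]
        have h3 : ε' x * q * (ε' x)⁻¹ * q⁻¹ = 1 := by rw [h2]; group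
        rw [h3]
        exact one_mem _
      · have h2 : ε' x * q = q * (ε' x * rr ε' i' j') := by
          calc ε' x * q = q * (q⁻¹ * ε' x * q) := by group
            _ = _ := by rw [h1]
        have h4 : ε' x * rr ε' i' j' = rr ε' i' j' * ε' x :=
          h.two.even'.comm_mem (h.two.even'.mem x) (rr_mem h.two.even' i' j')
        have h3 : ε' x * q * (ε' x)⁻¹ * q⁻¹ = rr ε' i' j' := by
          rw [h2, h4, ← mul_assoc, hqr]
          group
        rw [h3]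
        exact mem_zpowers _
  · rw [hb2]
    exact one_mem _
  · intro h0
    have h1 := h.two.even.acts_unique h.three (h.two.even.acts_one_iff.mpr h0) hb1
    exact ht.ne (Equiv.swap_eq_one_iff.mp h1.symm)

/-- **(N)** -/
theorem nform : ∃ i j, i ≠ j ∧ ∃ g ∈ WP ε i j, ¬ g ∈ centralizer (V : Set G) := by
  obtain ⟨i, j, hij, g, hg, -, hgV⟩ := h.nform'
  exact ⟨i, j, hij, g, hg, hgV⟩

/-- (0) + END: (H2) implies `C_G(r_ij) ≤ N_G(V)`. -/
theorem nn_le (hm : 3 ≤ m) (hq : H2 ε) {i j : Fin (2 ^ m + 1)} (hij : i ≠ j) :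
    NN ε i j ≤ normalizer (V : Set G) := by
  have hs := h.sit hm
  have h1 := NSix.Zero.sixL h.c2 hm h.two.even S h.two.le h.two.fix h.zS
    (fun i j k hij hki hkj q hq => hs.pair hij hki hkj hq) (fun i j hij => hs.o2_le_P hij) hq h.nform
  refine NSix.EndL.SixL.nn_le h1 ?_ ?_ hij
  · exact Even.add_one (Nat.even_pow.mpr ⟨even_two, by omega⟩)
  · have : 2 ^ 3 ≤ 2 ^ m := Nat.pow_le_pow_right (by norm_num) hm
    omega

/-- **(H2) for the members of degree `≥ 9` is impossible.** -/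
theorem false (hbig : 3 ≤ m ∨ 3 ≤ m') (hq : 3 ≤ m → H2 ε) (hq' : 3 ≤ m' → H2 ε') : False := by
  obtain ⟨i, j, i', j', ht⟩ := h.tt
  by_cases hm : 3 ≤ m
  · have h1 := ht.le_of_nn (h.nn_le hm (hq hm) ht.ne)
    have hm' : 3 ≤ m' := by omega
    exact ht.false h.c2 hm hm' (h.nn_le hm (hq hm) ht.ne) fun k l hkl => h.symm.nn_le hm' (hq' hm') hkl
  · have hm' : 3 ≤ m' := hbig.resolve_left hm
    have h1 := ht.symm.le_of_nn (h.symm.nn_le hm' (hq' hm') ht.ne')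
    omega

end Pr

/-! ### `LabTwo` -/

theorem pos_symm [Finite G] {S : Sylow 2 G} {P₁ P₂ : Subgroup G} {y : G} (h : Pos S P₁ P₂ y) : Pos S P₂ P₁ y⁻¹ where
  pair := h.pair.symm
  le := by
    rw [cj_le_iff, inv_inv]
    exact h.ge
  ge := cj_le_iff.mp h.le
  off₁ := by
    have h1 := off_cj h.off₂ y⁻¹
    rwa [cj_inv_cj] at h1
  off₂ := by
    have h1 := off_cj h.off₁ y⁻¹
    rwa [cj_inv_cj] at h1

theorem labTwo_symm [Finite G] {S : Sylow 2 G} {P₁ P₂ : Subgroup G} {y : G} {m m' : ℕ}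
    {ε : (Fin (2 ^ m + 1) → ZMod 2) → G} {ε₂ : (Fin (2 ^ m' + 1) → ZMod 2) → G}
    (h : LabTwo S P₁ P₂ y m m' ε ε₂) : LabTwo S P₂ P₁ y⁻¹ m' m ε₂ ε where
  toPos := pos_symm h.toPos
  even := h.even₂
  fix0 := h.fix0₂
  side := by
    have h1 := h.side₂.conj y⁻¹
    have e : (fun x => y⁻¹ * (fun x => y * ε₂ x * y⁻¹) x * y⁻¹⁻¹) = ε₂ := by
      funext x
      dsimp only
      group
    rwa [e] at h1
  even₂ := h.even
  fix0₂ := h.fix0
  side₂ := by
    have h1 := h.side.conj y⁻¹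
    rwa [cj_inv_cj] at h1

/-- A mutual pair of even-subset modules is a `Pr`. -/
theorem pr_of [Finite G] (hG : IsCharacteristicTwoType G) {S : Sylow 2 G} {P₁ P₂ : Subgroup G} {y : G} {m m' : ℕ}
    {ε : (Fin (2 ^ m + 1) → ZMod 2) → G} {ε₂ : (Fin (2 ^ m' + 1) → ZMod 2) → G} (hm : 2 ≤ m) (hm' : 2 ≤ m')
    (h : LabTwo S P₁ P₂ y m m' ε ε₂) :
    Pr S (y • S) (zl (S : Subgroup G) P₁) (cj y (zl (S : Subgroup G) P₂)) P₁ (cj y P₂) ε
      fun x => y * ε₂ x * y⁻¹ where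
  c2 := hG
  two_le := hm
  two_le' := hm'
  two := NSix.NoTk.two_of_lab h
  zS := MinSimple.VModule.zc_le_zl _ _
  zS' := by
    rw [NSix.NoTk.coe_smul]
    intro x hx
    rw [mem_cj]
    refine MinSimple.VModule.zc_le_zl _ _ (MinSimple.VModule.mem_zc.mpr ?_)
    obtain ⟨h1, h2, h3⟩ := MinSimple.VModule.mem_zc.mp hx
    refine ⟨mem_cj.mp h1, fun b hb => ?_, ?_⟩
    · have h4 := h2 (y * b * y⁻¹) (by rw [mem_cj, show y⁻¹ * (y * b * y⁻¹) * y = b by group]; exact hb)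
      calc b * (y⁻¹ * x * y) = y⁻¹ * (y * b * y⁻¹ * x) * y := by group
        _ = y⁻¹ * (x * (y * b * y⁻¹)) * y := by rw [h4]
        _ = _ := by group
    · calc (y⁻¹ * x * y) ^ 2 = y⁻¹ * x ^ 2 * y := by rw [pow_two, pow_two]; group
        _ = 1 := by rw [h3]; group
  ne := NSix.NoTk.not_cent₁ h
  ne' := NSix.NoTk.not_cent₂ h

end

/-! ### The assembly -/

/-- **(H2)** for the member `V = V_{P₁}` of degree `2^m + 1 ≥ 9` of a mutual pair `S_{2^m+1}`, `S_{2^m'+1}`. -/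
def SymH2 (K : Cls.{u}) : Prop :=
  ∀ (G : Type u) [Group G] [Finite G], Ctx G → K G → ∀ (S : Sylow 2 G), Full (S : Subgroup G) →
    AllIn (S : Subgroup G) → AllTyped (S : Subgroup G) → NoWr (S : Subgroup G) →
    SymFree (S : Subgroup G) →
    ∀ (P₁ P₂ : Subgroup G) (y : G) (m m' : ℕ) (ε : (Fin (2 ^ m + 1) → ZMod 2) → G)
      (ε₂ : (Fin (2 ^ m' + 1) → ZMod 2) → G), 3 ≤ m → 2 ≤ m' →
        LabTwo S P₁ P₂ y m m' ε ε₂ → ¬ IsKnownSimple' G → H2 ε

theorem symBig_of {K : Cls.{u}} (h2 : SymH2 K) : SymBig K := by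
  intro G _ _ hG hcl S hF hI hT hW hSF P₁ P₂ y m m' ε ε₂ hm hm' hbig hl
  by_contra hk
  refine (pr_of hG.char2 hm hm' hl).false hbig (fun h3 => ?_) (fun h3 => ?_)
  · exact h2 G hG hcl S hF hI hT hW hSF P₁ P₂ y m m' ε ε₂ h3 hm' hl hk
  · exact (h2 G hG hcl S hF hI hT hW hSF P₂ P₁ y⁻¹ m' m ε₂ ε h3 hm (labTwo_symm hl) hk).conj y

end Cfsg.Agent.Omega.S5.SymBig
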