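/-
Copyright (c) 2026 CFSG team. Released under Apache 2.0 license.
Authors: helper814 (text bb OMEGA #15296)
-/
import Cfsg.Agent.Omega.S5.Main
import Cfsg.Agent.Omega.NSix.Basic
import Cfsg.Agent.Involutions.BaerSuzuki

/-!
# II.c: a natural `2²` against a transposition of `S_{2^m+1}`, `m ≥ 3` (#15296)

`V` is the even-subset module with the points `z_k = zz ε k`, `n = z_i z_j = rr ε i j`, and `b` acts on `V` as
the transposition `(i j)`.

* `Facts ε L` : (F1) `z_j ∈ O₂(C_G(z_i))`, (F2) `O₂(C_G(z_i z_j))` centralises `z_k` (`k ≠ i, j`),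
  (H1) `O₂(C_G(z_i z_j)) ≤ L`; for `m ≥ 3` these are #13506, the matching lemma #14103 and #14675;
* `kill` : no 2-local subgroup `M ≥ C_G(n)` of characteristic 2 has `b ∈ Z(O₂(M))`;
* `nonLoc` : so `⟨P₂, C_G(Z)⟩` is nonlocal in the situation of `NatBig`;
* `natBig_of` : `NodeN2 K` and the facts imply `NatBig K`.
-/

set_option autoImplicit false

namespace Cfsg.Agent.Omega.S5.NatBig

open Subgroup Pointwise Cfsg Cfsg.Agent.ZN Cfsg.Agent.ZN.ChoiceBase Cfsg.Agent.Omega.MinPar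
open Cfsg.Agent.Omega.Frame
open Cfsg.Agent.Omega.FrameNOFF (CZ)
open Cfsg.Agent.Omega.S5.Def Cfsg.Agent.Omega.S5.Syl Cfsg.Agent.Omega.S5.Pair
open Cfsg.Agent.Omega.NSix.Base (zz rr)
open Cfsg.Agent.Omega.NSix.Basic (zz_mem zz_comm zz_sq zz_inv rr_mem zz_conj)
open Cfsg.Agent.MinSimple.VModule (le_normalizer_zl zc_le_zl o2_isPGroup o2_le le_o2 le_normalizer_o2
  o2_le_of_sylow)

universe u

variable {G : Type u} [Group G] {n : ℕ} {V L : Subgroup G} {ε : (Fin n → ZMod 2) → G}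

/-- The facts about the centralisers of the points and the pairs. -/
structure Facts (ε : (Fin n → ZMod 2) → G) (L : Subgroup G) : Prop where
  pt : ∀ i j, zz ε j ∈ o2 (centralizer ({zz ε i} : Set G))
  pair : ∀ i j, i ≠ j → ∀ k, k ≠ i → k ≠ j → ∀ q ∈ o2 (centralizer ({rr ε i j} : Set G)),
    q * zz ε k = zz ε k * q
  le : ∀ i j, i ≠ j → o2 (centralizer ({rr ε i j} : Set G)) ≤ L

/-! ### Elements of odd order -/

theorem odd_comm {d x : G} (hd : Odd (orderOf d)) (h : d * (d * x * d⁻¹) * d⁻¹ = x) : d * x = x * d := by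
  have h2 : d ^ 2 * x = x * d ^ 2 := by
    have h3 : d * (d * x * d⁻¹) * d⁻¹ * d ^ 2 = d ^ 2 * x := by
      rw [pow_two]; group
    rw [← h3, h]
  obtain ⟨k, hk⟩ := hd
  have h3 : d = (d ^ 2) ^ (k + 1) := by
    rw [← pow_mul]
    have h4 : 2 * (k + 1) = orderOf d + 1 := by omega
    rw [h4, pow_succ, pow_orderOf_eq_one, one_mul]
  have h5 : Commute ((d ^ 2) ^ (k + 1)) x := Commute.pow_left h2 _
  rw [← h3] at h5
  exact h5

/-- An element of `O₂(C_G(x))` inverts no element `≠ 1` of odd order of `C_G(x)`. -/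
theorem no_comm {d x z : G} (hd : Odd (orderOf d)) (hd1 : d ≠ 1) (hinv : z * d * z⁻¹ = d⁻¹)
    (hz : z ∈ o2 (centralizer ({x} : Set G))) : d * x ≠ x * d := by
  intro h0
  apply hd1
  have hdC : d ∈ centralizer ({x} : Set G) := mem_centralizer_singleton_iff.mpr h0
  have h1 : d * z⁻¹ * d⁻¹ ∈ o2 (centralizer ({x} : Set G)) :=
    (mem_normalizer_iff.1 (le_normalizer_o2 _ hdC) _).1 (inv_mem hz)
  have h2 : d⁻¹ * d⁻¹ ∈ o2 (centralizer ({x} : Set G)) := by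
    have h3 : d⁻¹ * d⁻¹ = z * (d * z⁻¹ * d⁻¹) := by
      calc d⁻¹ * d⁻¹ = z * d * z⁻¹ * d⁻¹ := by rw [hinv]
        _ = z * (d * z⁻¹ * d⁻¹) := by group
    rw [h3]
    exact mul_mem hz h1
  have h3 : d ^ 2 ∈ o2 (centralizer ({x} : Set G)) := by
    have h4 : d ^ 2 = (d⁻¹ * d⁻¹)⁻¹ := by group
    rw [h4]
    exact inv_mem h2
  obtain ⟨k, hk⟩ := hd
  have h4 : d ∈ o2 (centralizer ({x} : Set G)) := by
    have h5 : d = (d ^ 2) ^ (k + 1) := by
      rw [← pow_mul]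
      have h6 : 2 * (k + 1) = orderOf d + 1 := by omega
      rw [h6, pow_succ, pow_orderOf_eq_one, one_mul]
    rw [h5]
    exact pow_mem h3 _
  obtain ⟨l, hl⟩ := o2_isPGroup _ ⟨d, h4⟩
  have h5 : d ^ 2 ^ l = 1 := congrArg Subtype.val hl
  have h6 : orderOf d ∣ 2 ^ l := orderOf_dvd_of_pow_eq_one h5
  have h7 : (orderOf d).Coprime (2 ^ l) := by
    exact Nat.Coprime.pow_right _ (Nat.coprime_two_right.mpr ⟨k, hk⟩)
  exact orderOf_eq_one_iff.mp (Nat.Coprime.eq_one_of_dvd h7 h6)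

/-! ### The core -/

/-- An element `c` of `L` commuting with `z_k`, `k ≠ i, j`, acts as `1` or `(i j)`. -/
theorem acts_pair (h : EvenSet n V L ε) (hn : 3 ≤ n) {i j : Fin n} {c : G} (hc : c ∈ L)
    (hk : ∀ k, k ≠ i → k ≠ j → c * zz ε k = zz ε k * c) :
    c * zz ε i * c⁻¹ = zz ε i ∨ c * zz ε i * c⁻¹ = zz ε j := by
  obtain ⟨σ, hσ⟩ := h.perm c hc
  have h1 : ∀ k, k ≠ i → k ≠ j → σ k = k := fun k h1 h2 => (h.fixes_iff hn hσ k).1 (hk k h1 h2)
  rw [zz_conj hσ]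
  by_cases h2 : σ i = i
  · left; rw [h2]
  by_cases h3 : σ i = j
  · right; rw [h3]
  exfalso
  exact h2 (σ.injective (h1 _ h2 h3))

theorem core (h : EvenSet n V L ε) (hn : 5 ≤ n) {i j : Fin n} (hij : i ≠ j) {B : Subgroup G}
    (hBc : ∀ x ∈ B, ∀ y ∈ B, x * y = y * x) (hB : ∀ k, k ≠ i → k ≠ j → zz ε k ∈ B) (hBL : B ≤ L)
    {d : G} (hd : Odd (orderOf d)) (hdB : ∀ x ∈ B, d * x * d⁻¹ ∈ B) (hdB' : ∀ x ∈ B, d⁻¹ * x * d ∈ B)
    (hinv : zz ε i * d * (zz ε i)⁻¹ = d⁻¹)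
    (hk : ∀ k, k ≠ i → k ≠ j → d * zz ε k ≠ zz ε k * d)
    (hkl : ∀ k l, k ≠ l → k ≠ i → k ≠ j → l ≠ i → l ≠ j → d * rr ε k l ≠ rr ε k l * d) : False := by
  have hn3 : 3 ≤ n := by omega
  -- the value of `φ`
  have key : ∀ x, x ∈ B → x * x = 1 → x * zz ε i = zz ε i * x →
      (d⁻¹ * x * d) * (d * x * d⁻¹) = 1 ∨ (d⁻¹ * x * d) * (d * x * d⁻¹) = rr ε i j := by
    intro x hx hx2 hxi
    have hxi' : zz ε i * x * (zz ε i)⁻¹ = x := by rw [← hxi, mul_inv_cancel_right]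
    have hxinv : x⁻¹ = x := inv_eq_of_mul_eq_one_left hx2
    set c : G := d * x * d⁻¹ with hc
    have hcB : c ∈ B := hdB x hx
    have hcinv : c⁻¹ = c := by rw [hc, mul_inv_rev, mul_inv_rev, inv_inv, hxinv]; group
    have e1 : zz ε i * c * (zz ε i)⁻¹ = d⁻¹ * x * d := by
      calc zz ε i * c * (zz ε i)⁻¹
          = (zz ε i * d * (zz ε i)⁻¹) * (zz ε i * x * (zz ε i)⁻¹) * (zz ε i * d * (zz ε i)⁻¹)⁻¹ := by
            rw [hc]; group
        _ = d⁻¹ * x * d := by rw [hinv, hxi', inv_inv]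
    have e2 : (d⁻¹ * x * d) * c = zz ε i * (c * zz ε i * c⁻¹) := by
      rw [← e1, zz_inv h]
      calc zz ε i * c * zz ε i * c = zz ε i * (c * zz ε i * c) := by group
        _ = _ := by rw [hcinv]
    rw [e2]
    rcases acts_pair h hn3 (i := i) (j := j) (hBL hcB) (fun k h1 h2 => hBc c hcB _ (hB k h1 h2)) with h1 | h1
    · left; rw [h1, zz_sq h]
    · right; rw [h1]; rfl
  have hval : ∀ k, k ≠ i → k ≠ j → (d⁻¹ * zz ε k * d) * (d * zz ε k * d⁻¹) = rr ε i j := by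
    intro k h1 h2
    refine (key _ (hB k h1 h2) (zz_sq h k) (zz_comm h k i)).resolve_left fun h0 => ?_
    refine hk k h1 h2 (odd_comm hd ?_)
    have h3 : d * zz ε k * d⁻¹ = (d⁻¹ * zz ε k * d)⁻¹ := (inv_eq_of_mul_eq_one_right h0).symm
    rw [h3, mul_inv_rev, mul_inv_rev, inv_inv, zz_inv h]
    group
  -- two more labels
  have hex : ∃ k l : Fin n, k ≠ l ∧ k ≠ i ∧ k ≠ j ∧ l ≠ i ∧ l ≠ j := by
    have hc1 : ({i, j} : Finset (Fin n)).card < (Finset.univ : Finset (Fin n)).card := by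
      rw [Finset.card_univ, Fintype.card_fin]
      exact lt_of_le_of_lt Finset.card_le_two (by omega)
    obtain ⟨k, -, hk⟩ := Finset.exists_mem_notMem_of_card_lt_card hc1
    have hc2 : ({i, j, k} : Finset (Fin n)).card < (Finset.univ : Finset (Fin n)).card := by
      rw [Finset.card_univ, Fintype.card_fin]
      exact lt_of_le_of_lt Finset.card_le_three (by omega)
    obtain ⟨l, -, hl⟩ := Finset.exists_mem_notMem_of_card_lt_card hc2
    simp only [Finset.mem_insert, Finset.mem_singleton, not_or] at hk hl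
    exact ⟨k, l, Ne.symm hl.2.2, hk.1, hk.2, hl.1, hl.2.1⟩
  obtain ⟨k, l, h0, h1, h2, h3, h4⟩ := hex
  have hkB := hB k h1 h2
  have hlB := hB l h3 h4
  have e1 := hval k h1 h2
  have e2 := hval l h3 h4
  refine hkl k l h0 h1 h2 h3 h4 (odd_comm hd ?_)
  have c1 : (d * zz ε k * d⁻¹) * (d⁻¹ * zz ε l * d) = (d⁻¹ * zz ε l * d) * (d * zz ε k * d⁻¹) :=
    hBc _ (hdB _ hkB) _ (hdB' _ hlB)
  have e3 : (d⁻¹ * rr ε k l * d) * (d * rr ε k l * d⁻¹) = 1 := by
    calc (d⁻¹ * rr ε k l * d) * (d * rr ε k l * d⁻¹)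
        = (d⁻¹ * zz ε k * d) * (d⁻¹ * zz ε l * d) * ((d * zz ε k * d⁻¹) * (d * zz ε l * d⁻¹)) := by
          unfold NSix.Base.rr; group
      _ = (d⁻¹ * zz ε k * d) * ((d⁻¹ * zz ε l * d) * (d * zz ε k * d⁻¹)) * (d * zz ε l * d⁻¹) := by group
      _ = (d⁻¹ * zz ε k * d) * ((d * zz ε k * d⁻¹) * (d⁻¹ * zz ε l * d)) * (d * zz ε l * d⁻¹) := by rw [c1]
      _ = ((d⁻¹ * zz ε k * d) * (d * zz ε k * d⁻¹)) * ((d⁻¹ * zz ε l * d) * (d * zz ε l * d⁻¹)) := by group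
      _ = 1 := by rw [e1, e2, NSix.Basic.rr_sq h]
  have h5 : d * rr ε k l * d⁻¹ = (d⁻¹ * rr ε k l * d)⁻¹ := (inv_eq_of_mul_eq_one_right e3).symm
  rw [h5, mul_inv_rev, mul_inv_rev, inv_inv, NSix.Basic.rr_inv h]
  group

/-! ### No 2-local subgroup -/

/-- Baer–Suzuki in a subgroup. -/
theorem exists_inv [Finite G] {M : Subgroup G} {t : G} (htM : t ∈ M) (ht : t * t = 1) (hO : t ∉ o2 M) :
    ∃ d ∈ M, d ≠ 1 ∧ Odd (orderOf d) ∧ t * d * t⁻¹ = d⁻¹ := by
  obtain ⟨d, h1, h2, h3⟩ := Involutions.BaerSuzuki.exists_odd_inverted (⟨t, htM⟩ : M) (Subtype.ext ht) (by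
    intro hP
    apply hO
    have h4 : (Subgroup.normalClosure {(⟨t, htM⟩ : M)}).map M.subtype ≤ o2 M := by
      refine le_o2 (map_subtype_le _) (hP.map _) ?_
      exact MinSimple.VModule.le_normalizer_map_of_normal Subgroup.normalClosure_normal
    exact h4 ⟨⟨t, htM⟩, Subgroup.subset_normalClosure (Set.mem_singleton _), rfl⟩)
  refine ⟨d, d.2, fun h0 => h1 (Subtype.ext h0), ?_, congrArg Subtype.val h3⟩
  rwa [Subgroup.orderOf_coe]

/-- `M` normalises the centre of `O₂(M)`. -/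
theorem center_norm {M : Subgroup G} {g x : G} (hg : g ∈ M) (hx : x ∈ o2 M ⊓ centralizer (o2 M : Set G)) :
    g * x * g⁻¹ ∈ o2 M ⊓ centralizer (o2 M : Set G) := by
  refine ⟨(mem_normalizer_iff.1 (le_normalizer_o2 M hg) x).1 hx.1, mem_centralizer_iff.mpr fun y hy => ?_⟩
  have hy' : g⁻¹ * y * g ∈ o2 M := by
    have := (mem_normalizer_iff.1 (le_normalizer_o2 M (inv_mem hg)) y).1 hy
    rwa [inv_inv] at this
  have h3 := mem_centralizer_iff.mp hx.2 _ hy'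
  calc y * (g * x * g⁻¹) = g * (g⁻¹ * y * g * x) * g⁻¹ := by group
    _ = g * (x * (g⁻¹ * y * g)) * g⁻¹ := by rw [h3]
    _ = g * x * g⁻¹ * y := by group

/-- **No 2-local subgroup `M ≥ C_G(n)` has `b ∈ Z(O₂(M))`.** -/
theorem kill [Finite G] (hG : IsCharacteristicTwoType G) (h : EvenSet n V L ε) (hn : 5 ≤ n) (F : Facts ε L)
    {i j : Fin n} (hij : i ≠ j) {M : Subgroup G} (hc : M ⊓ centralizer (o2 M : Set G) ≤ o2 M)
    (hM : centralizer ({rr ε i j} : Set G) ≤ M) (hnO : ∀ x ∈ o2 M, x * rr ε i j = rr ε i j * x)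
    {b : G} (hb : Acts ε b (Equiv.swap i j)) (hbO : b ∈ o2 M) (hbc : ∀ x ∈ o2 M, x * b = b * x) : False := by
  have hn3 : 3 ≤ n := by omega
  have hOQ : o2 M ≤ o2 (centralizer ({rr ε i j} : Set G)) := by
    refine le_o2 (fun x hx => mem_centralizer_singleton_iff.mpr (hnO x hx)) (o2_isPGroup M) ?_
    exact hM.trans (le_normalizer_o2 M)
  have hziM : ∀ k, zz ε k ∈ M := fun k =>
    hM (mem_centralizer_singleton_iff.mpr (h.comm_mem (zz_mem h k) (rr_mem h i j)))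
  set B : Subgroup G := o2 M ⊓ centralizer (o2 M : Set G) with hBdef
  have hB : ∀ k, k ≠ i → k ≠ j → zz ε k ∈ B := by
    intro k h1 h2
    have h3 : zz ε k ∈ centralizer (o2 M : Set G) :=
      mem_centralizer_iff.mpr fun x hx => F.pair i j hij k h1 h2 x (hOQ hx)
    exact ⟨hc ⟨hziM k, h3⟩, h3⟩
  have hBc : ∀ x ∈ B, ∀ y ∈ B, x * y = y * x := fun x hx y hy => mem_centralizer_iff.mp hy.2 x hx.1
  have hBn : ∀ g ∈ M, ∀ x ∈ B, g * x * g⁻¹ ∈ B := fun g hg x hx => center_norm hg hx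
  have hzO : zz ε i ∉ o2 M := by
    intro h0
    have h1 := hb.single i
    rw [Equiv.swap_apply_left] at h1
    change b * zz ε i * b⁻¹ = zz ε j at h1
    rw [← hbc _ h0, mul_inv_cancel_right] at h1
    exact hij (h.single_inj hn3 h1)
  obtain ⟨d, hdM, hd1, hdo, hinv⟩ := exists_inv (hziM i) (zz_sq h i) hzO
  refine core h hn hij hBc hB (inf_le_left.trans (hOQ.trans (F.le i j hij))) hdo (hBn d hdM) ?_ hinv ?_ ?_
  · intro x hx
    have := hBn d⁻¹ (inv_mem hdM) x hx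
    rwa [inv_inv] at this
  · intro k _ _
    exact no_comm hdo hd1 hinv (F.pt k i)
  · intro k l hkl h1 h2 h3 h4
    refine no_comm hdo hd1 hinv ?_
    have h5 := MinSimple.Basic.char2_centralizer hG (z := rr ε k l)
      (by rw [pow_two]; exact NSix.Basic.rr_sq h k l) (NSix.Basic.rr_ne_one h hn3 hkl)
    refine h5 ⟨mem_centralizer_singleton_iff.mpr (h.comm_mem (zz_mem h i) (rr_mem h k l)), ?_⟩
    exact mem_centralizer_iff.mpr fun x hx => F.pair k l hkl i (Ne.symm h1) (Ne.symm h3) x hx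

/-! ### Position -/

/-- `S` acts trivially on `W` modulo `Ω₁(Z(S)) ≤ W`, `|W| = 4`. -/
theorem comm_mem_zc [Finite G] {S W : Subgroup G} (h4 : Nat.card W = 4) (hne : zc S ≠ ⊥) (hz : zc S ≤ W)
    (hS : S ≤ normalizer (W : Set G)) {s w : G} (hs : s ∈ S) (hw : w ∈ W) :
    s * w * s⁻¹ * w⁻¹ ∈ zc S := by
  have hfix : ∀ x ∈ zc S, x * s = s * x := fun x hx => ((MinSimple.VModule.mem_zc.mp hx).2.1 s hs).symm
  by_cases hw1 : w ∈ zc S
  · rw [← hfix w hw1, mul_inv_cancel_right, mul_inv_cancel]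
    exact one_mem _
  have hsw : s * w * s⁻¹ ∉ zc S := by
    intro h0
    apply hw1
    have h1 := hfix _ h0
    have h2 : w = s * w * s⁻¹ := by
      calc w = s⁻¹ * (s * w * s⁻¹ * s) := by group
        _ = s⁻¹ * (s * (s * w * s⁻¹)) := by rw [h1]
        _ = s * w * s⁻¹ := by group
    rw [h2]
    exact h0
  have hsW : s * w * s⁻¹ ∈ W := (mem_normalizer_iff.1 (hS hs) w).1 hw
  have hidx : ((zc S).subgroupOf W).index = 2 := by
    have h1 : Nat.card ((zc S).subgroupOf W) * ((zc S).subgroupOf W).index = 4 := by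
      rw [card_mul_index, h4]
    have h2 : Nat.card ((zc S).subgroupOf W) = Nat.card (zc S) :=
      Nat.card_congr (subgroupOfEquivOfLe hz).toEquiv
    rw [h2] at h1
    have h3 : Nat.card (zc S) ∣ 4 := Dvd.intro _ h1
    have h5 : Nat.card (zc S) ≠ 1 := fun h0 => hne (card_eq_one.mp h0)
    have h6 : Nat.card (zc S) ≠ 4 := by
      intro h0
      have h7 : zc S = W := Subgroup.eq_of_le_of_card_ge hz (by rw [h0, h4])
      exact hw1 (h7 ▸ hw)
    have h7 : Nat.card (zc S) ≤ 4 := Nat.le_of_dvd (by norm_num) h3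
    have h8 : Nat.card (zc S) ≠ 0 := Nat.card_pos.ne'
    have h9 : Nat.card (zc S) = 2 := by
      interval_cases Nat.card (zc S) <;> first | rfl | omega | (exfalso; revert h3; decide)
    rw [h9] at h1
    omega
  have h1 : (⟨s * w * s⁻¹, hsW⟩ * ⟨w⁻¹, W.inv_mem hw⟩ : W) ∈ (zc S).subgroupOf W := by
    rw [Subgroup.mul_mem_iff_of_index_two hidx, mem_subgroupOf, mem_subgroupOf]
    exact ⟨fun h0 => absurd h0 hsw, fun h0 => absurd ((zc S).inv_mem_iff.mp h0) hw1⟩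
  exact h1

/-- **`⟨P₂, C_G(Z)⟩` is nonlocal.** -/
theorem nonLoc [Finite G] (hG : IsCharacteristicTwoType G) (S : Sylow 2 G) {P₁ P₂ : Subgroup G} {y : G} {m : ℕ}
    {ε : (Fin (2 ^ m + 1) → ZMod 2) → G} (hm : 2 ≤ m) (hl : Main.Lab S P₁ P₂ y m ε)
    (h4 : Nat.card (zl (S : Subgroup G) P₂) = 4) (F : Facts ε P₁) :
    NonLoc P₂ (CZ (S : Subgroup G)) := by
  intro U hU hU1 hU2
  by_contra hne
  have h := hl.even
  have hn5 : 5 ≤ 2 ^ m + 1 := five_le hm
  have hn3 : 3 ≤ 2 ^ m + 1 := by omega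
  have hP₁ := hl.pair.star₁
  have hP₂ := hl.pair.star₂
  -- the point fixed by `S`
  set z : G := ε (Pi.single 0 1) with hz
  have hSP : ¬ 2 ∣ (S : Subgroup G).relIndex P₁ := MinSimple.Basic.not_dvd_relIndex S hP₁.le
  have hzS : ∀ s ∈ (S : Subgroup G), s * z = z * s := by
    intro s hs
    obtain ⟨σ, hσ⟩ := h.perm s (hP₁.le hs)
    exact (h.fixes_iff hn3 hσ 0).2 (hl.fix0 s hs σ hσ)
  have hVS : zl (S : Subgroup G) P₁ ≤ (S : Subgroup G) :=
    (hP₁.isLoc.zl_le S hG).trans ((MinSimple.VModule.zc_le _).trans (hP₁.isLoc.o2_le S))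
  have hzz : z ∈ zc (S : Subgroup G) :=
    MinSimple.VModule.mem_zc.mpr ⟨hVS (h.mem _), fun s hs => hzS s hs, by rw [pow_two]; exact h.sq _⟩
  have hz1 : z ≠ 1 := h.single_ne_one hn3 0
  have hzc : ∀ x ∈ zc (S : Subgroup G), x = 1 ∨ x = z := by
    intro x hx
    exact fixed (by omega) h hP₁.le hSP hl.fix0 (zc_le_zl _ _ hx) fun s hs => (MinSimple.VModule.mem_zc.mp hx).2.1 s hs
  have hzne : zc (S : Subgroup G) ≠ ⊥ := by
    intro h0
    rw [h0, mem_bot] at hzz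
    exact hz1 hzz
  -- the transposition
  obtain ⟨b, hb, i, j, hij, hbs⟩ := Nat.exists_swap h hl.side hl.off₁.ne
  have hb' := mem_cj.mp hb
  -- `n = y z y⁻¹`
  have hnz : y⁻¹ * rr ε i j * y = z := by
    have h1 : b * zz ε i * b⁻¹ = zz ε j := by
      have := hbs.single i
      rwa [Equiv.swap_apply_left] at this
    have h2 : rr ε i j = zz ε i * b * (zz ε i)⁻¹ * b⁻¹ := by
      unfold NSix.Base.rr
      rw [← h1, zz_inv h]
      group
    have h3 : y⁻¹ * zz ε i * y ∈ (S : Subgroup G) := mem_cj.mp (hl.ge (zz_mem h i))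
    have h5 := comm_mem_zc h4 hzne (zc_le_zl _ _) (hP₂.le.trans (le_normalizer_zl _ _)) h3 hb'
    have h6 : y⁻¹ * rr ε i j * y =
        y⁻¹ * zz ε i * y * (y⁻¹ * b * y) * (y⁻¹ * zz ε i * y)⁻¹ * (y⁻¹ * b * y)⁻¹ := by
      rw [h2]; group
    rw [← h6] at h5
    refine (hzc _ h5).resolve_left fun h0 => ?_
    apply NSix.Basic.rr_ne_one h hn3 hij
    calc rr ε i j = y * (y⁻¹ * rr ε i j * y) * y⁻¹ := by group
      _ = 1 := by rw [h0, mul_one, mul_inv_cancel]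
  -- the local subgroup
  set M₀ : Subgroup G := normalizer (U : Set G) with hM₀
  have hSM : (S : Subgroup G) ≤ M₀ := hP₂.le.trans hU1
  have hOS : o2 M₀ ≤ (S : Subgroup G) := o2_le_of_sylow S.isPGroup' (MinSimple.Basic.not_dvd_relIndex S hSM)
  have hchar := MinSimple.Basic.char2_normalizer hG hU hne
  have hzcB : zl (S : Subgroup G) P₂ ≤ o2 M₀ ⊓ centralizer (o2 M₀ : Set G) := by
    refine MinSimple.VModule.zl_le ?_ ?_
    · intro x hx
      have h1 : x ∈ centralizer (o2 M₀ : Set G) :=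
        mem_centralizer_iff.mpr fun q hq => (MinSimple.VModule.mem_zc.mp hx).2.1 q (hOS hq)
      exact ⟨hchar ⟨hSM (MinSimple.VModule.mem_zc.mp hx).1, h1⟩, h1⟩
    · intro g hg
      rw [mem_normalizer_iff]
      refine fun x => ⟨center_norm (hU1 hg), fun hx => ?_⟩
      have h1 := center_norm (inv_mem (hU1 hg)) hx
      have h2 : g⁻¹ * (g * x * g⁻¹) * g⁻¹⁻¹ = x := by group
      rwa [h2] at h1
  have ho2 : o2 (cj y M₀) = cj y (o2 M₀) := o2_map_equiv (MulAut.conj y) M₀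
  have hcz : ∀ g, g ∈ centralizer ({rr ε i j} : Set G) → y⁻¹ * g * y ∈ CZ (S : Subgroup G) := by
    intro g hg
    have h1 := mem_centralizer_singleton_iff.mp hg
    change y⁻¹ * g * y ∈ centralizer (zc (S : Subgroup G) : Set G)
    rw [mem_centralizer_iff]
    intro x hx
    rcases hzc x hx with rfl | rfl
    · rw [one_mul, mul_one]
    · rw [← hnz]
      calc y⁻¹ * rr ε i j * y * (y⁻¹ * g * y) = y⁻¹ * (rr ε i j * g) * y := by group
        _ = y⁻¹ * (g * rr ε i j) * y := by rw [h1]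
        _ = y⁻¹ * g * y * (y⁻¹ * rr ε i j * y) := by group
  refine kill hG h hn5 F hij (M := cj y M₀) ?_ ?_ ?_ hbs ?_ ?_
  · rw [ho2, ← cj_centralizer, ← cj_inf]
    exact cj_mono y hchar
  · intro g hg
    exact mem_cj.mpr (hU2 (hcz g hg))
  · intro x hx
    rw [ho2, mem_cj] at hx
    have h1 := hzS _ (hOS hx)
    rw [← hnz] at h1
    calc x * rr ε i j = y * (y⁻¹ * x * y * (y⁻¹ * rr ε i j * y)) * y⁻¹ := by group
      _ = y * (y⁻¹ * rr ε i j * y * (y⁻¹ * x * y)) * y⁻¹ := by rw [h1]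
      _ = rr ε i j * x := by group
  · rw [ho2, mem_cj]
    exact (hzcB hb').1
  · intro x hx
    rw [ho2, mem_cj] at hx
    have h1 := mem_centralizer_iff.mp (hzcB hb').2 _ hx
    calc x * b = y * (y⁻¹ * x * y * (y⁻¹ * b * y)) * y⁻¹ := by group
      _ = y * (y⁻¹ * b * y * (y⁻¹ * x * y)) * y⁻¹ := by rw [h1]
      _ = b * x := by group

/-! ### `NatBig` -/

/-- The facts (F1), (F2), (H1) for all even-subset modules of degree `2^m + 1`, `m ≥ 3`. -/
def AllFacts : Prop :=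
  ∀ (G : Type u) [Group G] [Finite G], IsCharacteristicTwoType G → ∀ (S : Sylow 2 G) (P : Subgroup G) (m : ℕ)
    (ε : (Fin (2 ^ m + 1) → ZMod 2) → G), 3 ≤ m → IsParS (S : Subgroup G) P →
      EvenSet (2 ^ m + 1) (zl (S : Subgroup G) P) P ε → Fix0 ε (S : Subgroup G) → Facts ε P

theorem natBig_of {K : Cls.{u}} (hF : AllFacts.{u}) (hN : Main.NodeN2 K) : Main.NatBig K := by
  intro G _ _ hG hcl S hFull hI _ _ _ P₁ P₂ y m ε hm hl _ _ h4
  exact hN G hG hcl S hFull hI P₂ ⟨hl.pair.star₂, h4,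
    nonLoc hG.char2 S (by omega) hl h4 (hF G hG.char2 S P₁ m ε hm hl.pair.star₁ hl.even hl.fix0)⟩

end Cfsg.Agent.Omega.S5.NatBig
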