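import Cfsg.Agent.Omega.S5.Pair

/-!
# II.c: a natural `SL₂(q)`-module against the even-subset module: `q = 2`
-/

set_option autoImplicit false

namespace Cfsg.Agent.Omega.S5.Nat

open Subgroup Pointwise Cfsg Cfsg.Agent.ZN Cfsg.Agent.ZN.ChoiceBase
open Cfsg.Agent.Omega.MinPar Cfsg.Agent.Omega.FFThm
open Cfsg.Agent.Omega.FrameFF (cv Free)
open Cfsg.Agent.Omega.FrameMulti (IsSym IsNat Typed AllTyped)
open Cfsg.Agent.Omega.NatPair (ap ap_zero' ap_one')
open Cfsg.Agent.Omega.S5.Def Cfsg.Agent.Omega.S5.Syl Cfsg.Agent.Omega.S5.Pair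
open Cfsg.Agent.Lib.SL2Mat

universe u

variable {G : Type u} [Group G]

section nat

variable {F : Type} [Field F] {T H V D : Subgroup G}

theorem e_one (h : NatK F T H V D 1) : h.e 1 = 0 := by
  have h1 := h.mul 1 V.one_mem 1 V.one_mem
  rw [mul_one] at h1
  exact left_eq_add.mp h1

theorem e_inv (h : NatK F T H V D 1) {v : G} (hv : v ∈ V) : h.e v⁻¹ = - h.e v := by
  have h1 := h.mul v hv v⁻¹ (V.inv_mem hv)
  rw [mul_inv_cancel, e_one h] at h1
  exact eq_neg_of_add_eq_zero_right h1.symm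

theorem e_inj (h : NatK F T H V D 1) (hD : D = ⊥) {v w : G} (hv : v ∈ V) (hw : w ∈ V) (hvw : h.e v = h.e w) :
    v = w := by
  have h1 := h.mul v hv w⁻¹ (V.inv_mem hw)
  rw [e_inv h hw, hvw, add_neg_cancel] at h1
  have h3 := (h.ker _ (V.mul_mem hv (V.inv_mem hw))).mp h1
  rw [hD, mem_bot, mul_inv_eq_one] at h3
  exact h3

/-- `|V| = |F|²` -/
theorem card_eq (h : NatK F T H V D 1) (hD : D = ⊥) : Nat.card V = Nat.card F ^ 2 := by
  have h1 : Nat.card V = Nat.card (Fin 1 → Fin 2 → F) := by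
    refine Nat.card_congr (Equiv.ofBijective (fun v : V => h.e (v : G)) ⟨?_, ?_⟩)
    · intro v w hvw
      exact Subtype.ext (e_inj h hD v.2 w.2 hvw)
    · intro x
      obtain ⟨v, hv, hx⟩ := h.surj x
      exact ⟨⟨v, hv⟩, hx⟩
  rw [h1, Nat.card_fun, Nat.card_fun]
  simp

/-- The commutators of an offender element. -/
theorem exists_comm (h : NatK F T H V D 1) (hD : D = ⊥) (hHV : H ≤ normalizer (V : Set G)) (hTH : T ≤ H)
    {A : Subgroup G} (hA : A ≤ T) (hoff : Off V A)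
    {c : G} (hc : c ∈ A) (hne : ¬ ∀ v ∈ V, c * v = v * c) :
    ∃ f : F → G, Function.Injective f ∧ ∀ z, ∃ v ∈ V, f z = c * v * c⁻¹ * v⁻¹ := by
  obtain ⟨I, h1, -⟩ := h.off A hA hoff
  obtain ⟨b, -, hb, -⟩ := h1 c hc
  have hcN : ∀ v ∈ V, c * v * c⁻¹ ∈ V := fun v hv => (mem_normalizer_iff.mp (hHV (hTH (hA hc))) v).mp hv
  have hb0 : b 0 ≠ 0 := by
    intro h0
    apply hne
    intro v hv
    have h2 : c * v * c⁻¹ = v := by
      refine e_inj h hD (hcN v hv) hv ?_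
      funext i
      have h4 : b i = 0 := by rw [Subsingleton.elim i 0]; exact h0
      have h3 : up (0 : F) = 1 := by
        apply Subtype.ext
        funext a b
        fin_cases a <;> fin_cases b <;> simp [up, Lib.SL2Mat.mk]
      rw [hb v hv i]
      change ap (up (b i)) _ = _
      rw [h4, h3, NatPair.ap_one]
    calc c * v = c * v * c⁻¹ * c := by group
      _ = v * c := by rw [h2]
  choose w hw hwx using fun z : F => h.surj fun _ => ![0, z]
  refine ⟨fun z => c * w z * c⁻¹ * (w z)⁻¹, ?_, fun z => ⟨w z, hw z, rfl⟩⟩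
  intro z z' hz
  have e1 : ∀ z, h.e (c * w z * c⁻¹ * (w z)⁻¹) 0 0 = b 0 * z := by
    intro z
    rw [h.mul _ (hcN _ (hw z)) _ (V.inv_mem (hw z)), e_inv h (hw z), Pi.add_apply, Pi.add_apply, hb _ (hw z) 0,
      hwx, ap_zero']
    simp
  have e2 : b 0 * z = b 0 * z' := by
    rw [← e1, ← e1]
    exact congrArg (fun g => h.e g 0 0) hz
  exact mul_left_cancel₀ hb0 e2

end nat

theorem acts_swap_unique {n : ℕ} (hn : 3 ≤ n) {V L : Subgroup G} {ε : (Fin n → ZMod 2) → G}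
    (h : EvenSet n V L ε) {b b' : G} (hbb : b * b' = b' * b) {i j k : Fin n} (hij : i ≠ j) (hik : i ≠ k)
    (hb : Acts ε b (Equiv.swap i j)) (hb' : Acts ε b' (Equiv.swap i k)) : j = k := by
  have h1 := hb.conj hb'
  have h2 : b * b' * b⁻¹ = b' := by rw [hbb, mul_inv_cancel_right]
  rw [h2] at h1
  have h3 := h.acts_unique hn h1 hb'
  by_contra hjk
  have h4 : (Equiv.swap i j * Equiv.swap i k * (Equiv.swap i j)⁻¹) i = i := by
    rw [Equiv.swap_inv, Equiv.Perm.mul_apply, Equiv.Perm.mul_apply, Equiv.swap_apply_left,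
      Equiv.swap_apply_of_ne_of_ne (Ne.symm hij) hjk, Equiv.swap_apply_right]
  rw [h3, Equiv.swap_apply_left] at h4
  exact hik h4.symm

/-- A transposition in an acting group. -/
theorem exists_swap {n : ℕ} {V L A : Subgroup G} {ε : (Fin n → ZMod 2) → G}
    (h : EvenSet n V L ε) (hs : Side A ε) (hne : ¬ A ≤ centralizer (V : Set G)) :
    ∃ b ∈ A, ∃ i j, i ≠ j ∧ Acts ε b (Equiv.swap i j) := by
  have h1 : ¬ ∀ a ∈ A, a ∈ centralizer (V : Set G) := hne
  push Not at h1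
  obtain ⟨a, ha, hac⟩ := h1
  obtain ⟨τ, hτ, hτ2⟩ := hs a ha
  have h2 : ∃ i, τ i ≠ i := by
    by_contra hcon
    push Not at hcon
    have h3 : τ = 1 := Equiv.ext hcon
    rw [h3] at hτ
    exact hac (h.acts_one_iff.mp hτ)
  obtain ⟨i, hi⟩ := h2
  obtain ⟨-, b, hb, hbs⟩ := hτ2 i hi
  exact ⟨b, hb, i, τ i, Ne.symm hi, hbs⟩

/-- `[z_i, A] = ⟨n_ij⟩` if `A` contains the transposition `(i j)`. -/
theorem comm_single {n : ℕ} (hn : 3 ≤ n) {V L A : Subgroup G} {ε : (Fin n → ZMod 2) → G}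
    (h : EvenSet n V L ε) (hs : Side A ε) (hA : ∀ a ∈ A, ∀ b ∈ A, a * b = b * a)
    {b : G} (hb : b ∈ A) {i j : Fin n} (hij : i ≠ j) (hbs : Acts ε b (Equiv.swap i j)) {a : G} (ha : a ∈ A) :
    ε (Pi.single i 1) * a * (ε (Pi.single i 1))⁻¹ * a⁻¹ = 1 ∨
      ε (Pi.single i 1) * a * (ε (Pi.single i 1))⁻¹ * a⁻¹ = ε (Pi.single i 1 + Pi.single j 1) := by
  obtain ⟨τ, hτ, hτ2⟩ := hs a ha
  have h1 := hτ.single i
  have h2 : ε (Pi.single i 1) * a * (ε (Pi.single i 1))⁻¹ * a⁻¹ =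
      ε (Pi.single i 1) * ε (Pi.single (τ i) 1) := by
    rw [← h1, h.inv]
    group
  rw [h2]
  by_cases hi : τ i = i
  · left
    rw [hi, h.sq]
  · right
    obtain ⟨-, b', hb', hbs'⟩ := hτ2 i hi
    have h3 := acts_swap_unique hn h (hA b hb b' hb') hij (Ne.symm hi) hbs hbs'
    rw [← h3, h.add]

/-- **Natural against `S_{2^m+1}`: `|V_{P₂}| = 4`.** -/
theorem card_four [Finite G] (S : Sylow 2 G) {P₁ P₂ : Subgroup G} {y : G} {n : ℕ} (hn : 3 ≤ n)
    (o1 : Off (zl (S : Subgroup G) P₁) (cj y (zl (S : Subgroup G) P₂)))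
    (o2 : Off (cj y (zl (S : Subgroup G) P₂)) (zl (S : Subgroup G) P₁))
    (hSP : (S : Subgroup G) ≤ P₂)
    (hle : zl (S : Subgroup G) P₁ ≤ cj y (S : Subgroup G))
    {ε : (Fin n → ZMod 2) → G} (h : EvenSet n (zl (S : Subgroup G) P₁) P₁ ε)
    (hs : Side (cj y (zl (S : Subgroup G) P₂)) ε) (hN : IsNat (S : Subgroup G) P₂ 1)
    (hF : Free (S : Subgroup G) P₂) : Nat.card (zl (S : Subgroup G) P₂) = 4 := by
  obtain ⟨F, i1, i2, i3, ⟨M⟩⟩ := hN
  obtain ⟨b, hb, i, j, hij, hbs⟩ := exists_swap h hs o1.ne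
  have hab : ∀ a ∈ cj y (zl (S : Subgroup G) P₂), ∀ b ∈ cj y (zl (S : Subgroup G) P₂), a * b = b * a := by
    intro a ha b hb
    have h1 := o1.elem.1
    exact congrArg Subtype.val (h1.is_comm.comm (⟨a, ha⟩ : ↥(cj y (zl (S : Subgroup G) P₂))) ⟨b, hb⟩)
  set c : G := ε (Pi.single i 1) with hc
  have hcb : b * c ≠ c * b := by
    intro h1
    have h2 := (swap_comm_iff h hn hij hbs _).mp h1
    rw [Pi.single_eq_same, Pi.single_eq_of_ne hij.symm] at h2
    exact one_ne_zero h2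
  have hcomm : ∀ a ∈ cj y (zl (S : Subgroup G) P₂), c * a * c⁻¹ * a⁻¹ = 1 ∨
      c * a * c⁻¹ * a⁻¹ = ε (Pi.single i 1 + Pi.single j 1) :=
    fun a ha => comm_single hn h hs hab hb hij hbs ha
  -- the natural side
  have o3 := off_cj o2 y⁻¹
  rw [cj_inv_cj] at o3
  have hA : cj y⁻¹ (zl (S : Subgroup G) P₁) ≤ (S : Subgroup G) := by
    rw [cj_le_iff, inv_inv]
    exact hle
  have hcA : y⁻¹ * c * y ∈ cj y⁻¹ (zl (S : Subgroup G) P₁) := by
    rw [mem_cj]
    have e : y⁻¹⁻¹ * (y⁻¹ * c * y) * y⁻¹ = c := by group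
    rw [e]
    exact h.mem _
  have hcne : ¬ ∀ v ∈ zl (S : Subgroup G) P₂, y⁻¹ * c * y * v = v * (y⁻¹ * c * y) := by
    intro h1
    apply hcb
    have h2 := h1 (y⁻¹ * b * y) (mem_cj.mp hb)
    have e1 : b * c = y * (y⁻¹ * b * y * (y⁻¹ * c * y)) * y⁻¹ := by group
    have e2 : c * b = y * (y⁻¹ * c * y * (y⁻¹ * b * y)) * y⁻¹ := by group
    rw [e1, e2, h2]
  obtain ⟨f, hf, hfv⟩ := exists_comm M hF (Cfsg.Agent.MinSimple.VModule.le_normalizer_zl _ _) hSP hA o3 hcA hcne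
  have hfin : ∀ z, y * f z * y⁻¹ = 1 ∨ y * f z * y⁻¹ = ε (Pi.single i 1 + Pi.single j 1) := by
    intro z
    obtain ⟨v, hv, h1⟩ := hfv z
    have hv' : y * v * y⁻¹ ∈ cj y (zl (S : Subgroup G) P₂) := by
      rw [mem_cj]
      have e : y⁻¹ * (y * v * y⁻¹) * y = v := by group
      rwa [e]
    have h2 := hcomm _ hv'
    have e : y * f z * y⁻¹ = c * (y * v * y⁻¹) * c⁻¹ * (y * v * y⁻¹)⁻¹ := by
      rw [h1]; group
    rw [e]
    exact h2
  have hinj : Function.Injective fun z => y * f z * y⁻¹ :=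
    fun z z' hz => hf (mul_left_cancel (mul_right_cancel hz))
  have hle2 : Nat.card F ≤ 2 := by
    classical
    have : Fintype F := Fintype.ofFinite F
    rw [Nat.card_eq_fintype_card, ← Finset.card_univ]
    refine (Finset.card_le_card_of_injOn (fun z => y * f z * y⁻¹) (t := {1, ε (Pi.single i 1 + Pi.single j 1)})
      ?_ hinj.injOn).trans Finset.card_le_two
    intro z _
    rw [Finset.coe_insert, Finset.coe_singleton]
    exact hfin z
  have hge2 : 2 ≤ Nat.card F := by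
    have : Nontrivial F := inferInstance
    exact Finite.one_lt_card
  rw [card_eq M hF, le_antisymm hle2 hge2]
  norm_num

end Cfsg.Agent.Omega.S5.Nat
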