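import Cfsg.Agent.Omega.S5.Main
import Cfsg.Agent.Omega.NTwo.TT
import Cfsg.Agent.Omega.Node.NO3S

/-!
# OMEGA II.c: inputs of `S5.Main.leafC` which are in Lean

* `natFive`, `ttCen` : the exits N2 (helper501, `Omega/NTwo`);
* `nodeN2b_of` : N2b from `NO3S.Two` (helper172).
-/

set_option autoImplicit false

namespace Cfsg.Agent.Omega.S5.Plug

open Subgroup Pointwise Cfsg Cfsg.Agent.ZN Cfsg.Agent.ZN.ChoiceBase Cfsg.Agent.Omega.MinPar
open Cfsg.Agent.Omega.Frame Cfsg.Agent.Omega.FFThm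
open Cfsg.Agent.Omega.FrameLE (AllIn)
open Cfsg.Agent.Omega.FrameNOFF (CZ)
open Cfsg.Agent.Omega.S5.Def Cfsg.Agent.Omega.S5.Syl Cfsg.Agent.Omega.S5.Pair Cfsg.Agent.Omega.S5.Main
open Cfsg.Agent.MinSimple.VModule (le_normalizer_zl zc_le_zl)
open Cfsg.Agent.Omega.NTwo (TypeFive Fv Exit)

universe u

section five

variable {G : Type u} [Group G]

/-- `EvenSet 5` gives the five points of `Omega/NTwo`. -/
theorem fv {V P : Subgroup G} {ε : (Fin 5 → ZMod 2) → G} (h : EvenSet 5 V P ε) :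
    Fv P fun i => ε (Pi.single i 1) where
  ne i := h.single_ne_one (by norm_num) i
  sq i := h.sq _
  comm i j := h.comm _ _
  inj i j hij := h.single_inj (by norm_num) hij
  prod := by
    rw [← h.add, ← h.add, ← h.add, h.eq_iff]
    right
    decide
  perm g hg := by
    obtain ⟨σ, hσ⟩ := h.perm g hg
    exact ⟨σ, fun i => hσ.single i⟩
  full σ := by
    obtain ⟨g, hg, hσ⟩ := h.full σ
    exact ⟨g, hg, fun i => hσ.single i⟩

theorem vec_sum (x : Fin 5 → ZMod 2) : x = ∑ i, x i • (Pi.single i 1 : Fin 5 → ZMod 2) := by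
  funext j
  simp [Finset.sum_apply, Pi.single_apply]

theorem closure_eq {V P : Subgroup G} {ε : (Fin 5 → ZMod 2) → G} (h : EvenSet 5 V P ε) :
    V = closure (Set.range fun i => ε (Pi.single i 1)) := by
  apply le_antisymm
  · intro v hv
    obtain ⟨x, rfl⟩ := h.surj v hv
    have key : ∀ (a : ZMod 2) (i : Fin 5), ε (a • Pi.single i 1) ∈
        closure (Set.range fun i => ε (Pi.single i 1)) := by
      intro a i
      have ha : a = 0 ∨ a = 1 := by revert a; decide
      rcases ha with rfl | rfl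
      · rw [zero_smul, h.zero]; exact one_mem _
      · rw [one_smul]; exact subset_closure ⟨i, rfl⟩
    have h1 : x = x 0 • Pi.single 0 1 + x 1 • Pi.single 1 1 + x 2 • Pi.single 2 1 + x 3 • Pi.single 3 1 +
        x 4 • Pi.single 4 1 := by
      conv_lhs => rw [vec_sum x]
      rw [Fin.sum_univ_five]
    rw [h1, h.add, h.add, h.add, h.add]
    exact mul_mem (mul_mem (mul_mem (mul_mem (key _ _) (key _ _)) (key _ _)) (key _ _)) (key _ _)
  · rw [closure_le]
    rintro _ ⟨i, rfl⟩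
    exact h.mem _

theorem typeFive {S P : Subgroup G} {ε : (Fin 5 → ZMod 2) → G} (h : EvenSet 5 (zl S P) P ε) :
    TypeFive S P := ⟨_, fv h, closure_eq h⟩

end five

theorem exitN2_of {G : Type u} [Group G] {S : Subgroup G} (h : Exit S) : ∃ P : Subgroup G, ExitN2 S P := by
  obtain ⟨P, h1, h2, h3⟩ := h
  exact ⟨P, h1, h2, h3⟩

/-- **(F3), `m = 2`.** -/
theorem natFive : NatFive.{u} := by
  intro G _ _ hG S _ _ P₁ P₂ y ε hl _ _ h4
  exact exitN2_of (NTwo.exit_nat hG.char2 S hl.pair (typeFive hl.even) h4)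

/-- **T-T, `n` 2-central.** -/
theorem ttCen : TTCen.{u} := by
  intro G _ _ hG S _ _ P₁ P₂ y ε ε₂ hl t1 _ ⟨T₀, hT₀⟩
  have hn : 3 ≤ 2 ^ 2 + 1 := by norm_num
  obtain ⟨b, hb, i, j, hij, hbs⟩ := Nat.exists_swap hl.even hl.side hl.off₁.ne
  set n : G := ε (Pi.single i 1 + Pi.single j 1) with hn'
  -- all elements of `V'` act as `1` or as `(i j)`
  have hact : ∀ a ∈ cj y (zl (S : Subgroup G) P₂), Acts ε a 1 ∨ Acts ε a (Equiv.swap i j) := by
    intro a ha
    by_cases hc : a ∈ centralizer (zl (S : Subgroup G) P₁ : Set G)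
    · exact Or.inl (hl.even.acts_one_iff.mpr hc)
    · right
      have hbc : b ∉ centralizer (zl (S : Subgroup G) P₁ : Set G) := by
        intro h0
        have h1 := hl.even.acts_unique hn (hl.even.acts_one_iff.mpr h0) hbs
        exact hij (Equiv.swap_eq_one_iff.mp h1.symm)
      have h2 := t1 b hb a ha hbc hc
      have h3 := hbs.mul (hl.even.acts_one_iff.mpr h2)
      rw [mul_inv_cancel_left, mul_one] at h3
      exact h3
  have hVc : ∀ v ∈ zl (S : Subgroup G) P₁, ∀ w ∈ zl (S : Subgroup G) P₁, v * w = w * v :=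
    fun v hv w hw => hl.even.comm_mem hv hw
  have hnV : n ∈ zl (S : Subgroup G) P₁ := hl.even.mem _
  have hnn : n⁻¹ = n := hl.even.inv _
  have hkey : ∀ a ∈ cj y (zl (S : Subgroup G) P₂), ∀ v ∈ zl (S : Subgroup G) P₁,
      a * v * a⁻¹ = v ∨ a * v * a⁻¹ = v * n := by
    intro a ha v hv
    obtain ⟨u, rfl⟩ := hl.even.surj v hv
    rcases hact a ha with h1 | h1
    · left
      exact h1 u
    · by_cases hu : u i = u j
      · left
        rw [(acts_swap hl.even h1 u).1 hu, mul_inv_cancel_right]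
      · right
        exact (acts_swap hl.even h1 u).2 hu
  have hT : ∀ v ∈ zl (S : Subgroup G) P₁, ∀ w ∈ MulAut.conj y • zl (S : Subgroup G) P₂,
      v * w * v⁻¹ = w ∨ v * w * v⁻¹ = n * w := by
    intro v hv w hw
    have e : v * w * v⁻¹ = v * (w * v⁻¹ * w⁻¹) * w := by group
    rcases hkey w hw v⁻¹ (inv_mem hv) with h1 | h1
    · left
      rw [e, h1, mul_inv_cancel, one_mul]
    · right
      rw [e, h1, ← mul_assoc v, mul_inv_cancel, one_mul]
  refine exitN2_of (NTwo.exit_tt hG.char2 S hl.pair (typeFive hl.even) (typeFive hl.even₂) (n := n) hT T₀ ?_)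
  intro x hx
  have h1 := mem_centralizer_iff.mp (hT₀ hx) n ?_
  · rw [← h1, mul_inv_cancel_right]
  · -- `n` is a commutator
    have h2 : ε (Pi.single i 1) * b * (ε (Pi.single i 1))⁻¹ * b⁻¹ ∈
        (⁅zl (S : Subgroup G) P₁, cj y (zl (S : Subgroup G) P₂)⁆ : Subgroup G) :=
      commutator_mem_commutator (hl.even.mem _) hb
    have h3 : (Pi.single i 1 : Fin (2 ^ 2 + 1) → ZMod 2) i ≠ (Pi.single i 1 : Fin (2 ^ 2 + 1) → ZMod 2) j := by
      rw [Pi.single_eq_same, Pi.single_eq_of_ne hij.symm]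
      exact one_ne_zero
    have h4 := (acts_swap hl.even hbs (Pi.single i 1)).2 h3
    have h5 : ε (Pi.single i 1) * b * (ε (Pi.single i 1))⁻¹ * b⁻¹ = n⁻¹ := by
      have e : ε (Pi.single i 1) * b * (ε (Pi.single i 1))⁻¹ * b⁻¹ =
          ε (Pi.single i 1) * (b * ε (Pi.single i 1) * b⁻¹)⁻¹ := by group
      rw [e, h4, mul_inv_rev, hl.even.inv (Pi.single i 1), ← hn']
      rw [hnn, hl.even.comm_mem hnV (hl.even.mem _), ← mul_assoc, hl.even.sq, one_mul]
    rw [h5, hnn] at h2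
    exact h2

/-! ### N2b -/

theorem ww_comm {G : Type u} [Group G] {S P : Subgroup G}
    (hab : ∀ g ∈ CZ S, ⁅zl S P, cj g (zl S P)⁆ = ⊥) :
    NO3S.WW S P ≤ centralizer (NO3S.WW S P : Set G) := by
  have key : ∀ c ∈ CZ S, ∀ c' ∈ CZ S, ∀ v ∈ cj c (zl S P), ∀ w ∈ cj c' (zl S P), v * w = w * v := by
    intro c hc c' hc' v hv w hw
    have h1 := hab (c⁻¹ * c') (mul_mem (inv_mem hc) hc')
    rw [commutator_eq_bot_iff_le_centralizer] at h1
    have h2 : c⁻¹ * w * c ∈ cj (c⁻¹ * c') (zl S P) := by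
      rw [mem_cj]
      have e : (c⁻¹ * c')⁻¹ * (c⁻¹ * w * c) * (c⁻¹ * c') = c'⁻¹ * w * c' := by group
      rw [e]
      exact mem_cj.mp hw
    have h3 := mem_centralizer_iff.mp (h1 (mem_cj.mp hv)) _ h2
    calc v * w = c * ((c⁻¹ * v * c) * (c⁻¹ * w * c)) * c⁻¹ := by group
      _ = c * ((c⁻¹ * w * c) * (c⁻¹ * v * c)) * c⁻¹ := by rw [h3]
      _ = w * v := by group
  refine NoFF.Lines.W_le fun Q hQ c hc => ?_
  obtain rfl : Q = P := hQ
  intro v hv
  rw [mem_centralizer_iff]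
  intro w hw
  have h1 : NO3S.WW S Q ≤ centralizer ({v} : Set G) := by
    refine NoFF.Lines.W_le fun Q' hQ' c' hc' => ?_
    obtain rfl : Q' = Q := hQ'
    intro w hw
    rw [mem_centralizer_singleton_iff]
    exact key c' hc' c hc w hw v hv
  exact mem_centralizer_singleton_iff.mp (h1 hw)

theorem nodeN2b_of {K : Cls.{u}} (h : NO3S.Two K) : NodeN2b K := by
  intro G _ _ hG hcl S hF hI P hP hab
  exact h G hcl S P (NO3S.Hyp.of_four hG hP.star hP.nonloc hP.card hF (ww_comm hab)) hP.card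

/-! ### N2a -/

/-- II.a, `q = 2`, from a mutual pair `V_P`, `V_P^x` only. (helper840, helper338: `Omega/IIa2`, `Omega/FFTwoA`,
through `FrameExtra.NodeSympl`) -/
def KnownA2 (K : Cls.{u}) : Prop :=
  ∀ (G : Type u) [Group G] [Finite G], Ctx G → K G → ∀ (S : Sylow 2 G) (P : Subgroup G) (x : G),
    Mutual (S : Subgroup G) P P x → Nat.card (zl (S : Subgroup G) P) = 4 → IsKnownSimple' G

theorem mutual_of_low {G : Type u} [Group G] [Finite G] (hG : Ctx G) (S : Sylow 2 G) {P : Subgroup G}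
    (hP : IsParS (S : Subgroup G) P) (hlow : zl (S : Subgroup G) P ≤ o2 (CZ (S : Subgroup G))) {g : G}
    (hg : g ∈ CZ (S : Subgroup G))
    (hne : ⁅zl (S : Subgroup G) P, cj g (zl (S : Subgroup G) P)⁆ ≠ ⊥) : Mutual (S : Subgroup G) P P g := by
  have hOS : o2 (CZ (S : Subgroup G)) ≤ (S : Subgroup G) :=
    (isLoc_centralizer_zc S (hG.sylow_ne_bot S)).o2_le S
  have hSV : (S : Subgroup G) ≤ normalizer (zl (S : Subgroup G) P : Set G) :=
    hP.le.trans (le_normalizer_zl _ _)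
  have hgO : cj g (o2 (CZ (S : Subgroup G))) = o2 (CZ (S : Subgroup G)) :=
    cj_eq_of_mem_normalizer (MinSimple.VModule.le_normalizer_o2 _ hg)
  have h1 : cj g (zl (S : Subgroup G) P) ≤ o2 (CZ (S : Subgroup G)) := by
    rw [← hgO]
    exact cj_mono g hlow
  refine ⟨hP, hP, ?_, (h1.trans hOS).trans hSV, hne⟩
  have h2 : o2 (CZ (S : Subgroup G)) ≤ cj g (normalizer (zl (S : Subgroup G) P : Set G)) := by
    rw [← hgO]
    exact cj_mono g (hOS.trans hSV)
  rw [cj_normalizer] at h2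
  exact hlow.trans h2

theorem nodeN2a_of {K : Cls.{u}} (h : KnownA2 K) : NodeN2a K := by
  intro G _ _ hG hcl S hF hI P hP ⟨g, hg, hne⟩
  exact h G hG hcl S P g (mutual_of_low hG S hP.star (hI P hP.star) hg hne) hP.card

/-- **II.c from the remaining inputs.** -/
theorem leafC_of {K : Cls.{u}} (h1 : KnownA2 K) (h2 : NO3S.Two K) (h3 : TTNon.{u}) (h4 : NatBig K)
    (h5 : SymBig K) : FrameMulti.LeafC K :=
  leafC (nodeN2 (nodeN2a_of h1) (nodeN2b_of h2)) natFive ttCen h3 h4 h5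

end Cfsg.Agent.Omega.S5.Plug
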