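import Cfsg.Agent.Omega.S5.Syl
import Cfsg.Agent.Omega.FFThm

/-!
# II.c: from `FFThm.SymK` with one summand and `C_V(O²(P)) = 1` to `EvenSet`
-/

set_option autoImplicit false

namespace Cfsg.Agent.Omega.S5.Of

open Subgroup Pointwise Cfsg.Agent.Omega.S5.Def Cfsg.Agent.Omega.S5.Syl Cfsg.Agent.Omega.FFThm

universe u

variable {G : Type u} [Group G]

/-- the even representative -/
def hat {n : ℕ} (x : Fin n → ZMod 2) : Fin n → ZMod 2 := fun i => x i + ∑ j, x j

theorem hat_add {n : ℕ} (x y : Fin n → ZMod 2) : hat (x + y) = hat x + hat y := by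
  funext i
  simp only [hat, Pi.add_apply, Finset.sum_add_distrib]
  ring

theorem hat_comp {n : ℕ} (x : Fin n → ZMod 2) (σ : Equiv.Perm (Fin n)) : hat (x ∘ σ) = hat x ∘ σ := by
  funext i
  simp only [hat, Function.comp_apply]
  rw [Equiv.sum_comp σ x]

theorem cast_odd {m : ℕ} (hm : 1 ≤ m) : ((2 ^ m + 1 : ℕ) : ZMod 2) = 1 := by
  obtain ⟨k, rfl⟩ : ∃ k, m = k + 1 := ⟨m - 1, by omega⟩
  rw [Nat.cast_add, Nat.cast_pow, pow_succ]
  have : ((2 : ℕ) : ZMod 2) = 0 := by decide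
  rw [this, mul_zero, zero_add, Nat.cast_one]

theorem sum_hat {m : ℕ} (hm : 1 ≤ m) (x : Fin (2 ^ m + 1) → ZMod 2) : ∑ i, hat x i = 0 := by
  simp only [hat, Finset.sum_add_distrib]
  rw [Finset.sum_const, Finset.card_univ, Fintype.card_fin, nsmul_eq_mul, cast_odd hm, one_mul,
    CharTwo.add_self_eq_zero]

theorem hat_eq_zero_iff {m : ℕ} (hm : 1 ≤ m) (x : Fin (2 ^ m + 1) → ZMod 2) : hat x = 0 ↔ x = 0 ∨ x = 1 := by
  have h01 : ∀ a : ZMod 2, a = 0 ∨ a = 1 := by decide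
  constructor
  · intro h
    have h1 : ∀ i, x i = ∑ j, x j := by
      intro i
      have h2 := congrFun h i
      rw [hat, Pi.zero_apply] at h2
      rw [← CharTwo.add_eq_zero]
      exact h2
    rcases h01 (∑ j, x j) with h3 | h3
    · left
      funext i
      rw [h1, h3]
      rfl
    · right
      funext i
      rw [h1, h3]
      rfl
  · rintro (rfl | rfl)
    · funext i
      simp [hat]
    · funext i
      simp only [hat, Pi.one_apply, Finset.sum_const, Finset.card_univ, Fintype.card_fin, nsmul_eq_mul, mul_one,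
        Pi.zero_apply]
      rw [cast_odd hm, CharTwo.add_self_eq_zero]

section

variable {T H V D : Subgroup G} {m : ℕ}

/-- the label map -/
noncomputable def lab (h : SymK T H V D 1 m) (hm : 1 ≤ m) (x : Fin (2 ^ m + 1) → ZMod 2) : G :=
  (h.surj (fun _ => hat x) fun _ => sum_hat hm x).choose

theorem lab_mem (h : SymK T H V D 1 m) (hm : 1 ≤ m) (x : Fin (2 ^ m + 1) → ZMod 2) : lab h hm x ∈ V :=
  (h.surj (fun _ => hat x) fun _ => sum_hat hm x).choose_spec.1

theorem e_lab (h : SymK T H V D 1 m) (hm : 1 ≤ m) (x : Fin (2 ^ m + 1) → ZMod 2) :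
    h.e (lab h hm x) = fun _ => hat x :=
  (h.surj (fun _ => hat x) fun _ => sum_hat hm x).choose_spec.2

theorem e_one (h : SymK T H V D 1 m) : h.e 1 = 0 := by
  have h1 := h.mul 1 V.one_mem 1 V.one_mem
  rw [mul_one] at h1
  exact left_eq_add.mp h1

theorem e_inv (h : SymK T H V D 1 m) {v : G} (hv : v ∈ V) : h.e v⁻¹ = h.e v := by
  have h1 := h.mul v hv v⁻¹ (V.inv_mem hv)
  rw [mul_inv_cancel, e_one h] at h1
  funext i x
  have h2 := congrFun (congrFun h1 i) x
  rw [Pi.zero_apply, Pi.zero_apply, Pi.add_apply, Pi.add_apply] at h2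
  have h3 : h.e v i x = h.e v⁻¹ i x := CharTwo.add_eq_zero.mp h2.symm
  exact h3.symm

theorem e_inj (h : SymK T H V D 1 m) (hD : D = ⊥) {v w : G} (hv : v ∈ V) (hw : w ∈ V) (hvw : h.e v = h.e w) :
    v = w := by
  have h1 := h.mul v hv w⁻¹ (V.inv_mem hw)
  rw [e_inv h hw, hvw] at h1
  have h2 : h.e (v * w⁻¹) = 0 := by
    rw [h1]
    funext i x
    exact CharTwo.add_self_eq_zero _
  have h3 := (h.ker _ (V.mul_mem hv (V.inv_mem hw))).mp h2
  rw [hD, mem_bot, mul_inv_eq_one] at h3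
  exact h3

theorem acts_iff (h : SymK T H V D 1 m) (hD : D = ⊥) (hm : 1 ≤ m) {g : G} (hg : g ∈ normalizer (V : Set G))
    (τ : Fin 1 → Equiv.Perm (Fin (2 ^ m + 1))) (σ : Equiv.Perm (Fin 1)) :
    ActsSym h.e V g σ τ ↔ Acts (lab h hm) g (τ 0) := by
  have hσ : ∀ i, σ i = 0 := fun i => Subsingleton.elim _ _
  have hi0 : ∀ i : Fin 1, i = 0 := fun i => Subsingleton.elim _ _
  constructor
  · intro h1 x
    refine e_inj h hD ((mem_normalizer_iff.mp hg _).mp (lab_mem h hm x)) (lab_mem h hm _) ?_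
    rw [e_lab]
    funext i y
    rw [hi0 i]
    have h2 := h1 _ (lab_mem h hm x) 0 ((τ 0).symm y)
    rw [hσ, Equiv.apply_symm_apply, e_lab] at h2
    rw [h2]
    change hat x ((τ 0).symm y) = hat (x ∘ (τ 0).symm) y
    rw [hat_comp]
    rfl
  · intro h1 v hv i y
    rw [hσ, hi0 i]
    have h01 : ∑ x, h.e v 0 x = 0 := h.even v hv 0
    have h2 : lab h hm (h.e v 0) = v := by
      refine e_inj h hD (lab_mem h hm _) hv ?_
      rw [e_lab]
      funext i z
      rw [hi0 i]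
      change h.e v 0 z + ∑ j, h.e v 0 j = h.e v 0 z
      rw [h01, add_zero]
    have h3 := h1 (h.e v 0)
    rw [h2] at h3
    rw [h3, e_lab]
    change hat (h.e v 0 ∘ (τ 0).symm) (τ 0 y) = h.e v 0 y
    rw [hat_comp]
    change hat (h.e v 0) ((τ 0).symm (τ 0 y)) = _
    rw [Equiv.symm_apply_apply]
    change h.e v 0 y + ∑ j, h.e v 0 j = h.e v 0 y
    rw [h01, add_zero]

/-- **One summand, `D = 1`**: `V` is the even-subset module. -/
theorem evenSet (h : SymK T H V D 1 m) (hD : D = ⊥) (hm : 1 ≤ m) (hH : H ≤ normalizer (V : Set G)) :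
    EvenSet (2 ^ m + 1) V H (lab h hm) where
  add x y := by
    refine e_inj h hD (lab_mem h hm _) (V.mul_mem (lab_mem h hm _) (lab_mem h hm _)) ?_
    rw [h.mul _ (lab_mem h hm _) _ (lab_mem h hm _), e_lab, e_lab, e_lab, hat_add]
    rfl
  mem := lab_mem h hm
  surj v hv := by
    refine ⟨h.e v 0, e_inj h hD (lab_mem h hm _) hv ?_⟩
    rw [e_lab]
    funext i z
    rw [Subsingleton.elim i 0]
    change h.e v 0 z + ∑ j, h.e v 0 j = h.e v 0 z
    rw [h.even v hv 0, add_zero]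
  ker x := by
    rw [← hat_eq_zero_iff hm]
    constructor
    · intro h1
      have h2 := e_lab h hm x
      rw [h1, e_one h] at h2
      exact (congrFun h2 0).symm
    · intro h1
      refine e_inj h hD (lab_mem h hm _) V.one_mem ?_
      rw [e_lab, e_one h, h1]
      rfl
  perm g hg := by
    obtain ⟨σ, τ, h1⟩ := h.perm g hg
    exact ⟨_, (acts_iff h hD hm (hH hg) τ σ).mp h1⟩
  full σ := by
    obtain ⟨g, hg, h1, -⟩ := h.lift fun _ => σ
    exact ⟨g, hg, (acts_iff h hD hm (hH hg) _ _).mp h1⟩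

theorem fix0 (h : SymK T H V D 1 m) (hD : D = ⊥) (hm : 1 ≤ m) (hH : H ≤ normalizer (V : Set G)) (hTH : T ≤ H) :
    Fix0 (lab h hm) T := by
  intro s hs σ hσ
  exact h.fix0 s hs 1 (fun _ => σ) ((acts_iff h hD hm (hH (hTH hs)) (fun _ => σ) 1).mpr hσ) 0

/-- offenders are generated by transpositions -/
theorem off (h : SymK T H V D 1 m) (hD : D = ⊥) (hm : 1 ≤ m) (hH : H ≤ normalizer (V : Set G)) (hTH : T ≤ H)
    {A : Subgroup G} (hA : A ≤ T) (hoff : Off V A) {a : G} (ha : a ∈ A) :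
    ∃ τ : Equiv.Perm (Fin (2 ^ m + 1)), Acts (lab h hm) a τ ∧ ∀ x, τ x ≠ x → τ (τ x) = x ∧
      ∃ b ∈ A, Acts (lab h hm) b (Equiv.swap x (τ x)) := by
  obtain ⟨τ, h1, h2⟩ := (h.off A hA hoff).2 a ha
  refine ⟨τ 0, (acts_iff h hD hm (hH (hTH (hA ha))) τ 1).mp h1, fun x hx => ?_⟩
  obtain ⟨h3, b, hb, h4⟩ := h2 0 x hx
  refine ⟨h3, b, hb, ?_⟩
  have h5 := (acts_iff h hD hm (hH (hTH (hA hb))) _ 1).mp h4
  rwa [Function.update_self] at h5

end

end Cfsg.Agent.Omega.S5.Of
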