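import Cfsg.Agent.Omega.S5.OfEven

/-!
# OMEGA II.c: normal forms of a T-T pair of natural `O₄⁻(2)`-modules

* `Form S M₁ M₂ y` : `V₁`, `V₂` natural `O₄⁻(2)`-modules normalised by the Sylow 2-subgroup `S`, with
  labels such that `S` induces `D₈ = C((0 1)(2 3))` on both, `V₂ ^ y ≤ S`, `V₁ ≤ S ^ y`, and both `V₁`
  and `V₂ ^ y` act on each other as `⟨(0 1)⟩`; `[V₁, V₂ ^ y] = ⟨n⟩`, `n = {0 1}` in `V₁` and in `V₂ ^ y`;
* `exists_form` : every mutual pair (`G` of characteristic 2 type) has such a form;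
* `Form.exists_nc` : if `n` is not 2-central, then `y = h k` with `h ∈ C_G(n)`, `k ∈ N_G(S)`, and
  `V₁`, `V₂ ^ k` have the same `n`, `a`, `s`;
* `Nc S M₁ M₂ h` : the resulting configuration, `exists_nc`.
-/

set_option autoImplicit false

namespace Cfsg.Agent.Omega.S5.TTform

open Subgroup Cfsg Cfsg.Agent.ZN Cfsg.Agent.ZN.ChoiceBase
open Cfsg.Agent.Omega.S5.Mod Cfsg.Agent.Omega.S5.TT Cfsg.Agent.Omega.S5.Types
open Cfsg.Agent.Omega.S5.Def

universe u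

variable {G : Type u} [Group G]

/-- The normal form of a T-T pair. -/
structure Form (S : Sylow 2 G) {V₁ L₁ V₂ L₂ : Subgroup G} (M₁ : FiveMod V₁ L₁) (M₂ : FiveMod V₂ L₂)
    (y : G) : Prop where
  two : IsCharacteristicTwoType G
  S_le₁ : (S : Subgroup G) ≤ L₁
  S_le₂ : (S : Subgroup G) ≤ L₂
  zS₁ : zc (S : Subgroup G) ≤ V₁
  zS₂ : zc (S : Subgroup G) ≤ V₂
  d8₁ : ∀ g ∈ (S : Subgroup G), ∀ p, M₁.Ind g p → p * dd = dd * p
  d8₁' : ∀ p, p * dd = dd * p → ∃ g ∈ (S : Subgroup G), M₁.Ind g p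
  d8₂ : ∀ g ∈ (S : Subgroup G), ∀ p, M₂.Ind g p → p * dd = dd * p
  d8₂' : ∀ p, p * dd = dd * p → ∃ g ∈ (S : Subgroup G), M₂.Ind g p
  le : cj y V₂ ≤ (S : Subgroup G)
  ge : V₁ ≤ cj y (S : Subgroup G)
  act : ∀ v ∈ cj y V₂, M₁.Ind v 1 ∨ M₁.Ind v (Equiv.swap 0 1)
  ex : ∃ v ∈ cj y V₂, M₁.Ind v (Equiv.swap 0 1)
  act' : ∀ v ∈ V₁, (M₂.cj y).Ind v 1 ∨ (M₂.cj y).Ind v (Equiv.swap 0 1)
  ex' : ∃ v ∈ V₁, (M₂.cj y).Ind v (Equiv.swap 0 1)
  hn : y * M₂.e nn * y⁻¹ = M₁.e nn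

/-! ### (A) -/

theorem swap_d8 : ∀ i j : Fin 5, i ≠ j → Equiv.swap i j * dd = dd * Equiv.swap i j →
    Equiv.swap i j = Equiv.swap 0 1 ∨ Equiv.swap i j = Equiv.swap 2 3 := by
  decide +kernel

theorem swap_nn : ∀ x : Vec, (x ∘ (Equiv.swap 0 1 : Equiv.Perm (Fin 5)).symm + x = 0 ∨
      x ∘ (Equiv.swap 0 1 : Equiv.Perm (Fin 5)).symm + x = 1) ∨
    (x ∘ (Equiv.swap 0 1 : Equiv.Perm (Fin 5)).symm + x = nn ∨
      x ∘ (Equiv.swap 0 1 : Equiv.Perm (Fin 5)).symm + x = nn + 1) := swap_comm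

/-- Labels for `V` such that the subgroup `W ≤ S` of transpositions acts as `⟨(0 1)⟩`. -/
theorem exists_label [Finite G] {V L : Subgroup G} (M : FiveMod V L) (S : Sylow 2 G)
    (hS : (S : Subgroup G) ≤ L) {W : Subgroup G} (hWS : W ≤ (S : Subgroup G))
    (hW : ∀ w ∈ W, ∀ p, M.Ind w p → p = 1 ∨ p.IsSwap)
    (hne : ∃ w ∈ W, w ∉ centralizer (V : Set G)) : ∃ M' : FiveMod V L,
      (∀ g ∈ (S : Subgroup G), ∀ p, M'.Ind g p → p * dd = dd * p) ∧
      (∀ p, p * dd = dd * p → ∃ g ∈ (S : Subgroup G), M'.Ind g p) ∧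
      (∀ w ∈ W, M'.Ind w 1 ∨ M'.Ind w (Equiv.swap 0 1)) ∧
      ∃ w ∈ W, M'.Ind w (Equiv.swap 0 1) := by
  obtain ⟨τ, hd, hd'⟩ := exists_relabel M S hS
  set N := M.relabel τ with hN
  have hWN : ∀ w ∈ W, ∀ p, N.Ind w p → p = 1 ∨ p = Equiv.swap 0 1 ∨ p = Equiv.swap 2 3 := by
    intro w hw p hp
    have h1 := FiveMod.ind_of_relabel τ hp
    rcases hW w hw _ h1 with h2 | ⟨i, j, hij, h2⟩
    · left
      have := congrArg (fun x => τ⁻¹ * x * τ) h2
      simpa [mul_assoc] using this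
    · right
      have e : p = Equiv.swap (τ⁻¹ i) (τ⁻¹ j) := by
        rw [Equiv.swap_apply_apply, ← h2]; group
      have h3 := hd w (hWS hw) p hp
      rw [e] at h3 ⊢
      exact swap_d8 _ _ (fun h => hij (τ⁻¹.injective h)) h3
  obtain ⟨w0, hw0, hw0V⟩ := hne
  obtain ⟨p0, hp0⟩ := N.exists_ind (hS (hWS hw0))
  have hp01 : p0 ≠ 1 := fun h => hw0V (FiveMod.ind_one_iff.1 (h ▸ hp0))
  have hall : ∀ w ∈ W, N.Ind w 1 ∨ N.Ind w p0 := by
    intro w hw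
    obtain ⟨p, hp⟩ := N.exists_ind (hS (hWS hw))
    by_cases h1 : p = 1
    · left; rw [← h1]; exact hp
    · right
      have h2 := hWN _ (mul_mem hw hw0) _ (hp.mul hp0)
      have h3 : p = p0 := by
        rcases hWN w hw p hp with h | h | h
        · exact absurd h h1
        · rcases hWN w0 hw0 p0 hp0 with h' | h' | h'
          · exact absurd h' hp01
          · rw [h, h']
          · rw [h, h'] at h2
            exact absurd h2 (by decide)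
        · rcases hWN w0 hw0 p0 hp0 with h' | h' | h'
          · exact absurd h' hp01
          · rw [h, h'] at h2
            exact absurd h2 (by decide)
          · rw [h, h']
      rw [← h3]; exact hp
  rcases hWN w0 hw0 p0 hp0 with h' | h' | h'
  · exact absurd h' hp01
  · subst h'
    exact ⟨N, hd, hd', hall, w0, hw0, hp0⟩
  · subst h'
    have e1 : tt⁻¹ * Equiv.swap 2 3 * tt = Equiv.swap 0 1 := by decide
    refine ⟨N.relabel tt, ?_, ?_, ?_, w0, hw0, ?_⟩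
    · intro g hg p hp
      have h1 := hd g hg _ (FiveMod.ind_of_relabel tt hp)
      have h2 : tt * dd = dd * tt := by decide
      have h3 : tt⁻¹ * dd = dd * tt⁻¹ := by decide
      calc p * dd = tt⁻¹ * (tt * p * tt⁻¹ * (tt * dd)) := by group
        _ = tt⁻¹ * (tt * p * tt⁻¹ * dd * tt) := by rw [h2]; group
        _ = tt⁻¹ * dd * tt * p := by rw [h1]; group
        _ = dd * p := by rw [h3]; group
    · intro p hp
      obtain ⟨g, hg, hi⟩ := hd' (tt * p * tt⁻¹) (by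
        have h2 : tt * dd = dd * tt := by decide
        have h3 : tt⁻¹ * dd = dd * tt⁻¹ := by decide
        calc tt * p * tt⁻¹ * dd = tt * p * (tt⁻¹ * dd) := by group
          _ = tt * (p * dd) * tt⁻¹ := by rw [h3]; group
          _ = (tt * dd) * p * tt⁻¹ := by rw [hp]; group
          _ = dd * (tt * p * tt⁻¹) := by rw [h2]; group)
      refine ⟨g, hg, ?_⟩
      have h1 := FiveMod.relabel_ind tt hi
      have e : tt⁻¹ * (tt * p * tt⁻¹) * tt = p := by group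
      rwa [e] at h1
    · intro w hw
      rcases hall w hw with h1 | h1
      · left
        have h2 := FiveMod.relabel_ind tt h1
        have e : tt⁻¹ * 1 * tt = 1 := by group
        rwa [e] at h2
      · right
        have h2 := FiveMod.relabel_ind tt h1
        rwa [e1] at h2
    · have h2 := FiveMod.relabel_ind tt hp0
      rwa [e1] at h2

/-- **(A)** The normal form of a mutual pair of natural `O₄⁻(2)`-modules. -/
theorem exists_form [Finite G] (hG : IsCharacteristicTwoType G) (S : Sylow 2 G)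
    {V₁ L₁ V₂ L₂ : Subgroup G} (N₁ : FiveMod V₁ L₁) (N₂ : FiveMod V₂ L₂)
    (hS₁ : (S : Subgroup G) ≤ L₁) (hS₂ : (S : Subgroup G) ≤ L₂)
    (hz₁ : zc (S : Subgroup G) ≤ V₁) (hz₂ : zc (S : Subgroup G) ≤ V₂) {y : G}
    (hle : cj y V₂ ≤ (S : Subgroup G)) (hge : V₁ ≤ cj y (S : Subgroup G))
    (hne : ¬ cj y V₂ ≤ centralizer (V₁ : Set G)) :
    ∃ (M₁ : FiveMod V₁ L₁) (M₂ : FiveMod V₂ L₂), Form S M₁ M₂ y := by
  have hgeL : V₁ ≤ cj y L₂ := hge.trans (cj_mono y hS₂)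
  have hge' : cj y⁻¹ V₁ ≤ (S : Subgroup G) := by
    rw [cj_le_iff, inv_inv]; exact hge
  have hle' : V₂ ≤ cj y⁻¹ L₁ := cj_le_iff.1 (hle.trans hS₁)
  obtain ⟨M₁, h1, h2, h3, h4⟩ := exists_label N₁ S hS₁ hle
    (fun w hw p hp => swap_of_pair hG S N₁ N₂ hS₁ hS₂ hz₁ (hle.trans hS₁) hgeL hw hp)
    (by by_contra h; push Not at h; exact hne h)
  have hne2 : ∃ w ∈ cj y⁻¹ V₁, w ∉ centralizer (V₂ : Set G) := by
    by_contra h
    push Not at h
    apply hne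
    rintro _ ⟨v, hv, rfl⟩
    rw [mem_centralizer_iff]
    intro w hw
    have h5 := mem_centralizer_iff.1 (h (y⁻¹ * w * y) (by
      rw [mem_cj]
      have e : y⁻¹⁻¹ * (y⁻¹ * w * y) * y⁻¹ = w := by group
      rw [e]; exact hw)) v hv
    change w * (y * v * y⁻¹) = (y * v * y⁻¹) * w
    calc w * (y * v * y⁻¹) = y * ((y⁻¹ * w * y) * v) * y⁻¹ := by group
      _ = y * (v * (y⁻¹ * w * y)) * y⁻¹ := by rw [h5]
      _ = (y * v * y⁻¹) * w := by group
  obtain ⟨M₂, k1, k2, k3, k4⟩ := exists_label N₂ S hS₂ hge'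
    (fun w hw p hp => swap_of_pair hG S N₂ N₁ hS₂ hS₁ hz₂ (hge'.trans hS₂) hle' hw hp) hne2
  have hcj : ∀ v : G, y * (y⁻¹ * v * y) * y⁻¹ = v := fun v => by group
  have hmem : ∀ v ∈ V₁, y⁻¹ * v * y ∈ cj y⁻¹ V₁ := by
    intro v hv
    rw [mem_cj]
    have e : y⁻¹⁻¹ * (y⁻¹ * v * y) * y⁻¹ = v := by group
    rw [e]; exact hv
  have hact' : ∀ v ∈ V₁, (M₂.cj y).Ind v 1 ∨ (M₂.cj y).Ind v (Equiv.swap 0 1) := by
    intro v hv
    rcases k3 _ (hmem v hv) with h | h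
    · left
      have h5 := M₂.cj_ind (g := y) h
      rwa [hcj] at h5
    · right
      have h5 := M₂.cj_ind (g := y) h
      rwa [hcj] at h5
  have hex' : ∃ v ∈ V₁, (M₂.cj y).Ind v (Equiv.swap 0 1) := by
    obtain ⟨w, hw, hi⟩ := k4
    rw [mem_cj, inv_inv] at hw
    exact ⟨_, hw, M₂.cj_ind hi⟩
  refine ⟨M₁, M₂, hG, hS₁, hS₂, hz₁, hz₂, h1, h2, k1, k2, hle, hge, h3, h4, hact', hex', ?_⟩
  -- `n`
  obtain ⟨w, hw, hiw⟩ := h4
  obtain ⟨z, rfl⟩ := ((M₂.cj y).mem_iff w).1 hw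
  set x : Vec := ![1, 0, 0, 0, 0] with hx
  have hx1 : M₁.e (x ∘ (Equiv.swap 0 1 : Equiv.Perm (Fin 5)).symm + x) = M₁.e nn := by
    rw [M₁.e_eq_iff]; left; rw [hx]; decide
  have hix : (M₂.cj y).Ind (M₁.e x) (Equiv.swap 0 1) := by
    rcases hact' _ (M₁.e_mem x) with h | h
    · exfalso
      have h5 := mem_centralizer_iff.1 (FiveMod.ind_one_iff.1 h) _ hw
      have h6 := hiw.comm_eq x
      rw [hx1, h5] at h6
      apply Pos.n_ne M₁
      rw [← h6]; group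
    · exact h
  have h7 := comm_pair hix hiw
  rw [hx1] at h7
  rcases swap_nn z with h8 | h8
  · exfalso
    rw [((M₂.cj y).ker _).2 h8] at h7
    exact Pos.n_ne M₁ h7.symm
  · rw [(M₂.cj y).e_eq_iff.2 h8, M₂.cj_e] at h7
    exact h7

/-- (A) for `EvenSet`. -/
theorem exists_form_even [Finite G] (hG : IsCharacteristicTwoType G) (S : Sylow 2 G)
    {V₁ L₁ V₂ L₂ : Subgroup G} {ε₁ ε₂ : Vec → G} (N₁ : EvenSet 5 V₁ L₁ ε₁)
    (N₂ : EvenSet 5 V₂ L₂ ε₂)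
    (hS₁ : (S : Subgroup G) ≤ L₁) (hS₂ : (S : Subgroup G) ≤ L₂)
    (hz₁ : zc (S : Subgroup G) ≤ V₁) (hz₂ : zc (S : Subgroup G) ≤ V₂) {y : G}
    (hle : cj y V₂ ≤ (S : Subgroup G)) (hge : V₁ ≤ cj y (S : Subgroup G))
    (hne : ¬ cj y V₂ ≤ centralizer (V₁ : Set G)) :
    ∃ (M₁ : FiveMod V₁ L₁) (M₂ : FiveMod V₂ L₂), Form S M₁ M₂ y :=
  exists_form hG S (OfEven.ofEven N₁) (OfEven.ofEven N₂) hS₁ hS₂ hz₁ hz₂ hle hge hne

/-! ### (C) -/

/-- `V` is normalised by the Sylow 2-subgroup `S`, which induces `D₈ = C((0 1)(2 3))`, and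
`Ω₁(Z(S)) ≤ V`. -/
structure Fr (S : Sylow 2 G) {V L : Subgroup G} (M : FiveMod V L) : Prop where
  S_le : (S : Subgroup G) ≤ L
  zS : zc (S : Subgroup G) ≤ V
  d8 : ∀ g ∈ (S : Subgroup G), ∀ p, M.Ind g p → p * dd = dd * p
  d8' : ∀ p, p * dd = dd * p → ∃ g ∈ (S : Subgroup G), M.Ind g p

/-- `T = C_S(n)` -/
def TT (S : Sylow 2 G) {V L : Subgroup G} (M : FiveMod V L) : Subgroup G :=
  (S : Subgroup G) ⊓ centralizer ({M.e nn} : Set G)

theorem Form.fr₁ {S : Sylow 2 G} {V₁ L₁ V₂ L₂ : Subgroup G} {M₁ : FiveMod V₁ L₁}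
    {M₂ : FiveMod V₂ L₂} {y : G} (t : Form S M₁ M₂ y) : Fr S M₁ := ⟨t.S_le₁, t.zS₁, t.d8₁, t.d8₁'⟩

theorem Form.fr₂ {S : Sylow 2 G} {V₁ L₁ V₂ L₂ : Subgroup G} {M₁ : FiveMod V₁ L₁}
    {M₂ : FiveMod V₂ L₂} {y : G} (t : Form S M₁ M₂ y) : Fr S M₂ := ⟨t.S_le₂, t.zS₂, t.d8₂, t.d8₂'⟩

namespace Fr

open Pos

variable {S : Sylow 2 G} {V L : Subgroup G} {M : FiveMod V L} (t : Fr S M)
include t

theorem S_comm {g : G} (hg : g ∈ (S : Subgroup G)) : g * M.e ss = M.e ss * g := by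
  obtain ⟨p, hp⟩ := M.exists_ind (t.S_le hg)
  exact (hp.commute_iff _).2 (Or.inl (fix_ss p (t.d8 g hg p hp)))

theorem T_ind {g : G} (hg : g ∈ TT S M) : ∃ p, TTp p ∧ M.Ind g p := by
  obtain ⟨p, hp⟩ := M.exists_ind (t.S_le hg.1)
  exact ⟨p, ttp_of p (t.d8 g hg.1 p hp) ((hp.commute_iff _).1 (mem_C.1 hg.2)), hp⟩

/-- an element of `S` swapping `n` and `a` -/
theorem exists_swap : ∃ g ∈ (S : Subgroup G), M.Ind g tt := t.d8' tt (by decide)

theorem T_comm_a {g : G} (hg : g ∈ TT S M) : g * M.e aa = M.e aa * g := by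
  obtain ⟨p, hp, hi⟩ := t.T_ind hg
  exact (hi.commute_iff _).2 (Or.inl (ttp_aa p hp))

/-- `g ∈ S` swapping `n`, `a` normalises `T`. -/
theorem conj_T {g : G} (hgS : g ∈ (S : Subgroup G)) (hg : M.Ind g tt) {x : G}
    (hx : x ∈ TT S M) : g * x * g⁻¹ ∈ TT S M := by
  refine mem_inf.2 ⟨mul_mem (mul_mem hgS hx.1) (inv_mem hgS), mem_C.2 ?_⟩
  rw [← tt_a hg]
  calc g * x * g⁻¹ * (g * M.e aa * g⁻¹) = g * (x * M.e aa) * g⁻¹ := by group
    _ = g * (M.e aa * x) * g⁻¹ := by rw [t.T_comm_a hx]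
    _ = g * M.e aa * g⁻¹ * (g * x * g⁻¹) := by group

omit t in
theorem mem_T_of_ind {g : G} (hg : g ∈ (S : Subgroup G)) {p : Equiv.Perm (Fin 5)} (hp : TTp p)
    (hi : M.Ind g p) : g ∈ TT S M :=
  ⟨hg, mem_C.2 ((hi.commute_iff _).2 (Or.inl (ttp_nn p hp)))⟩

/-- `S = T ∪ T g`. -/
theorem mem_or {g : G} (hgS : g ∈ (S : Subgroup G)) (hg : M.Ind g tt) {x : G}
    (hx : x ∈ (S : Subgroup G)) : x ∈ TT S M ∨ x * g ∈ TT S M := by
  obtain ⟨p, hp⟩ := M.exists_ind (t.S_le hx)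
  rcases ttp_or p (t.d8 x hx p hp) with h1 | h1
  · exact Or.inl (mem_T_of_ind hx h1 hp)
  · exact Or.inr (mem_T_of_ind (mul_mem hx hgS) h1 (hp.mul hg))

/-- `Ω₁(Z(S)) ≤ ⟨s⟩`. -/
theorem zS_le {x : G} (hx : x ∈ zc (S : Subgroup G)) : x = 1 ∨ x = M.e ss :=
  zc_le_of M S t.zS t.d8' hx

theorem V_le_S : V ≤ (S : Subgroup G) := Types.V_le_S M S t.S_le

/-- `x ∈ zc T`, `x x^g = 1`, then `x ∈ zc S`. -/
theorem zT_aux {g : G} (hgS : g ∈ (S : Subgroup G)) (hg : M.Ind g tt) {x : G}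
    (hx : x ∈ zc (TT S M)) (h1 : x * (g * x * g⁻¹) = 1) : x ∈ zc (S : Subgroup G) := by
  obtain ⟨hxT, hxc, hx2⟩ := MinSimple.VModule.mem_zc.1 hx
  have hxx : x * x = 1 := by rw [← pow_two]; exact hx2
  have h2 : g * x * g⁻¹ = x := by
    have h3 := eq_inv_of_mul_eq_one_right h1
    rw [h3]
    exact inv_eq_of_mul_eq_one_left hxx
  have h3 : g * x = x * g := by rwa [mul_inv_eq_iff_eq_mul] at h2
  refine MinSimple.VModule.mem_zc.2 ⟨hxT.1, fun b hb => ?_, hx2⟩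
  rcases t.mem_or hgS hg hb with h4 | h4
  · exact hxc b h4
  · have h5 := hxc _ h4
    have h6 : b * x * g = x * b * g := by
      calc b * x * g = b * (x * g) := by group
        _ = b * (g * x) := by rw [h3]
        _ = b * g * x := by group
        _ = x * (b * g) := h5
        _ = x * b * g := by group
    exact mul_right_cancel h6

/-- `Ω₁(Z(T)) ≤ R = {1, n, a, s}`. -/
theorem zT_le {x : G} (hx : x ∈ zc (TT S M)) :
    x = 1 ∨ x = M.e nn ∨ x = M.e aa ∨ x = M.e ss := by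
  obtain ⟨g, hgS, hg⟩ := t.exists_swap
  obtain ⟨hxT, hxc, hx2⟩ := MinSimple.VModule.mem_zc.1 hx
  have hxx : x * x = 1 := by rw [← pow_two]; exact hx2
  have hgg : g * g ∈ TT S M := by
    refine mem_T_of_ind (mul_mem hgS hgS) (p := tt * tt) (by decide) (hg.mul hg)
  have hxg := t.conj_T hgS hg hxT
  -- `y = x x^g ∈ zc S`
  set y := x * (g * x * g⁻¹) with hy
  have hcomm : x * (g * x * g⁻¹) = g * x * g⁻¹ * x := (hxc _ hxg).symm
  have hgy : g * y = y * g := by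
    have h1 : g * g * x = x * (g * g) := hxc _ hgg
    calc g * y = (g * x * g⁻¹) * (g * g * x) * g⁻¹ := by rw [hy]; group
      _ = (g * x * g⁻¹) * (x * (g * g)) * g⁻¹ := by rw [h1]
      _ = ((g * x * g⁻¹) * x) * g := by group
      _ = y * g := by rw [← hcomm]
  have hyS : y ∈ (S : Subgroup G) := mul_mem hxT.1 hxg.1
  have hyc : ∀ b ∈ TT S M, b * y = y * b := by
    intro b hb
    have h1 := hxc b hb
    have h2 : g⁻¹ * b * g ∈ TT S M := by
      -- `g⁻¹ = g⁻² g`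
      have h3 := t.conj_T hgS hg hb
      have h4 := mul_mem (mul_mem (inv_mem hgg) h3) hgg
      have e : (g * g)⁻¹ * (g * b * g⁻¹) * (g * g) = g⁻¹ * b * g := by group
      rwa [e] at h4
    have h3 := hxc _ h2
    have h4 : b * (g * x * g⁻¹) = g * x * g⁻¹ * b := by
      calc b * (g * x * g⁻¹) = g * (g⁻¹ * b * g * x) * g⁻¹ := by group
        _ = g * (x * (g⁻¹ * b * g)) * g⁻¹ := by rw [h3]
        _ = g * x * g⁻¹ * b := by group
    calc b * y = (b * x) * (g * x * g⁻¹) := by rw [hy]; group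
      _ = x * (b * (g * x * g⁻¹)) := by rw [h1]; group
      _ = y * b := by rw [h4, hy]; group
  have hyz : y ∈ zc (S : Subgroup G) := by
    refine MinSimple.VModule.mem_zc.2 ⟨hyS, fun b hb => ?_, ?_⟩
    · rcases t.mem_or hgS hg hb with h4 | h4
      · exact hyc b h4
      · have h5 := hyc _ h4
        have h6 : b * y * g = y * b * g := by
          calc b * y * g = b * (y * g) := by group
            _ = b * (g * y) := by rw [hgy]
            _ = b * g * y := by group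
            _ = y * (b * g) := h5
            _ = y * b * g := by group
        exact mul_right_cancel h6
    · rw [pow_two]
      calc y * y = x * ((g * x * g⁻¹) * x) * (g * x * g⁻¹) := by rw [hy]; group
        _ = x * (x * (g * x * g⁻¹)) * (g * x * g⁻¹) := by rw [← hcomm]
        _ = (x * x) * (g * (x * x) * g⁻¹) := by group
        _ = 1 := by rw [hxx]; group
  rcases t.zS_le hyz with h1 | h1
  · rcases t.zS_le (t.zT_aux hgS hg hx h1) with h2 | h2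
    · exact Or.inl h2
    · exact Or.inr (Or.inr (Or.inr h2))
  · -- `x n`
    have hnT : M.e nn ∈ zc (TT S M) := by
      have hnS : M.e nn ∈ (S : Subgroup G) := t.V_le_S (M.e_mem nn)
      exact MinSimple.VModule.mem_zc.2 ⟨⟨hnS, mem_C.2 rfl⟩, fun _ hb => mem_C.1 hb.2, e_sq' M nn⟩
    have h2 : x * M.e nn * (g * (x * M.e nn) * g⁻¹) = 1 := by
      have h3 : x * M.e nn = M.e nn * x := mem_C.1 hxT.2
      have h4 : M.e nn * (g * x * g⁻¹) = g * x * g⁻¹ * M.e nn := (mem_C.1 hxg.2).symm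
      calc x * M.e nn * (g * (x * M.e nn) * g⁻¹) =
            x * (M.e nn * (g * x * g⁻¹)) * (g * M.e nn * g⁻¹) := by group
        _ = x * (g * x * g⁻¹) * (M.e nn * M.e aa) := by rw [h4, tt_n hg]; group
        _ = 1 := by rw [na, ← hy, h1, M.e_sq]
    rcases t.zS_le (t.zT_aux hgS hg (mul_mem hx hnT) h2) with h3 | h3
    · right; left
      have := congrArg (· * M.e nn) h3
      simpa [mul_assoc, M.e_sq] using this
    · right; right; left
      have := congrArg (· * M.e nn) h3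
      simpa [mul_assoc, M.e_sq, sn] using this

theorem S_le_normalizer_T [Finite G] : (S : Subgroup G) ≤ normalizer (TT S M : Set G) := by
  obtain ⟨g, hgS, hg⟩ := t.exists_swap
  have h1 : g ∈ normalizer (TT S M : Set G) := by
    refine mem_normalizer_of_cj_le ?_
    rintro _ ⟨x, hx, rfl⟩
    exact t.conj_T hgS hg hx
  intro x hx
  rcases t.mem_or hgS hg hx with h2 | h2
  · exact Subgroup.le_normalizer h2
  · have h3 := mul_mem (Subgroup.le_normalizer h2) (inv_mem h1)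
    have e : x * g * g⁻¹ = x := by group
    rwa [e] at h3

theorem n_mem_zT : M.e nn ∈ zc (TT S M) :=
  MinSimple.VModule.mem_zc.2 ⟨⟨t.V_le_S (M.e_mem nn), mem_C.2 rfl⟩, fun _ hb => mem_C.1 hb.2,
    e_sq' M nn⟩

theorem s_mem_zT : M.e ss ∈ zc (TT S M) :=
  MinSimple.VModule.mem_zc.2 ⟨⟨t.V_le_S (M.e_mem ss), mem_C.2 (M.e_comm _ _)⟩,
    fun _ hb => t.S_comm hb.1, e_sq' M ss⟩

theorem a_mem_zT : M.e aa ∈ zc (TT S M) := by
  rw [← ns M]
  exact mul_mem t.n_mem_zT t.s_mem_zT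

/-- the elements of `N_G(T)` permute `n, a, s` -/
theorem conj_R [Finite G] {y : G} (hy : y ∈ normalizer (TT S M : Set G)) {x : G}
    (hx : x ∈ zc (TT S M)) (hx1 : x ≠ 1) :
    y * x * y⁻¹ = M.e nn ∨ y * x * y⁻¹ = M.e aa ∨ y * x * y⁻¹ = M.e ss := by
  have h1 := (mem_normalizer_iff.1 (MinSimple.VModule.normalizer_le_normalizer_zc _ hy) x).1 hx
  rcases t.zT_le h1 with h2 | h2
  · exfalso
    apply hx1
    have := congrArg (fun w => y⁻¹ * w * y) h2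
    simpa [mul_assoc] using this
  · exact h2

/-- `|S : T| = 2` -/
theorem card_T [Finite G] : Nat.card (S : Subgroup G) = 2 * Nat.card (TT S M) := by
  obtain ⟨g, hgS, hg⟩ := t.exists_swap
  have h1 : (TT S M).relIndex (S : Subgroup G) = 2 := by
    rw [relIndex, index_eq_two_iff]
    refine ⟨⟨g, hgS⟩, fun b => ?_⟩
    rw [mem_subgroupOf, mem_subgroupOf]
    change Xor ((b : G) * g ∈ TT S M) ((b : G) ∈ TT S M)
    by_cases hb : (b : G) ∈ TT S M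
    · refine Or.inr ⟨hb, fun h2 => ?_⟩
      have h3 := mul_mem (inv_mem hb) h2
      have e : (b : G)⁻¹ * (b * g) = g := by group
      rw [e] at h3
      have h4 := tt_n hg
      rw [mem_C.1 h3.2] at h4
      apply n_ne_a M
      rw [← h4]; group
    · refine Or.inl ⟨?_, hb⟩
      exact (t.mem_or hgS hg b.2).resolve_left hb
  have h2 := Subgroup.relIndex_mul_relIndex ⊥ (TT S M) (S : Subgroup G) bot_le inf_le_left
  rw [relIndex_bot_left, relIndex_bot_left, h1] at h2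
  rw [← h2, mul_comm]

/-- If `n` is not 2-central, then `T` is a maximal 2-subgroup of `C_G(n)`. -/
theorem max_T [Finite G] (nc : ∀ P : Sylow 2 G, ¬ (P : Subgroup G) ≤ centralizer ({M.e nn} : Set G))
    {U : Subgroup G} (hU : IsPGroup 2 U) (hTU : TT S M ≤ U)
    (hUn : U ≤ centralizer ({M.e nn} : Set G)) : U ≤ TT S M := by
  have : Fact (Nat.Prime 2) := ⟨Nat.prime_two⟩
  by_contra hne
  obtain ⟨P, hP⟩ := hU.exists_le_sylow
  have h1 : Nat.card P = Nat.card S := Nat.card_congr (Sylow.equiv P S).toEquiv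
  have h2 : Nat.card U ∣ Nat.card P := card_dvd_of_le hP
  have h3 : Nat.card (TT S M) ∣ Nat.card U := card_dvd_of_le hTU
  have h4 := t.card_T
  have h5 : Nat.card U ≠ Nat.card (TT S M) := by
    intro h
    apply hne
    rw [Subgroup.eq_of_le_of_card_ge hTU h.le]
  obtain ⟨c, hc⟩ := h3
  have hTpos : 0 < Nat.card (TT S M) := Nat.card_pos
  have hc2 : 2 ≤ c := by
    by_contra hlt
    have : c = 0 ∨ c = 1 := by omega
    rcases this with rfl | rfl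
    · have : 0 < Nat.card U := Nat.card_pos
      rw [hc, mul_zero] at this
      exact lt_irrefl _ this
    · exact h5 (by rw [hc, mul_one])
  have h6 : Nat.card P ≤ Nat.card U := by
    rw [h1, h4, hc, mul_comm]
    exact Nat.mul_le_mul_left _ hc2
  have h7 := Subgroup.eq_of_le_of_card_ge hP h6
  exact nc P (h7 ▸ hUn)

end Fr

/-- A maximal 2-subgroup `T` of `C` contains a `C`-conjugate of each 2-subgroup of `C`. -/
theorem exists_conj_le_max [Finite G] {C T X : Subgroup G} (hT : IsPGroup 2 T) (hTC : T ≤ C)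
    (hm : ∀ U : Subgroup G, IsPGroup 2 U → T ≤ U → U ≤ C → U ≤ T) (hX : IsPGroup 2 X) (hXC : X ≤ C) :
    ∃ c ∈ C, cj c X ≤ T := by
  have : Fact (Nat.Prime 2) := ⟨Nat.prime_two⟩
  have hX' : IsPGroup 2 (X.subgroupOf C) := hX.comap_subtype
  have hT' : IsPGroup 2 (T.subgroupOf C) := hT.comap_subtype
  obtain ⟨S1, hS1⟩ := hX'.exists_le_sylow
  obtain ⟨S2, hS2⟩ := hT'.exists_le_sylow
  have hS2T : ((S2 : Subgroup C).map C.subtype) ≤ T := by
    refine hm _ (S2.isPGroup'.map _) ?_ ?_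
    · intro x hx
      exact ⟨⟨x, hTC hx⟩, hS2 (mem_subgroupOf.2 hx), rfl⟩
    · rintro _ ⟨x, -, rfl⟩
      exact x.2
  obtain ⟨c, hc⟩ := MulAction.exists_smul_eq C S1 S2
  refine ⟨c, c.2, ?_⟩
  rintro _ ⟨x, hx, rfl⟩
  have h1 : (⟨x, hXC hx⟩ : C) ∈ (S1 : Subgroup C) := hS1 (mem_subgroupOf.2 hx)
  have h2 : c * ⟨x, hXC hx⟩ * c⁻¹ ∈ ((c • S1 : Sylow 2 C) : Subgroup C) := by
    rw [Sylow.coe_subgroup_smul]
    exact Subgroup.smul_mem_pointwise_smul _ (MulAut.conj c) _ h1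
  rw [hc] at h2
  exact hS2T ⟨_, h2, rfl⟩

/-- **(C)** `n` not 2-central: `y = h k`, `h ∈ C_G(n)`, `k ∈ N_G(S)`, and `V₂ ^ k` has the same `n`,
`a` as `V₁`. -/
theorem Form.exists_nc [Finite G] {S : Sylow 2 G} {V₁ L₁ V₂ L₂ : Subgroup G} {M₁ : FiveMod V₁ L₁}
    {M₂ : FiveMod V₂ L₂} {y : G} (t : Form S M₁ M₂ y)
    (nc : ∀ P : Sylow 2 G, ¬ (P : Subgroup G) ≤ centralizer ({M₁.e nn} : Set G)) :
    ∃ k ∈ normalizer ((S : Subgroup G) : Set G), ∃ h : G, h * M₁.e nn = M₁.e nn * h ∧ y = h * k ∧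
      k * M₂.e nn * k⁻¹ = M₁.e nn ∧ k * M₂.e aa * k⁻¹ = M₁.e aa := by
  have f₁ := t.fr₁
  have f₂ := t.fr₂
  set C := centralizer ({M₁.e nn} : Set G) with hC
  have hT'C : cj y (TT S M₂) ≤ C := by
    rintro _ ⟨x, hx, rfl⟩
    change y * x * y⁻¹ ∈ C
    rw [hC, Pos.mem_C, ← t.hn]
    have h1 := Pos.mem_C.1 hx.2
    calc y * x * y⁻¹ * (y * M₂.e nn * y⁻¹) = y * (x * M₂.e nn) * y⁻¹ := by group
      _ = y * (M₂.e nn * x) * y⁻¹ := by rw [h1]
      _ = y * M₂.e nn * y⁻¹ * (y * x * y⁻¹) := by group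
  have hTp : ∀ {V L : Subgroup G} (M : FiveMod V L), IsPGroup 2 (TT S M) :=
    fun M => S.isPGroup'.to_le inf_le_left
  obtain ⟨c, hcC, hc⟩ := exists_conj_le_max (hTp M₁) inf_le_right
    (fun U hU h1 h2 => f₁.max_T nc hU h1 h2) (isPGroup_cj y (hTp M₂)) hT'C
  have hcn : c * M₁.e nn = M₁.e nn * c := Pos.mem_C.1 hcC
  have hTeq : cj (c * y) (TT S M₂) = TT S M₁ := by
    rw [← cj_cj]
    refine Subgroup.eq_of_le_of_card_ge hc ?_
    rw [card_cj, card_cj]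
    have h1 := f₁.card_T
    have h2 := f₂.card_T
    omega
  -- `S ^ (c y)` normalises `T`
  have hSN : cj (c * y) (S : Subgroup G) ≤ normalizer (TT S M₁ : Set G) := by
    rw [← hTeq, ← cj_normalizer]
    exact cj_mono _ f₂.S_le_normalizer_T
  obtain ⟨m, hm, hmS⟩ := exists_conj_le_sylow S _ _ f₁.S_le_normalizer_T
    (isPGroup_cj (c * y) S.isPGroup') hSN
  have hmyS : ∀ m' : G, (∀ x ∈ cj (c * y) (S : Subgroup G), m' * x * m'⁻¹ ∈ (S : Subgroup G)) →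
      m' * (c * y) ∈ normalizer ((S : Subgroup G) : Set G) := by
    intro m' h1
    refine mem_normalizer_of_cj_le ?_
    rintro _ ⟨x, hx, rfl⟩
    have h2 := h1 _ ⟨x, hx, rfl⟩
    change m' * (c * y) * x * (m' * (c * y))⁻¹ ∈ (S : Subgroup G)
    have e : m' * (c * y) * x * (m' * (c * y))⁻¹ = m' * (c * y * x * (c * y)⁻¹) * m'⁻¹ := by group
    rw [e]
    exact h2
  -- 2-central elements
  have hno : ∀ g : G, g * M₁.e ss * g⁻¹ ≠ M₁.e nn := by
    intro g hg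
    apply nc (g • S)
    intro x hx
    have hx' : x ∈ cj g (S : Subgroup G) := by
      rw [Sylow.coe_subgroup_smul] at hx
      exact hx
    obtain ⟨w, hw, rfl⟩ := hx'
    rw [Pos.mem_C, ← hg]
    have h1 := f₁.S_comm hw
    change g * w * g⁻¹ * (g * M₁.e ss * g⁻¹) = g * M₁.e ss * g⁻¹ * (g * w * g⁻¹)
    calc g * w * g⁻¹ * (g * M₁.e ss * g⁻¹) = g * (w * M₁.e ss) * g⁻¹ := by group
      _ = g * (M₁.e ss * w) * g⁻¹ := by rw [h1]
      _ = g * M₁.e ss * g⁻¹ * (g * w * g⁻¹) := by group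
  obtain ⟨g0, hg0, hi0⟩ := f₁.exists_swap
  have hms : m * M₁.e ss * m⁻¹ = M₁.e ss := by
    rcases f₁.conj_R hm f₁.s_mem_zT (Pos.s_ne M₁) with h1 | h1 | h1
    · exact absurd h1 (hno m)
    · exfalso
      apply hno (g0 * m)
      calc g0 * m * M₁.e ss * (g0 * m)⁻¹ = g0 * (m * M₁.e ss * m⁻¹) * g0⁻¹ := by group
        _ = M₁.e nn := by rw [h1, Pos.tt_a hi0]
    · exact h1
  have hmn : m * M₁.e nn * m⁻¹ = M₁.e nn ∨ m * M₁.e nn * m⁻¹ = M₁.e aa := by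
    rcases f₁.conj_R hm f₁.n_mem_zT (Pos.n_ne M₁) with h1 | h1 | h1
    · exact Or.inl h1
    · exact Or.inr h1
    · exfalso
      rw [← hms] at h1
      exact Pos.n_ne_s M₁ (mul_left_cancel (mul_right_cancel h1))
  -- the element `m'`
  have hex : ∃ m' : G, m' * M₁.e nn = M₁.e nn * m' ∧
      ∀ x ∈ cj (c * y) (S : Subgroup G), m' * x * m'⁻¹ ∈ (S : Subgroup G) := by
    rcases hmn with h1 | h1
    · exact ⟨m, by rwa [mul_inv_eq_iff_eq_mul] at h1, hmS⟩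
    · refine ⟨g0 * m, ?_, fun x hx => ?_⟩
      · rw [← mul_inv_eq_iff_eq_mul]
        calc g0 * m * M₁.e nn * (g0 * m)⁻¹ = g0 * (m * M₁.e nn * m⁻¹) * g0⁻¹ := by group
          _ = M₁.e nn := by rw [h1, Pos.tt_a hi0]
      · have e : g0 * m * x * (g0 * m)⁻¹ = g0 * (m * x * m⁻¹) * g0⁻¹ := by group
        rw [e]
        exact mul_mem (mul_mem hg0 (hmS x hx)) (inv_mem hg0)
  obtain ⟨m', hm'n, hm'S⟩ := hex
  have hkN := hmyS m' hm'S
  have hkn : m' * (c * y) * M₂.e nn * (m' * (c * y))⁻¹ = M₁.e nn := by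
    calc m' * (c * y) * M₂.e nn * (m' * (c * y))⁻¹ =
          m' * (c * (y * M₂.e nn * y⁻¹) * c⁻¹) * m'⁻¹ := by group
      _ = m' * (M₁.e nn * c * c⁻¹) * m'⁻¹ := by rw [t.hn, hcn]
      _ = (m' * M₁.e nn) * m'⁻¹ := by group
      _ = M₁.e nn := by rw [hm'n]; group
  have hks : m' * (c * y) * M₂.e ss * (m' * (c * y))⁻¹ = M₁.e ss := by
    have h1 := (mem_normalizer_iff.1 (MinSimple.VModule.normalizer_le_normalizer_zc _ hkN) _).1
      (s_mem_zc M₂ S t.S_le₂ t.d8₂)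
    rcases f₁.zS_le h1 with h2 | h2
    · exfalso
      apply Pos.s_ne M₂
      have := congrArg (fun w => (m' * (c * y))⁻¹ * w * (m' * (c * y))) h2
      simpa [mul_assoc] using this
    · exact h2
  refine ⟨m' * (c * y), hkN, (m' * c)⁻¹, ?_, by group, hkn, ?_⟩
  · have h1 : (m' * c) * M₁.e nn = M₁.e nn * (m' * c) := by
      calc (m' * c) * M₁.e nn = m' * (c * M₁.e nn) := by group
        _ = (m' * M₁.e nn) * c := by rw [hcn]; group
        _ = M₁.e nn * (m' * c) := by rw [hm'n]; group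
    calc (m' * c)⁻¹ * M₁.e nn = (m' * c)⁻¹ * (M₁.e nn * (m' * c)) * (m' * c)⁻¹ := by group
      _ = (m' * c)⁻¹ * ((m' * c) * M₁.e nn) * (m' * c)⁻¹ := by rw [h1]
      _ = M₁.e nn * (m' * c)⁻¹ := by group
  · rw [← Pos.ns M₂, ← Pos.ns M₁]
    calc m' * (c * y) * (M₂.e nn * M₂.e ss) * (m' * (c * y))⁻¹ =
          (m' * (c * y) * M₂.e nn * (m' * (c * y))⁻¹) *
            (m' * (c * y) * M₂.e ss * (m' * (c * y))⁻¹) := by group
      _ = M₁.e nn * M₁.e ss := by rw [hkn, hks]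

/-- The T-T configuration, `n` not 2-central: `V₁`, `V₂` normalised by `S`, with the same `n`, `a`,
`s`, and `h ∈ C_G(n)` with `(V₁, V₂ ^ h)` a T-T pair with commutator `⟨n⟩`. -/
structure Nc (S : Sylow 2 G) {V₁ L₁ V₂ L₂ : Subgroup G} (M₁ : FiveMod V₁ L₁) (M₂ : FiveMod V₂ L₂)
    (h : G) : Prop where
  two : IsCharacteristicTwoType G
  S_le₁ : (S : Subgroup G) ≤ L₁
  S_le₂ : (S : Subgroup G) ≤ L₂
  d8₁ : ∀ g ∈ (S : Subgroup G), ∀ p, M₁.Ind g p → p * dd = dd * p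
  d8₂ : ∀ g ∈ (S : Subgroup G), ∀ p, M₂.Ind g p → p * dd = dd * p
  d8₁' : ∀ p, p * dd = dd * p → ∃ g ∈ (S : Subgroup G), M₁.Ind g p
  d8₂' : ∀ p, p * dd = dd * p → ∃ g ∈ (S : Subgroup G), M₂.Ind g p
  zS₁ : zc (S : Subgroup G) ≤ V₁
  zS₂ : zc (S : Subgroup G) ≤ V₂
  en : M₂.e nn = M₁.e nn
  ea : M₂.e aa = M₁.e aa
  hn : h * M₁.e nn = M₁.e nn * h
  le : cj h V₂ ≤ (S : Subgroup G)
  ge : V₁ ≤ cj h (S : Subgroup G)
  act : ∀ v ∈ cj h V₂, M₁.Ind v 1 ∨ M₁.Ind v (Equiv.swap 0 1)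
  ex : ∃ v ∈ cj h V₂, M₁.Ind v (Equiv.swap 0 1)
  act' : ∀ v ∈ V₁, (M₂.cj h).Ind v 1 ∨ (M₂.cj h).Ind v (Equiv.swap 0 1)
  ex' : ∃ v ∈ V₁, (M₂.cj h).Ind v (Equiv.swap 0 1)
  nc : ∀ P : Sylow 2 G, ¬ (P : Subgroup G) ≤ centralizer ({M₁.e nn} : Set G)

theorem Form.nc [Finite G] {S : Sylow 2 G} {V₁ L₁ V₂ L₂ : Subgroup G} {M₁ : FiveMod V₁ L₁}
    {M₂ : FiveMod V₂ L₂} {y : G} (t : Form S M₁ M₂ y)
    (nc : ∀ P : Sylow 2 G, ¬ (P : Subgroup G) ≤ centralizer ({M₁.e nn} : Set G)) :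
    ∃ k ∈ normalizer ((S : Subgroup G) : Set G), ∃ h : G, y = h * k ∧ Nc S M₁ (M₂.cj k) h := by
  obtain ⟨k, hk, h, hhn, hy, hkn, hka⟩ := t.exists_nc nc
  have hcjS : cj k (S : Subgroup G) = (S : Subgroup G) := cj_eq_of_mem_normalizer hk
  have hcjV : ∀ X : Subgroup G, cj h (cj k X) = cj y X := by
    intro X; rw [cj_cj, hy]
  have hS' : cj h (S : Subgroup G) = cj y (S : Subgroup G) := by
    rw [← hcjV, hcjS]
  have hmem : ∀ g ∈ (S : Subgroup G), k⁻¹ * g * k ∈ (S : Subgroup G) := by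
    intro g hg
    have h1 := (mem_normalizer_iff.1 (inv_mem hk) g).1 hg
    rwa [inv_inv] at h1
  have hind : ∀ {v : G} {p : Equiv.Perm (Fin 5)}, (M₂.cj y).Ind v p →
      ((M₂.cj k).cj h).Ind v p := by
    intro v p hp x
    have h1 := hp x
    rw [M₂.cj_e, M₂.cj_e] at h1
    change v * (h * (k * M₂.e x * k⁻¹) * h⁻¹) * v⁻¹ = h * (k * M₂.e (x ∘ p.symm) * k⁻¹) * h⁻¹
    have e : ∀ z : G, h * (k * z * k⁻¹) * h⁻¹ = y * z * y⁻¹ := by
      intro z; rw [hy]; group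
    rw [e, e]
    exact h1
  refine ⟨k, hk, h, hy, t.two, t.S_le₁, ?_, t.d8₁, ?_, t.d8₁', ?_, t.zS₁, ?_, hkn, hka, hhn, ?_, ?_,
    ?_, ?_, ?_, ?_, nc⟩
  · rw [← hcjS]; exact cj_mono k t.S_le₂
  · intro g hg p hp
    exact t.d8₂ _ (hmem g hg) p (FiveMod.ind_of_cj M₂ hp)
  · intro p hp
    obtain ⟨g, hg, hi⟩ := t.d8₂' p hp
    refine ⟨k * g * k⁻¹, ?_, M₂.cj_ind hi⟩
    rw [← hcjS]
    exact ⟨g, hg, rfl⟩
  · intro x hx
    rw [mem_cj]
    apply t.zS₂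
    have h1 := (mem_normalizer_iff.1 (MinSimple.VModule.normalizer_le_normalizer_zc _ (inv_mem hk)) x).1 hx
    rwa [inv_inv] at h1
  · rw [hcjV]; exact t.le
  · rw [hS']; exact t.ge
  · rw [hcjV]; exact t.act
  · rw [hcjV]; exact t.ex
  · intro v hv
    rcases t.act' v hv with h1 | h1
    · exact Or.inl (hind h1)
    · exact Or.inr (hind h1)
  · obtain ⟨v, hv, h1⟩ := t.ex'
    exact ⟨v, hv, hind h1⟩

end Cfsg.Agent.Omega.S5.TTform
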