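import Cfsg.Agent.Omega.NSix.HT.EndMain
import Cfsg.Agent.Omega.NTwo.Zero
import Cfsg.Agent.Omega.TTn.Beta
import Cfsg.Agent.Omega.S5.NatBig

/-!
# OMEGA II.c: `S5.Main.NatBig` does not occur; the leaf II.c is closed  (helper629)

`V` the even-subset module of degree `2^m + 1 ≥ 9`, `V'` a natural four-group, `b ∈ V'` acts on `V` as `(i j)`.

* `rr_conj` : `r_ij = y z_0 y⁻¹`, so `y S y⁻¹ ≤ C_G(r_ij)`;
* `mov` : `[O₂(C_G(r_ij)), b] ≤ ⟨r_ij⟩`, so `V` satisfies `NSix.Engine.Hyp`;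
* `h2` : (H2) holds (`NSix.HT.EndMain.false_of`), so `C_G(r_ij) ≤ N_G(V)` (`NSix.EndL`), but `r_ij` is centralised by
  no Sylow 2-subgroup of `N_G(V)`: `natBig_false`;
* `natBig K`, `leafC K : FrameMulti.LeafC K` for every class `K`: no node N2, no (ML), no THEOREM SN.
-/

set_option autoImplicit false

namespace Cfsg.Agent.Omega.S5.NatZero

open Subgroup Pointwise Cfsg Cfsg.Agent.Omega.MinPar
open Cfsg.Agent.ZN (o2 zc zl)
open Cfsg.Agent.ZN.ChoiceBase (cj mem_cj cj_mono isPGroup_cj)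
open Cfsg.Agent.ZN.ChoiceSit (syl_conj)
open Cfsg.Agent.ZN.CaseTwo (syl_of_sylow)
open Cfsg.Agent.MinSimple.VModule (le_normalizer_zl zc_le_zl o2_isPGroup o2_le o2_le_of_sylow mem_zc)
open Cfsg.Agent.Omega.Frame
open Cfsg.Agent.Omega.S5.Def Cfsg.Agent.Omega.S5.Syl Cfsg.Agent.Omega.S5.Pair Cfsg.Agent.Omega.S5.Main
open Cfsg.Agent.Omega.NSix.Base Cfsg.Agent.Omega.NSix.Basic
open Cfsg.Agent.Omega.NSix.Zero (WP mem_WP)
open Cfsg.Agent.Omega.NSix.Engine (Hyp D4)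
open Cfsg.Agent.Omega.S5.SymBig (H2)

universe u

variable {G : Type u} [Group G]

/-- The point `z_0` is not a pair. -/
theorem rr_ne_zz {n : ℕ} {V P : Subgroup G} {ε : (Fin n → ZMod 2) → G} (h : EvenSet n V P ε) (hn : 5 ≤ n)
    (i j k : Fin n) : rr ε i j ≠ zz ε k := by
  classical
  intro h0
  have h1 : ε (Pi.single i 1 + Pi.single j 1 + Pi.single k 1) = 1 := by
    rw [h.add, h.add]
    change rr ε i j * zz ε k = 1
    rw [h0, zz_sq h]
  obtain ⟨l, hl⟩ : ∃ l : Fin n, l ∉ ({i, j, k} : Finset (Fin n)) := by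
    by_contra hcon
    push Not at hcon
    have h8 : (Finset.univ : Finset (Fin n)) ⊆ {i, j, k} := fun l _ => hcon l
    have h9 := Finset.card_le_card h8
    have h10 : ({i, j, k} : Finset (Fin n)).card ≤ 3 := Finset.card_le_three
    rw [Finset.card_univ, Fintype.card_fin] at h9
    omega
  simp only [Finset.mem_insert, Finset.mem_singleton, not_or] at hl
  have h2 : (Pi.single i 1 + Pi.single j 1 + Pi.single k 1 : Fin n → ZMod 2) l = 0 := by
    simp only [Pi.add_apply]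
    rw [Pi.single_eq_of_ne hl.1, Pi.single_eq_of_ne hl.2.1, Pi.single_eq_of_ne hl.2.2]
    rfl
  rcases (h.ker _).1 h1 with h3 | h3
  · have h4 := congrArg (fun x : Fin n → ZMod 2 => ∑ l, x l) h3
    simp only [Pi.add_apply, Finset.sum_add_distrib, Finset.sum_pi_single', Finset.mem_univ,
      if_true, Pi.zero_apply, Finset.sum_const_zero] at h4
    revert h4; decide
  · have h4 := congrFun h3 l
    rw [h2, Pi.one_apply] at h4
    exact zero_ne_one h4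

variable [Finite G] {S : Sylow 2 G} {P₁ P₂ : Subgroup G} {y : G} {m : ℕ} {ε : (Fin (2 ^ m + 1) → ZMod 2) → G}

/-- `Ω₁(Z(S)) = ⟨z_0⟩` -/
theorem zc_cases (hm : 2 ≤ m) (hl : Lab S P₁ P₂ y m ε) {x : G} (hx : x ∈ zc (S : Subgroup G)) :
    x = 1 ∨ x = zz ε 0 :=
  S5.Syl.fixed (by omega) hl.even hl.pair.star₁.le (MinSimple.Basic.not_dvd_relIndex S hl.pair.star₁.le) hl.fix0
    (zc_le_zl _ _ hx) fun s hs => (mem_zc.mp hx).2.1 s hs

theorem zz_comm_S (hm : 2 ≤ m) (hl : Lab S P₁ P₂ y m ε) : ∀ s ∈ (S : Subgroup G), s * zz ε 0 = zz ε 0 * s := by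
  have hn3 : 3 ≤ 2 ^ m + 1 := three_le (by omega)
  intro s hs
  obtain ⟨σ, hσ⟩ := hl.even.perm s (hl.pair.star₁.le hs)
  exact (hl.even.fixes_iff hn3 hσ 0).2 (hl.fix0 s hs σ hσ)

theorem zc_ne (hG : IsCharacteristicTwoType G) (hm : 2 ≤ m) (hl : Lab S P₁ P₂ y m ε) : zc (S : Subgroup G) ≠ ⊥ := by
  have hn3 : 3 ≤ 2 ^ m + 1 := three_le (by omega)
  have hVS : zl (S : Subgroup G) P₁ ≤ (S : Subgroup G) :=
    (hl.pair.star₁.isLoc.zl_le S hG).trans ((MinSimple.VModule.zc_le _).trans (hl.pair.star₁.isLoc.o2_le S))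
  have hzz : zz ε 0 ∈ zc (S : Subgroup G) :=
    mem_zc.mpr ⟨hVS (zz_mem hl.even 0), zz_comm_S hm hl, by rw [pow_two]; exact zz_sq hl.even 0⟩
  intro h0
  rw [h0, mem_bot] at hzz
  exact hl.even.single_ne_one hn3 0 hzz

/-- some `b ∈ V'` acts as `(i j)`, `r_ij = y z_0 y⁻¹` -/
theorem exists_b (hG : IsCharacteristicTwoType G) (hm : 2 ≤ m) (hl : Lab S P₁ P₂ y m ε)
    (h4 : Nat.card (zl (S : Subgroup G) P₂) = 4) :
    ∃ b ∈ cj y (zl (S : Subgroup G) P₂), ∃ i j, i ≠ j ∧ Acts ε b (Equiv.swap i j) ∧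
      rr ε i j = y * zz ε 0 * y⁻¹ := by
  have h := hl.even
  have hn3 : 3 ≤ 2 ^ m + 1 := three_le (by omega)
  obtain ⟨b, hb, i, j, hij, hbs⟩ := S5.Nat.exists_swap h hl.side hl.off₁.ne
  have hb' := mem_cj.mp hb
  refine ⟨b, hb, i, j, hij, hbs, ?_⟩
  have h1 : b * zz ε i * b⁻¹ = zz ε j := by
    have := hbs.single i
    rwa [Equiv.swap_apply_left] at this
  have h2 : rr ε i j = zz ε i * b * (zz ε i)⁻¹ * b⁻¹ := by
    unfold NSix.Base.rr
    rw [← h1, zz_inv h]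
    group
  have h3 : y⁻¹ * zz ε i * y ∈ (S : Subgroup G) := mem_cj.mp (hl.ge (zz_mem h i))
  have h5 := S5.NatBig.comm_mem_zc h4 (zc_ne hG hm hl) (zc_le_zl _ _)
    (hl.pair.star₂.le.trans (le_normalizer_zl _ _)) h3 hb'
  have h6 : y⁻¹ * rr ε i j * y =
      y⁻¹ * zz ε i * y * (y⁻¹ * b * y) * (y⁻¹ * zz ε i * y)⁻¹ * (y⁻¹ * b * y)⁻¹ := by
    rw [h2]; group
  rw [← h6] at h5
  have h7 : y⁻¹ * rr ε i j * y = zz ε 0 := by
    refine (zc_cases hm hl h5).resolve_left fun h0 => ?_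
    apply NSix.Basic.rr_ne_one h hn3 hij
    calc rr ε i j = y * (y⁻¹ * rr ε i j * y) * y⁻¹ := by group
      _ = 1 := by rw [h0, mul_one, mul_inv_cancel]
  rw [← h7]
  group

/-- `y S y⁻¹ ≤ C_G(r_ij)` -/
theorem cj_le_NN (hm : 2 ≤ m) (hl : Lab S P₁ P₂ y m ε) {i j : Fin (2 ^ m + 1)}
    (hr : rr ε i j = y * zz ε 0 * y⁻¹) : cj y (S : Subgroup G) ≤ NN ε i j := by
  intro s hs
  rw [mem_NN, hr]
  have h1 := zz_comm_S hm hl _ (mem_cj.mp hs)
  calc s * (y * zz ε 0 * y⁻¹) = y * (y⁻¹ * s * y * zz ε 0) * y⁻¹ := by group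
    _ = y * (zz ε 0 * (y⁻¹ * s * y)) * y⁻¹ := by rw [h1]
    _ = y * zz ε 0 * y⁻¹ * s := by group

/-- `[O₂(C_G(r_ij)), b] ≤ ⟨r_ij⟩` for `b ∈ V'` -/
theorem mem_WP_of (hG : IsCharacteristicTwoType G) (hm : 2 ≤ m) (hl : Lab S P₁ P₂ y m ε)
    (h4 : Nat.card (zl (S : Subgroup G) P₂) = 4) {i j : Fin (2 ^ m + 1)} (hr : rr ε i j = y * zz ε 0 * y⁻¹)
    {b : G} (hb : b ∈ cj y (zl (S : Subgroup G) P₂)) : b ∈ WP ε i j := by
  have hV'S : zl (S : Subgroup G) P₂ ≤ (S : Subgroup G) :=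
    (hl.pair.star₂.isLoc.zl_le S hG).trans ((MinSimple.VModule.zc_le _).trans (hl.pair.star₂.isLoc.o2_le S))
  rw [mem_WP]
  refine ⟨cj_le_NN hm hl hr (cj_mono y hV'S hb), fun q hq => ?_⟩
  have hq' : q ∈ cj y (S : Subgroup G) := by
    have h1 : cj y (S : Subgroup G) = ((y • S : Sylow 2 G) : Subgroup G) := (NSix.NoTk.coe_smul S y).symm
    have h2 : ¬ 2 ∣ (cj y (S : Subgroup G)).relIndex (NN ε i j) := by
      rw [h1]
      exact MinSimple.Basic.not_dvd_relIndex _ (by rw [← h1]; exact cj_le_NN hm hl hr)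
    refine o2_le_of_sylow ?_ h2 hq
    rw [h1]
    exact (y • S : Sylow 2 G).isPGroup'
  have h3 := mem_cj.mp hq'
  have h5 := S5.NatBig.comm_mem_zc h4 (zc_ne hG hm hl) (zc_le_zl _ _)
    (hl.pair.star₂.le.trans (le_normalizer_zl _ _)) h3 (mem_cj.mp hb)
  have h6 : b * q * b⁻¹ * q⁻¹ = y * (y⁻¹ * q * y * (y⁻¹ * b * y) * (y⁻¹ * q * y)⁻¹ * (y⁻¹ * b * y)⁻¹)⁻¹ * y⁻¹ := by
    group
  rw [h6]
  rcases zc_cases hm hl h5 with h7 | h7
  · rw [h7, inv_one, mul_one, mul_inv_cancel]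
    exact one_mem _
  · rw [h7, zz_inv hl.even, ← hr]
    exact mem_zpowers _

/-- `Engine.Hyp` -/
theorem hyp (hG : IsCharacteristicTwoType G) (hm : 3 ≤ m) (hl : Lab S P₁ P₂ y m ε)
    (h4 : Nat.card (zl (S : Subgroup G) P₂) = 4) : Hyp (zl (S : Subgroup G) P₁) P₁ ε := by
  have hs : NSix.AllFacts.Sit S (zl (S : Subgroup G) P₁) P₁ ε :=
    ⟨hG, hm, hl.even, hl.pair.star₁.le, hl.fix0, zc_le_zl _ _⟩
  obtain ⟨b, hb, i, j, hij, hbs, hr⟩ := exists_b hG (by omega) hl h4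
  refine Hyp.of hG (five_le (by omega)) (Even.add_one (Nat.even_pow.mpr ⟨even_two, by omega⟩)) hl.even S
    hl.pair.star₁.le (zc_le_zl _ _) (fun i j k hij hki hkj q hq => hs.pair hij hki hkj hq)
    (fun i j hij => hs.o2_le_P hij) ⟨i, j, hij, b, mem_WP_of hG (by omega) hl h4 hr hb, ?_, ?_⟩
  · have h5 : b * b = 1 := by
      have h6 := MinSimple.VModule.mem_zc.mp (hl.pair.star₂.isLoc.zl_le S hG (mem_cj.mp hb))
      calc b * b = y * ((y⁻¹ * b * y) ^ 2) * y⁻¹ := by rw [pow_two]; group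
        _ = 1 := by rw [h6.2.2, mul_one, mul_inv_cancel]
    rw [h5]
    exact one_mem _
  · intro h0
    have h1 := hl.even.acts_unique (three_le (by omega)) (hl.even.acts_one_iff.mpr h0) hbs
    exact hij (Equiv.swap_eq_one_iff.mp h1.symm)

/-- **`NatBig` does not occur.** -/
theorem natBig_false (hG : IsCharacteristicTwoType G) (hm : 3 ≤ m) (hl : Lab S P₁ P₂ y m ε)
    (h4 : Nat.card (zl (S : Subgroup G) P₂) = 4) : False := by
  have hn5 : 5 ≤ 2 ^ m + 1 := five_le (by omega)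
  have hn3 : 3 ≤ 2 ^ m + 1 := by omega
  have hh := hyp hG hm hl h4
  by_cases h2 : H2 ε
  · obtain ⟨b, hb, i, j, hij, hbs, hr⟩ := exists_b hG (by omega) hl h4
    have h7 : 7 ≤ 2 ^ m + 1 := by
      have : 2 ^ 3 ≤ 2 ^ m := Nat.pow_le_pow_right (by norm_num) hm
      omega
    have hs : NSix.AllFacts.Sit S (zl (S : Subgroup G) P₁) P₁ ε :=
      ⟨hG, hm, hl.even, hl.pair.star₁.le, hl.fix0, zc_le_zl _ _⟩
    have h1 := NSix.Zero.sixL hG hm hl.even S hl.pair.star₁.le hl.fix0 (zc_le_zl _ _)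
      (fun i j k hij hki hkj q hq => hs.pair hij hki hkj hq) (fun i j hij => hs.o2_le_P hij) h2 (by
        obtain ⟨i, j, hij, g, hg, -, hgV⟩ := hh.mov
        exact ⟨i, j, hij, g, hg, hgV⟩)
    have h3 := NSix.EndL.SixL.nn_le h1 (Even.add_one (Nat.even_pow.mpr ⟨even_two, by omega⟩)) h7 hij
    -- `y S y⁻¹` is Sylow in `N_G(V)`
    have h5 : cj y (S : Subgroup G) ≤ normalizer (zl (S : Subgroup G) P₁ : Set G) :=
      (cj_le_NN (by omega) hl hr).trans h3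
    have h6 : (S : Subgroup G) ≤ normalizer (zl (S : Subgroup G) P₁ : Set G) :=
      hl.pair.star₁.le.trans (le_normalizer_zl _ _)
    have hev := NSix.Norm.evenSet' (by omega) S hl.even hl.pair.star₁.le hl.fix0
    -- a conjugate of `r_ij` under `N_G(V)` is fixed by `S`
    have hyS : cj y (S : Subgroup G) = ((y • S : Sylow 2 G) : Subgroup G) := (NSix.NoTk.coe_smul S y).symm
    obtain ⟨g, hg, hgS⟩ := syl_conj (syl_of_sylow S h6)
      (T := cj y (S : Subgroup G)) (by rw [hyS]; exact syl_of_sylow _ (by rw [← hyS]; exact h5))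
    obtain ⟨σ, hσ⟩ := hev.perm g⁻¹ (inv_mem hg)
    have h8 := rr_conj hσ i j
    have hne : σ i ≠ σ j := fun e => hij (σ.injective e)
    have hfix : ∀ s ∈ (S : Subgroup G), s * rr ε (σ i) (σ j) = rr ε (σ i) (σ j) * s := by
      intro s hs
      have h9 : g * s * g⁻¹ ∈ cj y (S : Subgroup G) := by
        rw [← hgS, mem_cj]
        have : g⁻¹ * (g * s * g⁻¹) * g = s := by group
        rw [this]
        exact hs
      have h10 := mem_NN.mp (cj_le_NN (by omega) hl hr h9)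
      rw [← h8]
      calc s * (g⁻¹ * rr ε i j * g⁻¹⁻¹) = g⁻¹ * (g * s * g⁻¹ * rr ε i j) * g := by group
        _ = g⁻¹ * (rr ε i j * (g * s * g⁻¹)) * g := by rw [h10]
        _ = _ := by group
    rcases S5.Syl.fixed (by omega) hl.even hl.pair.star₁.le
      (MinSimple.Basic.not_dvd_relIndex S hl.pair.star₁.le) hl.fix0 (rr_mem hl.even _ _) hfix with h9 | h9
    · exact rr_ne_one hl.even hn3 hne h9
    · exact rr_ne_zz hl.even hn5 _ _ 0 h9
  · refine NSix.HT.EndMain.false_of (S := S) (P := P₁) (ε := ε) ⟨hG, hm, hl.pair.star₁, hh, hl.fix0, ?_⟩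
    exact fun i j k l hD hc => h2 fun a b c d hab hcd hac had hbc hbd =>
      hh.hq_of_comm (fun {_ _ _ _} hD' => hh.comm_transfer hD hD' hc) ⟨hab, hac, had, hbc, hbd, hcd⟩

/-! ### The leaf II.c -/

theorem natBig (K : Cls.{u}) : NatBig K := fun _ _ _ hG _ _ _ _ _ _ _ _ _ _ _ _ hm hl _ _ h4 =>
  (natBig_false hG.char2 hm hl h4).elim

/-- **II.c is closed**: no open input, for every class. -/
theorem leafC (K : Cls.{u}) : FrameMulti.LeafC K :=
  NTwo.Zero.leafC_of TTn.ttNon_main (natBig K) (NSix.HT.EndMain.symBig K)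

end Cfsg.Agent.Omega.S5.NatZero
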