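import Mathlib
import Cfsg.Prelude.Def_CaseTheorems

/-!
# II.c of project OMEGA: the even-subset module of degree `n`

`EvenSet n V L ε`: `V` is the permutation module `F₂ⁿ` modulo the all-one vector (for odd `n` this is the module of
the even subsets), written inside the ambient group by `ε`; every element of `L` permutes the coordinates, and every
permutation is induced by an element of `L`.  Labels: `ε (single i 1) = z_i` (= complement of the point `i`),
`z_i z_j = n_ij`.  `Acts ε g σ`: the element `g` acts on `V` as the permutation `σ`.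
-/

set_option autoImplicit false

namespace Cfsg.Agent.Omega.S5.Def

open Subgroup Pointwise

universe u

variable {G : Type u} [Group G]

/-- `g` acts on the labelled module as the permutation `σ` of the coordinates. -/
def Acts {n : ℕ} (ε : (Fin n → ZMod 2) → G) (g : G) (σ : Equiv.Perm (Fin n)) : Prop :=
  ∀ x, g * ε x * g⁻¹ = ε (x ∘ σ.symm)

/-- `V` is `F₂ⁿ` modulo the all-one vector, `L` acts as the full symmetric group on the coordinates. -/
structure EvenSet (n : ℕ) (V L : Subgroup G) (ε : (Fin n → ZMod 2) → G) : Prop where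
  add : ∀ x y, ε (x + y) = ε x * ε y
  mem : ∀ x, ε x ∈ V
  surj : ∀ v ∈ V, ∃ x, ε x = v
  ker : ∀ x, ε x = 1 ↔ x = 0 ∨ x = 1
  perm : ∀ g ∈ L, ∃ σ : Equiv.Perm (Fin n), Acts ε g σ
  full : ∀ σ : Equiv.Perm (Fin n), ∃ g ∈ L, Acts ε g σ

theorem add_self {n : ℕ} (x : Fin n → ZMod 2) : x + x = 0 :=
  funext fun i => CharTwo.add_self_eq_zero (x i)

theorem eq_of_add_eq_zero {n : ℕ} {x y : Fin n → ZMod 2} (h : x + y = 0) : x = y := by
  calc x = x + (y + y) := by rw [add_self, add_zero]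
    _ = x + y + y := (add_assoc _ _ _).symm
    _ = y := by rw [h, zero_add]

/-! ### `Acts` -/

section Acts

variable {n : ℕ} {ε : (Fin n → ZMod 2) → G} {g h : G} {σ τ : Equiv.Perm (Fin n)}

theorem Acts.one : Acts ε (1 : G) 1 := fun x => by
  rw [one_mul, inv_one, mul_one]
  rfl

theorem Acts.mul (hg : Acts ε g σ) (hh : Acts ε h τ) : Acts ε (g * h) (σ * τ) := fun x => by
  calc g * h * ε x * (g * h)⁻¹ = g * (h * ε x * h⁻¹) * g⁻¹ := by group
    _ = g * ε (x ∘ τ.symm) * g⁻¹ := by rw [hh x]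
    _ = ε ((x ∘ τ.symm) ∘ σ.symm) := hg _
    _ = ε (x ∘ (σ * τ).symm) := rfl

theorem Acts.inv (hg : Acts ε g σ) : Acts ε g⁻¹ σ⁻¹ := fun x => by
  have h1 := hg (x ∘ σ)
  have h2 : (x ∘ σ) ∘ σ.symm = x := by
    funext i
    simp
  rw [h2] at h1
  rw [← h1]
  have h3 : x ∘ (σ⁻¹).symm = x ∘ σ := rfl
  rw [h3]
  group

theorem Acts.conj (hg : Acts ε g σ) (hh : Acts ε h τ) : Acts ε (g * h * g⁻¹) (σ * τ * σ⁻¹) :=
  (hg.mul hh).mul hg.inv

theorem Acts.single (hg : Acts ε g σ) (i : Fin n) :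
    g * ε (Pi.single i 1) * g⁻¹ = ε (Pi.single (σ i) 1) := by
  rw [hg]
  congr 1
  funext j
  by_cases hj : j = σ i
  · subst hj
    simp
  · have h1 : σ.symm j ≠ i := fun h0 => hj (by rw [← h0, Equiv.apply_symm_apply])
    simp [Function.comp, hj, h1]

theorem Acts.conj_label (c : G) (hg : Acts ε g σ) :
    Acts (fun x => c * ε x * c⁻¹) (c * g * c⁻¹) σ := fun x => by
  calc c * g * c⁻¹ * (c * ε x * c⁻¹) * (c * g * c⁻¹)⁻¹ = c * (g * ε x * g⁻¹) * c⁻¹ := by group
    _ = _ := by rw [hg x]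

theorem acts_conj_label_iff (c : G) :
    Acts (fun x => c * ε x * c⁻¹) (c * g * c⁻¹) σ ↔ Acts ε g σ := by
  refine ⟨fun h x => ?_, fun h => h.conj_label c⟩
  have h1 := h x
  have h2 : c * (g * ε x * g⁻¹) * c⁻¹ = c * ε (x ∘ σ.symm) * c⁻¹ := by
    calc c * (g * ε x * g⁻¹) * c⁻¹ = c * g * c⁻¹ * (c * ε x * c⁻¹) * (c * g * c⁻¹)⁻¹ := by group
      _ = _ := h1
  exact mul_left_cancel (mul_right_cancel h2)

/-- relabelling: coordinate `i` is called `τ i`. -/
theorem Acts.relabel (τ : Equiv.Perm (Fin n)) (hg : Acts ε g σ) :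
    Acts (fun x => ε (x ∘ τ)) g (τ * σ * τ⁻¹) := fun x => by
  have h1 := hg (x ∘ τ)
  change g * ε (x ∘ τ) * g⁻¹ = ε ((x ∘ (τ * σ * τ⁻¹).symm) ∘ τ)
  rw [h1]
  congr 1
  funext i
  simp [Function.comp, Equiv.Perm.mul_def, Equiv.Perm.inv_def]

end Acts

/-! ### Elementary facts -/

namespace EvenSet

variable {n : ℕ} {V L : Subgroup G} {ε : (Fin n → ZMod 2) → G} (h : EvenSet n V L ε)
include h

theorem zero : ε 0 = 1 := (h.ker 0).mpr (Or.inl rfl)

theorem one : ε 1 = 1 := (h.ker 1).mpr (Or.inr rfl)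

theorem comm (x y : Fin n → ZMod 2) : ε x * ε y = ε y * ε x := by
  rw [← h.add, ← h.add, add_comm]

theorem sq (x : Fin n → ZMod 2) : ε x * ε x = 1 := by
  rw [← h.add, add_self, h.zero]

theorem inv (x : Fin n → ZMod 2) : (ε x)⁻¹ = ε x := inv_eq_of_mul_eq_one_left (h.sq x)

theorem comm_mem {v w : G} (hv : v ∈ V) (hw : w ∈ V) : v * w = w * v := by
  obtain ⟨x, rfl⟩ := h.surj v hv
  obtain ⟨y, rfl⟩ := h.surj w hw
  exact h.comm x y

theorem sq_mem {v : G} (hv : v ∈ V) : v * v = 1 := by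
  obtain ⟨x, rfl⟩ := h.surj v hv
  exact h.sq x

theorem eq_iff {x y : Fin n → ZMod 2} : ε x = ε y ↔ x = y ∨ x = y + 1 := by
  constructor
  · intro h0
    have h1 : ε (x + y) = 1 := by rw [h.add, h0, h.sq]
    rcases (h.ker _).mp h1 with h2 | h2
    · exact Or.inl (eq_of_add_eq_zero h2)
    · right
      rw [← h2, add_comm x y, ← add_assoc, add_self, zero_add]
  · rintro (rfl | rfl)
    · rfl
    · rw [h.add, h.one, mul_one]

theorem le_normalizer : L ≤ normalizer (V : Set G) := by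
  intro g hg
  have key : ∀ g ∈ L, ∀ v ∈ V, g * v * g⁻¹ ∈ V := by
    intro g hg v hv
    obtain ⟨x, rfl⟩ := h.surj v hv
    obtain ⟨σ, hσ⟩ := h.perm g hg
    rw [hσ x]
    exact h.mem _
  rw [mem_normalizer_iff]
  refine fun v => ⟨key g hg v, fun hv => ?_⟩
  have h1 := key g⁻¹ (L.inv_mem hg) _ hv
  have h2 : g⁻¹ * (g * v * g⁻¹) * g⁻¹⁻¹ = v := by group
  rwa [h2] at h1

theorem isPGroup : IsPGroup 2 V := by
  intro v
  refine ⟨1, ?_⟩
  rw [pow_one, pow_two]
  exact Subtype.ext (h.sq_mem v.2)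

/-- The points are different and not trivial (`3 ≤ n`). -/
theorem single_inj (hn : 3 ≤ n) {i j : Fin n} (hij : ε (Pi.single i 1) = ε (Pi.single j 1)) : i = j := by
  by_contra hne
  rcases h.eq_iff.mp hij with h1 | h1
  · have h2 := congrFun h1 i
    rw [Pi.single_eq_same, Pi.single_eq_of_ne hne] at h2
    exact one_ne_zero h2
  · have hcard : ({i, j} : Finset (Fin n)).card < (Finset.univ : Finset (Fin n)).card := by
      rw [Finset.card_univ, Fintype.card_fin]
      exact lt_of_le_of_lt Finset.card_le_two (by omega)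
    obtain ⟨k, -, hk⟩ := Finset.exists_mem_notMem_of_card_lt_card hcard
    simp only [Finset.mem_insert, Finset.mem_singleton, not_or] at hk
    have h2 := congrFun h1 k
    rw [Pi.add_apply, Pi.single_eq_of_ne hk.1, Pi.single_eq_of_ne hk.2, zero_add, Pi.one_apply] at h2
    exact zero_ne_one h2

theorem single_ne_one (hn : 3 ≤ n) (i : Fin n) : ε (Pi.single i 1) ≠ 1 := by
  intro h0
  rcases (h.ker _).mp h0 with h1 | h1
  · have h2 := congrFun h1 i
    rw [Pi.single_eq_same] at h2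
    exact one_ne_zero h2
  · have hcard : ({i} : Finset (Fin n)).card < (Finset.univ : Finset (Fin n)).card := by
      rw [Finset.card_univ, Fintype.card_fin, Finset.card_singleton]
      omega
    obtain ⟨k, -, hk⟩ := Finset.exists_mem_notMem_of_card_lt_card hcard
    rw [Finset.mem_singleton] at hk
    have h2 := congrFun h1 k
    rw [Pi.single_eq_of_ne hk, Pi.one_apply] at h2
    exact zero_ne_one h2

/-- The permutation is determined (`3 ≤ n`). -/
theorem acts_unique (hn : 3 ≤ n) {g : G} {σ τ : Equiv.Perm (Fin n)} (hσ : Acts ε g σ) (hτ : Acts ε g τ) :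
    σ = τ := by
  ext i
  congr 1
  refine h.single_inj hn ?_
  rw [← hσ.single, ← hτ.single]

/-- An element acting as the identity centralises `V`. -/
theorem acts_one_iff {g : G} : Acts ε g 1 ↔ g ∈ centralizer (V : Set G) := by
  rw [mem_centralizer_iff]
  constructor
  · intro h1 v hv
    obtain ⟨x, rfl⟩ := h.surj v hv
    have h2 : g * ε x * g⁻¹ = ε x := h1 x
    calc ε x * g = g * ε x * g⁻¹ * g := by rw [h2]
      _ = g * ε x := by group
  · intro h1 x
    change g * ε x * g⁻¹ = ε x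
    rw [← h1 _ (h.mem x), mul_inv_cancel_right]

/-- Two elements acting as the same permutation differ by an element of `C(V)`. -/
theorem mem_centralizer_of_acts {g k : G} {σ : Equiv.Perm (Fin n)} (hg : Acts ε g σ) (hk : Acts ε k σ) :
    k⁻¹ * g ∈ centralizer (V : Set G) := by
  rw [← h.acts_one_iff, ← inv_mul_cancel σ]
  exact hk.inv.mul hg

theorem fixes_iff (hn : 3 ≤ n) {g : G} {σ : Equiv.Perm (Fin n)} (hσ : Acts ε g σ) (i : Fin n) :
    g * ε (Pi.single i 1) = ε (Pi.single i 1) * g ↔ σ i = i := by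
  constructor
  · intro h1
    refine h.single_inj hn ?_
    rw [← hσ.single, h1, mul_inv_cancel_right]
  · intro h1
    have h2 := hσ.single i
    rw [h1] at h2
    calc g * ε (Pi.single i 1) = g * ε (Pi.single i 1) * g⁻¹ * g := by group
      _ = _ := by rw [h2]

/-- The same module for a larger or smaller group with the same image. -/
theorem change {L' : Subgroup G} (h1 : ∀ g ∈ L', ∃ σ, Acts ε g σ)
    (h2 : ∀ σ : Equiv.Perm (Fin n), ∃ g ∈ L', Acts ε g σ) : EvenSet n V L' ε :=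
  ⟨h.add, h.mem, h.surj, h.ker, h1, h2⟩

/-- Relabelling. -/
theorem relabel (τ : Equiv.Perm (Fin n)) : EvenSet n V L (fun x => ε (x ∘ τ)) where
  add x y := h.add (x ∘ τ) (y ∘ τ)
  mem x := h.mem _
  surj v hv := by
    obtain ⟨x, rfl⟩ := h.surj v hv
    refine ⟨x ∘ τ.symm, congrArg ε ?_⟩
    funext i
    simp
  ker x := by
    rw [h.ker]
    constructor
    · rintro (h1 | h1)
      · left
        funext i
        have h2 := congrFun h1 (τ.symm i)
        simpa using h2
      · right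
        funext i
        have h2 := congrFun h1 (τ.symm i)
        simpa using h2
    · rintro (rfl | rfl)
      · left
        rfl
      · right
        rfl
  perm g hg := by
    obtain ⟨σ, hσ⟩ := h.perm g hg
    exact ⟨_, hσ.relabel τ⟩
  full σ := by
    obtain ⟨g, hg, hσ⟩ := h.full (τ⁻¹ * σ * τ)
    refine ⟨g, hg, ?_⟩
    have h1 := hσ.relabel τ
    have h2 : τ * (τ⁻¹ * σ * τ) * τ⁻¹ = σ := by group
    rwa [h2] at h1

omit [Group G] h in
theorem relabel_single (τ : Equiv.Perm (Fin n)) (i : Fin n) :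
    (fun x => ε (x ∘ τ)) (Pi.single (τ i) 1) = ε (Pi.single i 1) := by
  change ε ((Pi.single (τ i) 1 : Fin n → ZMod 2) ∘ τ) = _
  congr 1
  funext j
  by_cases hj : j = i
  · subst hj
    simp
  · have h1 : τ j ≠ τ i := fun h0 => hj (τ.injective h0)
    simp [hj, h1]

/-- Conjugation. -/
theorem conj (c : G) : EvenSet n (MulAut.conj c • V) (MulAut.conj c • L) (fun x => c * ε x * c⁻¹) where
  add x y := by
    rw [h.add]
    group
  mem x := smul_mem_pointwise_smul _ _ _ (h.mem x)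
  surj v hv := by
    obtain ⟨w, hw, rfl⟩ := mem_smul_pointwise_iff_exists _ _ _ |>.mp hv
    obtain ⟨x, rfl⟩ := h.surj w hw
    exact ⟨x, rfl⟩
  ker x := by
    rw [← h.ker, mul_inv_eq_one, mul_eq_left]
  perm g hg := by
    obtain ⟨k, hk, rfl⟩ := mem_smul_pointwise_iff_exists _ _ _ |>.mp hg
    obtain ⟨σ, hσ⟩ := h.perm k hk
    exact ⟨σ, hσ.conj_label c⟩
  full σ := by
    obtain ⟨g, hg, hσ⟩ := h.full σ
    exact ⟨c * g * c⁻¹, smul_mem_pointwise_smul _ _ _ hg, hσ.conj_label c⟩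

/-! ### The homomorphism to the symmetric group -/

/-- The permutation induced by `g ∈ L`. -/
noncomputable def sg {g : G} (hg : g ∈ L) : Equiv.Perm (Fin n) := (h.perm g hg).choose

theorem sg_acts {g : G} (hg : g ∈ L) : Acts ε g (h.sg hg) := (h.perm g hg).choose_spec

theorem sg_eq (hn : 3 ≤ n) {g : G} (hg : g ∈ L) {σ : Equiv.Perm (Fin n)} (hσ : Acts ε g σ) : h.sg hg = σ :=
  h.acts_unique hn (h.sg_acts hg) hσ

/-- The homomorphism `L → Sym(n)`. -/
noncomputable def hom (hn : 3 ≤ n) : L →* Equiv.Perm (Fin n) where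
  toFun g := h.sg g.2
  map_one' := h.sg_eq hn _ Acts.one
  map_mul' a b := h.sg_eq hn _ ((h.sg_acts a.2).mul (h.sg_acts b.2))

theorem acts_hom (hn : 3 ≤ n) (g : L) : Acts ε (g : G) (h.hom hn g) := h.sg_acts g.2

theorem hom_eq (hn : 3 ≤ n) {g : L} {σ : Equiv.Perm (Fin n)} (hσ : Acts ε (g : G) σ) : h.hom hn g = σ :=
  h.sg_eq hn g.2 hσ

theorem hom_surjective (hn : 3 ≤ n) : Function.Surjective (h.hom hn) := by
  intro σ
  obtain ⟨g, hg, hσ⟩ := h.full σ
  exact ⟨⟨g, hg⟩, h.hom_eq hn hσ⟩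

end EvenSet

end Cfsg.Agent.Omega.S5.Def
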